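import Mathlib
import Cfsg.Prelude.Def_CaseTheorems

/-!
# `PRankLE` for subgroups, internal characterisation; conjugation helpers
-/

set_option autoImplicit false

namespace Cfsg.Agent.Helper19

open Cfsg

variable {G : Type*} [Group G]

/-- Internal characterisation of `PRankLE p j ↥Y` for a subgroup `Y`. -/
theorem prankLE_subgroup_iff (p j : ℕ) (Y : Subgroup G) :
    PRankLE p j ↥Y ↔ ∀ X : Subgroup G, X ≤ Y → (∀ a ∈ X, ∀ b ∈ X, a * b = b * a) →
      (∀ a ∈ X, a ^ p = 1) → Nat.card X ≤ p ^ j := by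
  constructor
  · intro h X hXY hc he
    have hcomm : IsMulCommutative (X.subgroupOf Y) := by
      rw [isMulCommutative_iff]
      rintro ⟨a, ha⟩ ⟨b, hb⟩
      apply Subtype.ext
      apply Subtype.ext
      exact hc _ ha _ hb
    have hexp : ∀ a ∈ X.subgroupOf Y, a ^ p = 1 := by
      intro a ha
      apply Subtype.ext
      exact he _ ha
    have := h (X.subgroupOf Y) hcomm hexp
    rwa [Nat.card_congr (Subgroup.subgroupOfEquivOfLe hXY).toEquiv] at this
  · intro h A hA he
    have hinj : Function.Injective Y.subtype := Subgroup.subtype_injective Y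
    have := h (A.map Y.subtype) (Subgroup.map_subtype_le A) ?_ ?_
    · rwa [Subgroup.card_map_of_injective hinj] at this
    · rintro _ ⟨a, ha, rfl⟩ _ ⟨b, hb, rfl⟩
      have hab : (⟨a, ha⟩ : A) * ⟨b, hb⟩ = ⟨b, hb⟩ * ⟨a, ha⟩ :=
        (isMulCommutative_iff.1 hA) _ _
      have hab' : a * b = b * a := congrArg Subtype.val hab
      rw [← map_mul, ← map_mul, hab']
    · rintro _ ⟨a, ha, rfl⟩
      rw [← map_pow, he a ha, map_one]

theorem prankLE_mono {p j : ℕ} {X Y : Subgroup G} (hXY : X ≤ Y) (h : PRankLE p j ↥Y) :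
    PRankLE p j ↥X := by
  rw [prankLE_subgroup_iff] at *
  intro Z hZ hc he
  exact h Z (hZ.trans hXY) hc he

/-- Membership in a conjugate subgroup. -/
theorem mem_map_conj {K : Subgroup G} {g x : G} :
    x ∈ K.map (MulAut.conj g).toMonoidHom ↔ g⁻¹ * x * g ∈ K := by
  constructor
  · rintro ⟨y, hy, rfl⟩
    simpa [MulAut.conj_apply, mul_assoc] using hy
  · intro h
    exact ⟨g⁻¹ * x * g, h, by simp [MulAut.conj_apply, mul_assoc]⟩

theorem map_conj_le_map_conj {K L : Subgroup G} (g : G) (h : K ≤ L) :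
    K.map (MulAut.conj g).toMonoidHom ≤ L.map (MulAut.conj g).toMonoidHom :=
  Subgroup.map_mono h

theorem card_map_conj (K : Subgroup G) (g : G) :
    Nat.card (K.map (MulAut.conj g).toMonoidHom) = Nat.card K :=
  Subgroup.card_map_of_injective (MulAut.conj g).injective

theorem map_conj_map_conj (K : Subgroup G) (g h : G) :
    (K.map (MulAut.conj g).toMonoidHom).map (MulAut.conj h).toMonoidHom
      = K.map (MulAut.conj (h * g)).toMonoidHom := by
  ext x
  simp only [mem_map_conj]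
  simp [mul_assoc]

theorem map_conj_one (K : Subgroup G) : K.map (MulAut.conj (1 : G)).toMonoidHom = K := by
  ext x
  rw [mem_map_conj]
  simp

/-- `PRankLE` is invariant under conjugation (one direction suffices by symmetry). -/
theorem prankLE_of_map_conj {p j : ℕ} {X : Subgroup G} (g : G)
    (h : PRankLE p j ↥(X.map (MulAut.conj g).toMonoidHom)) : PRankLE p j ↥X := by
  rw [prankLE_subgroup_iff] at *
  intro Z hZ hc he
  have := h (Z.map (MulAut.conj g).toMonoidHom) (Subgroup.map_mono hZ) ?_ ?_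
  · rwa [card_map_conj] at this
  · rintro _ ⟨a, ha, rfl⟩ _ ⟨b, hb, rfl⟩
    rw [← map_mul, ← map_mul, hc a ha b hb]
  · rintro _ ⟨a, ha, rfl⟩
    rw [← map_pow, he a ha, map_one]

theorem prankLE_map_conj_iff {p j : ℕ} {X : Subgroup G} (g : G) :
    PRankLE p j ↥(X.map (MulAut.conj g).toMonoidHom) ↔ PRankLE p j ↥X := by
  refine ⟨prankLE_of_map_conj g, fun h => ?_⟩
  apply prankLE_of_map_conj g⁻¹
  rw [map_conj_map_conj, inv_mul_cancel, map_conj_one]
  exact h

theorem isPGroup_map_conj {p : ℕ} {K : Subgroup G} (hK : IsPGroup p K) (g : G) :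
    IsPGroup p (K.map (MulAut.conj g).toMonoidHom) :=
  hK.map _

/-- Normalizer of a conjugate. -/
theorem normalizer_map_conj (K : Subgroup G) (g : G) :
    Subgroup.normalizer ((K.map (MulAut.conj g).toMonoidHom : Subgroup G) : Set G)
      = (Subgroup.normalizer (K : Set G)).map (MulAut.conj g).toMonoidHom := by
  ext x
  rw [mem_map_conj, Subgroup.mem_normalizer_iff, Subgroup.mem_normalizer_iff]
  constructor
  · intro h y
    have := h (g * y * g⁻¹)
    simp only [mem_map_conj] at this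
    have e1 : g⁻¹ * (g * y * g⁻¹) * g = y := by group
    have e2 : g⁻¹ * (x * (g * y * g⁻¹) * x⁻¹) * g = g⁻¹ * x * g * y * (g⁻¹ * x * g)⁻¹ := by
      group
    rw [e1, e2] at this
    exact this
  · intro h y
    have := h (g⁻¹ * y * g)
    simp only [mem_map_conj] at *
    have e2 : g⁻¹ * x * g * (g⁻¹ * y * g) * (g⁻¹ * x * g)⁻¹ = g⁻¹ * (x * y * x⁻¹) * g := by
      group
    rw [e2] at this
    exact this

/-- Every `p`-subgroup of `H` is `H`-conjugate into a given Sylow `p`-subgroup of `H`. -/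
theorem exists_conj_le_sylow {p : ℕ} [Fact p.Prime] [Finite G] (H : Subgroup G)
    (P : Sylow p ↥H) {Q : Subgroup G} (hQH : Q ≤ H) (hQ : IsPGroup p Q) :
    ∃ h ∈ H, Q.map (MulAut.conj h).toMonoidHom ≤ (P : Subgroup ↥H).map H.subtype := by
  have hQ' : IsPGroup p (Q.subgroupOf H) := hQ.comap_subtype
  obtain ⟨S, hS⟩ := hQ'.exists_le_sylow
  obtain ⟨h, hh⟩ := MulAction.exists_smul_eq ↥H S P
  refine ⟨h, h.2, ?_⟩
  rintro _ ⟨x, hx, rfl⟩
  refine ⟨h * ⟨x, hQH hx⟩ * h⁻¹, ?_, by simp [MulAut.conj_apply]⟩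
  have hxS : (⟨x, hQH hx⟩ : ↥H) ∈ (S : Subgroup ↥H) := hS (Subgroup.mem_subgroupOf.2 hx)
  have := Subgroup.smul_mem_pointwise_smul _ (MulAut.conj h) _ hxS
  rw [← Sylow.coe_subgroup_smul, hh] at this
  simp only [MulAut.smul_def, MulAut.conj_apply] at this
  exact this

/-- Normalizers grow in `p`-groups (stated inside an ambient group). -/
theorem lt_inf_normalizer_of_lt {p : ℕ} [Fact p.Prime] [Finite G] {Q R : Subgroup G}
    (hR : IsPGroup p R) (hlt : Q < R) : Q < R ⊓ Subgroup.normalizer (Q : Set G) := by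
  have hnil : Group.IsNilpotent ↥R := hR.isNilpotent
  have hnc : NormalizerCondition ↥R := Group.normalizerCondition_of_isNilpotent
  have hlt' : Q.subgroupOf R < ⊤ := by
    rw [lt_top_iff_ne_top]
    intro htop
    rw [Subgroup.subgroupOf_eq_top] at htop
    exact (not_le_of_gt hlt) htop
  have := hnc _ hlt'
  obtain ⟨x, hxN, hxQ⟩ := SetLike.exists_of_lt this
  refine lt_of_le_of_ne (le_inf hlt.le Subgroup.le_normalizer) ?_
  intro heq
  apply hxQ
  rw [Subgroup.mem_subgroupOf]
  rw [heq]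
  rw [Subgroup.mem_normalizer_iff] at hxN
  refine Subgroup.mem_inf.2 ⟨x.2, ?_⟩
  rw [Subgroup.mem_normalizer_iff]
  intro y
  constructor
  · intro hy
    have hyR : y ∈ R := hlt.le hy
    have := (hxN ⟨y, hyR⟩).1 (Subgroup.mem_subgroupOf.2 hy)
    exact Subgroup.mem_subgroupOf.1 this
  · intro hy
    have hyR : y ∈ R := by
      have h1 : (x : G) * y * (x : G)⁻¹ ∈ R := hlt.le hy
      have h2 : y = (x : G)⁻¹ * ((x : G) * y * (x : G)⁻¹) * (x : G) := by group
      rw [h2]
      exact R.mul_mem (R.mul_mem (R.inv_mem x.2) h1) x.2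
    have := (hxN ⟨y, hyR⟩).2 (Subgroup.mem_subgroupOf.2 hy)
    exact Subgroup.mem_subgroupOf.1 this

theorem card_lt_card_of_lt [Finite G] {Q R : Subgroup G} (hlt : Q < R) :
    Nat.card Q < Nat.card R := by
  by_contra h
  push Not at h
  exact hlt.ne (Subgroup.eq_of_le_of_card_ge hlt.le h)

end Cfsg.Agent.Helper19
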