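import Cfsg.Agent.Lib.Helper1.CD3.Defs
import Mathlib

/-!
# CD3B (helper1 server, S4460), piece G2: a normal Hall subgroup of a normal subgroup is normal.
-/

set_option autoImplicit false

namespace Cfsg.Agent.Helper19.CD3B

open Cfsg Cfsg.Agent.Helper81 Cfsg.Agent.Helper1.CD3

universe u

/-- (G2) [EASY-MED] a normal Hall subgroup is characteristic, hence normal in any overgroup normalising `F`:
if `R₀ ⊴ F` (as a subgroup of `↥F`) has order prime to its index and `F ⊴ G`, then `R₀.map F.subtype ⊴ G`. -/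
theorem normal_hall_map {G : Type u} [Group G] [Finite G] (F : Subgroup G) (hF : F.Normal)
    (R₀ : Subgroup F) (hR₀ : R₀.Normal) (hcop : (Nat.card R₀).Coprime R₀.index) :
    (R₀.map F.subtype).Normal := by
  constructor
  intro n hn g
  rw [Subgroup.mem_map] at hn
  obtain ⟨r, hr, rfl⟩ := hn
  have hyF : g * (F.subtype r) * g⁻¹ ∈ F := hF.conj_mem _ r.2 g
  refine Subgroup.mem_map.mpr ⟨⟨g * (F.subtype r) * g⁻¹, hyF⟩, ?_, rfl⟩
  obtain ⟨y, hy⟩ : ∃ y : ↥F, y = ⟨g * (F.subtype r) * g⁻¹, hyF⟩ := ⟨_, rfl⟩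
  rw [← hy]
  have hord : orderOf y = orderOf r := by
    rw [← Subgroup.orderOf_coe y, ← Subgroup.orderOf_coe r, hy]
    exact (SemiconjBy.orderOf_eq g (show SemiconjBy g (r : G) (g * (r : G) * g⁻¹) by
      unfold SemiconjBy; group)).symm
  have h1 : orderOf (QuotientGroup.mk' R₀ y) ∣ Nat.card R₀ := by
    refine (orderOf_map_dvd (QuotientGroup.mk' R₀) y).trans ?_
    rw [hord]
    exact Subgroup.orderOf_dvd_natCard R₀ hr
  have h2 : orderOf (QuotientGroup.mk' R₀ y) ∣ R₀.index := by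
    rw [Subgroup.index_eq_card]
    exact orderOf_dvd_natCard _
  have h3 : orderOf (QuotientGroup.mk' R₀ y) = 1 :=
    Nat.eq_one_of_dvd_coprimes hcop h1 h2
  rw [orderOf_eq_one_iff] at h3
  exact (QuotientGroup.eq_one_iff y).mp h3

end Cfsg.Agent.Helper19.CD3B
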