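import Cfsg.Agent.Lib.Helper1.CD3.Defs
import Mathlib

/-!
# CD3B (helper1 server, S4460), piece P2: `Φ' ≤ [R,Φ] P'`.
-/

set_option autoImplicit false

namespace Cfsg.Agent.Helper19.CD3B

open Cfsg Cfsg.Agent.Helper81 Cfsg.Agent.Helper1.CD3

open scoped commutatorElement

universe u

/-- (P2) [MED] `Φ' ≤ [R,Φ] P'`.  Proof: `W := ⁅R,⊤⁆` is normal; in `Φ/W` the image of `R` is central and `Φ = R P`, so
`(Φ/W)' = (P W/W)'`; pull back.  Pure group theory (no characters, no `h2`). -/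
theorem der_le {Φ : Type u} [Group Φ] [Finite Φ] (p : ℕ) [Fact p.Prime]
    (R : Subgroup Φ) (hR : R.Normal) (hRc : (Nat.card R).Coprime p) (hRi : ∃ k : ℕ, R.index = p ^ k)
    (P : Sylow p Φ) :
    commutator Φ ≤ ⁅R, (⊤ : Subgroup Φ)⁆ ⊔ ⁅(P : Subgroup Φ), (P : Subgroup Φ)⁆ := by
  have hp : p.Prime := Fact.out
  -- `Φ = R P`
  have hsup : R ⊔ (P : Subgroup Φ) = ⊤ := by
    obtain ⟨k, hk⟩ := hRi
    have h1 : (R ⊔ (P : Subgroup Φ)).index ∣ R.index := Subgroup.index_dvd_of_le le_sup_left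
    have h2 : (R ⊔ (P : Subgroup Φ)).index ∣ (P : Subgroup Φ).index :=
      Subgroup.index_dvd_of_le le_sup_right
    have h3 : ¬ p ∣ (P : Subgroup Φ).index := P.not_dvd_index
    rw [hk] at h1
    obtain ⟨j, _, hj⟩ := (Nat.dvd_prime_pow hp).mp h1
    rcases Nat.eq_zero_or_pos j with hj0 | hjpos
    · rw [hj0, pow_zero] at hj
      exact Subgroup.index_eq_one.mp hj
    · exfalso
      apply h3
      refine dvd_trans ?_ h2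
      rw [hj]
      exact dvd_pow_self p hjpos.ne'
  have hWn : (⁅R, (⊤ : Subgroup Φ)⁆).Normal := by infer_instance
  have hW : ∀ r ∈ R, ∀ g : Φ, ⁅r, g⁆ ∈ ⁅R, (⊤ : Subgroup Φ)⁆ :=
    fun r hr g => Subgroup.commutator_mem_commutator hr (Subgroup.mem_top g)
  have hW' : ∀ r ∈ R, ∀ g : Φ, ⁅g, r⁆ ∈ ⁅R, (⊤ : Subgroup Φ)⁆ := by
    intro r hr g
    rw [← commutatorElement_inv]
    exact Subgroup.inv_mem _ (hW r hr g)
  rw [commutator_def, Subgroup.commutator_le]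
  intro a _ b _
  have ha : a ∈ R ⊔ (P : Subgroup Φ) := by rw [hsup]; exact Subgroup.mem_top a
  have hb : b ∈ R ⊔ (P : Subgroup Φ) := by rw [hsup]; exact Subgroup.mem_top b
  rw [← SetLike.mem_coe, Subgroup.normal_mul, Set.mem_mul] at ha hb
  obtain ⟨r₁, hr₁, x₁, hx₁, rfl⟩ := ha
  obtain ⟨r₂, hr₂, x₂, hx₂, rfl⟩ := hb
  have hd : ⁅x₁, x₂⁆ ∈ ⁅(P : Subgroup Φ), (P : Subgroup Φ)⁆ :=
    Subgroup.commutator_mem_commutator hx₁ hx₂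
  have e : ⁅r₁ * x₁, r₂ * x₂⁆ =
      (⁅r₁, ⁅x₁, r₂ * x₂⁆⁆ * ⁅x₁, r₂⁆ * ⁅r₂, ⁅x₁, x₂⁆⁆ *
        (⁅x₁, x₂⁆ * ⁅r₁, r₂ * x₂⁆ * ⁅x₁, x₂⁆⁻¹)) * ⁅x₁, x₂⁆ := by
    simp only [commutatorElement_def]
    group
  rw [e]
  refine Subgroup.mul_mem_sup ?_ hd
  refine Subgroup.mul_mem _ (Subgroup.mul_mem _ (Subgroup.mul_mem _ (hW r₁ hr₁ _) (hW' r₂ hr₂ _))
    (hW r₂ hr₂ _)) ?_
  exact hWn.conj_mem _ (hW r₁ hr₁ _) _

end Cfsg.Agent.Helper19.CD3B
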