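import Mathlib

/-!
Piece (E3a) `cw_bound` of helper1's lemma server "HIG" (rows S1138 / S5214):
Chevalley-Warning bound `|P/Z| ≤ |Z|^2` for the quadratic squaring map.
-/

set_option autoImplicit false

namespace Cfsg.Agent.Helper19.Hig

open scoped commutatorElement

/-- In a finite elementary abelian 2-group (additive) of order at least `2 ^ k` there are `k`
independent vectors. -/
theorem exists_indep (V : Type*) [AddCommGroup V] [Finite V] (h2 : ∀ v : V, 2 • v = 0) (k : ℕ)
    (hk : 2 ^ k < 2 * Nat.card V) :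
    ∃ b : Fin k → V, ∀ e : Fin k → ZMod 2, ∑ i, (e i).val • b i = 0 → e = 0 := by
  classical
  let _ : Module (ZMod 2) V := AddCommGroup.zmodModule h2
  have : Module.Finite (ZMod 2) V := Module.Finite.of_finite
  have hcard : Nat.card V = 2 ^ Module.finrank (ZMod 2) V := by
    rw [Module.natCard_eq_pow_finrank (K := ZMod 2) (V := V)]
    simp
  have hle : k ≤ Module.finrank (ZMod 2) V := by
    rw [hcard, ← pow_succ'] at hk
    exact Nat.lt_succ_iff.1 ((Nat.pow_lt_pow_iff_right (by norm_num)).1 hk)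
  let B := Module.finBasis (ZMod 2) V
  have hli : LinearIndependent (ZMod 2) (fun i : Fin k => B (Fin.castLE hle i)) :=
    B.linearIndependent.comp _ (Fin.castLE_injective hle)
  refine ⟨fun i => B (Fin.castLE hle i), fun e he => ?_⟩
  rw [Fintype.linearIndependent_iff] at hli
  funext i
  refine hli e ?_ i
  rw [← he]
  refine Finset.sum_congr rfl fun i _ => ?_
  rw [← Nat.cast_smul_eq_nsmul (ZMod 2), ZMod.natCast_zmod_val]

/-- Coordinates on a finite elementary abelian 2-group of order `2 ^ k`. -/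
theorem exists_coords (W : Type*) [AddCommGroup W] [Finite W] (h2 : ∀ w : W, 2 • w = 0) (k : ℕ)
    (hk : Nat.card W = 2 ^ k) :
    ∃ l : Fin k → (W →+ ZMod 2), ∀ w, (∀ a, l a w = 0) → w = 0 := by
  classical
  let _ : Module (ZMod 2) W := AddCommGroup.zmodModule h2
  have : Module.Finite (ZMod 2) W := Module.Finite.of_finite
  have hcard : Nat.card W = 2 ^ Module.finrank (ZMod 2) W := by
    rw [Module.natCard_eq_pow_finrank (K := ZMod 2) (V := W)]
    simp
  have hfr : Module.finrank (ZMod 2) W = k := by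
    rw [hcard] at hk
    exact Nat.pow_right_injective (le_refl 2) hk
  let B := (Module.finBasis (ZMod 2) W).reindex (finCongr hfr)
  refine ⟨fun a => ((LinearMap.proj a).comp B.equivFun.toLinearMap).toAddMonoidHom, fun w hw => ?_⟩
  have : B.equivFun w = 0 := by
    funext a
    exact hw a
  exact B.equivFun.map_eq_zero_iff.1 this


theorem zmod2_cases (c : ZMod 2) : c = 0 ∨ c = 1 := by
  revert c; decide

section Poly

variable {k : ℕ}

/-- the `i`-th coordinate of `e`, `0` beyond `k` -/
def eN (e : Fin k → ZMod 2) (i : ℕ) : ZMod 2 := if h : i < k then e ⟨i, h⟩ else 0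

/-- the `i`-th variable, `0` beyond `k` -/
noncomputable def XN (k : ℕ) (i : ℕ) : MvPolynomial (Fin k) (ZMod 2) :=
  if h : i < k then MvPolynomial.X ⟨i, h⟩ else 0

theorem eval_XN (e : Fin k → ZMod 2) (i : ℕ) : MvPolynomial.eval e (XN k i) = eN e i := by
  unfold XN eN
  split_ifs <;> simp

theorem deg_XN (i : ℕ) : (XN k i).totalDegree ≤ 1 := by
  unfold XN
  split_ifs
  · rw [MvPolynomial.totalDegree_X]
  · simp

/-- ordered product `x 0 ^ e 0 * x 1 ^ e 1 * ... * x (m-1) ^ e (m-1)` -/
def prodN {P : Type*} [Group P] (x : ℕ → P) (e : Fin k → ZMod 2) : ℕ → P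
  | 0 => 1
  | m + 1 => prodN x e m * x m ^ (eN e m).val

variable {P : Type*} [Group P]

theorem lin_poly (β : P → P → ZMod 2)
    (hβl : ∀ g g' h, β (g * g') h = β g h + β g' h) (hβ1 : ∀ h, β 1 h = 0)
    (x : ℕ → P) (m : ℕ) (y : P) :
    ∃ B : MvPolynomial (Fin k) (ZMod 2), B.totalDegree ≤ 1 ∧
      ∀ e : Fin k → ZMod 2, MvPolynomial.eval e B = β (prodN x e m) y := by
  induction m with
  | zero =>
    exact ⟨0, by simp, fun e => by simp [prodN, hβ1]⟩
  | succ m ih =>
    obtain ⟨B, hB, hBe⟩ := ih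
    refine ⟨B + MvPolynomial.C (β (x m) y) * XN k m, ?_, fun e => ?_⟩
    · refine (MvPolynomial.totalDegree_add _ _).trans (max_le hB ?_)
      refine (MvPolynomial.totalDegree_mul _ _).trans ?_
      rw [MvPolynomial.totalDegree_C]
      have := deg_XN (k := k) m
      omega
    · rw [map_add, map_mul, MvPolynomial.eval_C, eval_XN, hBe]
      show _ = β (prodN x e m * x m ^ (eN e m).val) y
      rw [hβl]
      rcases zmod2_cases (eN e m) with h | h
      · rw [h]
        have : (0 : ZMod 2).val = 0 := rfl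
        rw [this, pow_zero, hβ1]; ring
      · rw [h]
        have : (1 : ZMod 2).val = 1 := rfl
        rw [this, pow_one]; ring

theorem quad_poly (q : P → ZMod 2) (β : P → P → ZMod 2)
    (hq : ∀ g h, q (g * h) = β g h + (q g + q h))
    (hβl : ∀ g g' h, β (g * g') h = β g h + β g' h) (hβ1 : ∀ h, β 1 h = 0)
    (hβ1r : ∀ g, β g 1 = 0) (hq1 : q 1 = 0)
    (x : ℕ → P) (m : ℕ) :
    ∃ Q : MvPolynomial (Fin k) (ZMod 2), Q.totalDegree ≤ 2 ∧
      ∀ e : Fin k → ZMod 2, MvPolynomial.eval e Q = q (prodN x e m) := by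
  induction m with
  | zero =>
    exact ⟨0, by simp, fun e => by simp [prodN, hq1]⟩
  | succ m ih =>
    obtain ⟨Q, hQ, hQe⟩ := ih
    obtain ⟨B, hB, hBe⟩ := lin_poly (k := k) β hβl hβ1 x m (x m)
    refine ⟨Q + (B * XN k m + MvPolynomial.C (q (x m)) * XN k m), ?_, fun e => ?_⟩
    · refine (MvPolynomial.totalDegree_add _ _).trans (max_le hQ ?_)
      refine (MvPolynomial.totalDegree_add _ _).trans (max_le ?_ ?_)
      · refine (MvPolynomial.totalDegree_mul _ _).trans ?_
        have := deg_XN (k := k) m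
        omega
      · refine (MvPolynomial.totalDegree_mul _ _).trans ?_
        rw [MvPolynomial.totalDegree_C]
        have := deg_XN (k := k) m
        omega
    · rw [map_add, map_add, map_mul, map_mul, MvPolynomial.eval_C, eval_XN, hQe, hBe]
      show _ = q (prodN x e m * x m ^ (eN e m).val)
      rw [hq]
      rcases zmod2_cases (eN e m) with h | h
      · rw [h]
        have : (0 : ZMod 2).val = 0 := rfl
        rw [this, pow_zero, hβ1r, hq1]; ring
      · rw [h]
        have : (1 : ZMod 2).val = 1 := rfl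
        rw [this, pow_one]; ring

end Poly


theorem prodN_zero {k : ℕ} {P : Type*} [Group P] (x : ℕ → P) (m : ℕ) :
    prodN x (0 : Fin k → ZMod 2) m = 1 := by
  induction m with
  | zero => rfl
  | succ m ih =>
    have h0 : eN (0 : Fin k → ZMod 2) m = 0 := by
      unfold eN; split_ifs <;> rfl
    show prodN x 0 m * x m ^ (eN (0 : Fin k → ZMod 2) m).val = 1
    rw [ih, h0]
    have : (0 : ZMod 2).val = 0 := rfl
    rw [this, pow_zero, mul_one]

set_option maxHeartbeats 1000000 in
theorem cw_bound {P : Type*} [Group P] [Finite P] (n : ℕ)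
    (hZ : Nat.card (Subgroup.center P) = 2 ^ n)
    (hsq : ∀ x : P, x * x ∈ Subgroup.center P)
    (hcomm : ∀ a b : P, ⁅a, b⁆ ∈ Subgroup.center P)
    (hinv : ∀ x : P, x * x = 1 → x ∈ Subgroup.center P)
    (hexp : ∀ z ∈ Subgroup.center P, z * z = 1) :
    Nat.card P ≤ 2 ^ n * 2 ^ (2 * n) := by
  classical
  by_contra hlt
  push Not at hlt
  have hZc : ∀ z ∈ Subgroup.center P, ∀ g : P, g * z = z * g :=
    fun z hz g => Subgroup.mem_center_iff.1 hz g
  -- the quotient as an elementary abelian 2-group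
  let instQ : CommGroup (P ⧸ Subgroup.center P) :=
    { (inferInstance : Group (P ⧸ Subgroup.center P)) with
      mul_comm := by
        intro a b
        induction a using QuotientGroup.induction_on with | H a => ?_
        induction b using QuotientGroup.induction_on with | H b => ?_
        rw [← QuotientGroup.mk_mul, ← QuotientGroup.mk_mul, QuotientGroup.eq]
        have := hcomm b⁻¹ a⁻¹
        simpa [commutatorElement_def, mul_assoc] using this }
  have hQ2 : ∀ v : Additive (P ⧸ Subgroup.center P), 2 • v = 0 := by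
    intro v
    obtain ⟨g, hg⟩ := QuotientGroup.mk_surjective (Additive.toMul v)
    have h1 : (Additive.toMul v) ^ 2 = 1 := by
      rw [← hg, ← QuotientGroup.mk_pow, QuotientGroup.eq_one_iff, sq]
      exact hsq g
    apply Additive.toMul.injective
    rw [toMul_nsmul, h1]
    rfl
  have hcardP : Nat.card P = Nat.card (P ⧸ Subgroup.center P) * Nat.card (Subgroup.center P) :=
    Subgroup.card_eq_card_quotient_mul_card_subgroup _
  have hcardQ : 2 ^ (2 * n + 1) < 2 * Nat.card (Additive (P ⧸ Subgroup.center P)) := by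
    have h1 : Nat.card (Additive (P ⧸ Subgroup.center P)) = Nat.card (P ⧸ Subgroup.center P) :=
      Nat.card_congr Additive.toMul
    rw [h1]
    rw [hcardP, hZ, mul_comm (2 ^ n)] at hlt
    have h2 := Nat.lt_of_mul_lt_mul_right hlt
    rw [pow_succ]
    omega
  obtain ⟨b, hb⟩ := exists_indep (Additive (P ⧸ Subgroup.center P)) hQ2 (2 * n + 1) hcardQ
  -- coordinates on Z
  let instZ : CommGroup (Subgroup.center P) :=
    { (inferInstance : Group (Subgroup.center P)) with
      mul_comm := fun a c => Subtype.ext (hZc c.1 c.2 a.1) }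
  have hW2 : ∀ w : Additive (Subgroup.center P), 2 • w = 0 := by
    intro w
    apply Additive.toMul.injective
    rw [toMul_nsmul, sq]
    exact Subtype.ext (hexp _ (Additive.toMul w).2)
  have hcardW : Nat.card (Additive (Subgroup.center P)) = 2 ^ n := by
    rw [Nat.card_congr Additive.toMul, hZ]
  obtain ⟨l, hl⟩ := exists_coords (Additive (Subgroup.center P)) hW2 n hcardW
  let Lt : Fin n → P → ZMod 2 := fun a g =>
    if hg : g ∈ Subgroup.center P then l a (Additive.ofMul (⟨g, hg⟩ : Subgroup.center P)) else 0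
  have hLmul : ∀ a g h, g ∈ Subgroup.center P → h ∈ Subgroup.center P →
      Lt a (g * h) = Lt a g + Lt a h := by
    intro a g h hg hh
    simp only [Lt, dif_pos hg, dif_pos hh, dif_pos ((Subgroup.center P).mul_mem hg hh)]
    rw [← map_add]
    rfl
  have hL1 : ∀ a, Lt a 1 = 0 := by
    intro a
    simp only [Lt, dif_pos (Subgroup.center P).one_mem]
    exact map_zero (l a)
  have hLinj : ∀ g, g ∈ Subgroup.center P → (∀ a, Lt a g = 0) → g = 1 := by
    intro g hg h
    have := hl (Additive.ofMul (⟨g, hg⟩ : Subgroup.center P))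
      (fun a => by simpa [Lt, dif_pos hg] using h a)
    have h2 : (⟨g, hg⟩ : Subgroup.center P) = 1 := this
    exact congrArg Subtype.val h2
  -- the quadratic and bilinear maps
  have hsqm : ∀ g h : P, (g * h) * (g * h) = ⁅g, h⁆ * (g * g * (h * h)) := by
    intro g h
    have h1 : h⁻¹ * (g * g) = (g * g) * h⁻¹ := hZc (g * g) (hsq g) h⁻¹
    have e1 : ⁅g, h⁆ * (g * g * (h * h)) = g * h * g⁻¹ * (h⁻¹ * (g * g)) * (h * h) := by
      rw [commutatorElement_def]; group
    rw [e1, h1]; group
  have hcl : ∀ g g' h : P, ⁅g * g', h⁆ = ⁅g, h⁆ * ⁅g', h⁆ := by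
    intro g g' h
    have hc := hZc ⁅g', h⁆ (hcomm g' h)
    have e1 : ⁅g * g', h⁆ = g * ⁅g', h⁆ * (h * g⁻¹ * h⁻¹) := by
      simp only [commutatorElement_def]; group
    rw [e1, hc g, hc ⁅g, h⁆, commutatorElement_def g h]
    generalize ⁅g', h⁆ = c'
    group
  let qf : Fin n → P → ZMod 2 := fun a g => Lt a (g * g)
  let bf : Fin n → P → P → ZMod 2 := fun a g h => Lt a ⁅g, h⁆
  have hq_mul : ∀ a g h, qf a (g * h) = bf a g h + (qf a g + qf a h) := by
    intro a g h
    simp only [qf, bf]
    rw [hsqm, hLmul a _ _ (hcomm g h) ((Subgroup.center P).mul_mem (hsq g) (hsq h)),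
      hLmul a _ _ (hsq g) (hsq h)]
  have hb_l : ∀ a g g' h, bf a (g * g') h = bf a g h + bf a g' h := by
    intro a g g' h
    simp only [bf]
    rw [hcl, hLmul a _ _ (hcomm g h) (hcomm g' h)]
  have hq1 : ∀ a, qf a 1 = 0 := by
    intro a
    simp only [qf, one_mul]
    exact hL1 a
  have hb1l : ∀ a h, bf a 1 h = 0 := by
    intro a h
    simp only [bf, commutatorElement_one_left]
    exact hL1 a
  have hb1r : ∀ a g, bf a g 1 = 0 := by
    intro a g
    simp only [bf, commutatorElement_one_right]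
    exact hL1 a
  -- representatives
  let x : ℕ → P := fun i =>
    if h : i < 2 * n + 1 then Quotient.out (Additive.toMul (b ⟨i, h⟩)) else 1
  let bN : ℕ → Additive (P ⧸ Subgroup.center P) := fun i =>
    if h : i < 2 * n + 1 then b ⟨i, h⟩ else 0
  have hx : ∀ i, (QuotientGroup.mk (x i) : P ⧸ Subgroup.center P) = Additive.toMul (bN i) := by
    intro i
    simp only [x, bN]
    split_ifs with h
    · exact QuotientGroup.out_eq' _
    · rfl
  have hmk : ∀ (e : Fin (2 * n + 1) → ZMod 2) (m : ℕ),
      Additive.ofMul (QuotientGroup.mk (prodN x e m) : P ⧸ Subgroup.center P) =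
        ∑ i ∈ Finset.range m, (eN e i).val • bN i := by
    intro e m
    induction m with
    | zero => rfl
    | succ m ih =>
      rw [Finset.sum_range_succ, ← ih]
      show Additive.ofMul (QuotientGroup.mk (prodN x e m * x m ^ (eN e m).val)) = _
      rw [QuotientGroup.mk_mul, QuotientGroup.mk_pow, hx, ofMul_mul, ofMul_pow, ofMul_toMul]
  have hpoly := fun a : Fin n => quad_poly (k := 2 * n + 1) (qf a) (bf a) (hq_mul a) (hb_l a)
    (hb1l a) (hb1r a) (hq1 a) x (2 * n + 1)
  choose Qp hQdeg hQeval using hpoly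
  have hcw := char_dvd_card_solutions_of_fintype_sum_lt (K := ZMod 2) (σ := Fin (2 * n + 1)) 2
    (f := Qp)
    (by
      rw [Fintype.card_fin]
      have : ∑ a : Fin n, (Qp a).totalDegree ≤ ∑ _a : Fin n, 2 :=
        Finset.sum_le_sum fun a _ => hQdeg a
      simp at this
      omega)
  have hzero : ∀ a, MvPolynomial.eval (0 : Fin (2 * n + 1) → ZMod 2) (Qp a) = 0 := by
    intro a
    rw [hQeval, prodN_zero]
    exact hq1 a
  have hcw' : 2 ∣ Nat.card {e : Fin (2 * n + 1) → ZMod 2 // ∀ a, MvPolynomial.eval e (Qp a) = 0} := by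
    have h := hcw
    rwa [Fintype.card_eq_nat_card] at h
  have hne0 : Nonempty {e : Fin (2 * n + 1) → ZMod 2 // ∀ a, MvPolynomial.eval e (Qp a) = 0} :=
    ⟨⟨0, hzero⟩⟩
  have hcard2 : 1 < Nat.card {e : Fin (2 * n + 1) → ZMod 2 // ∀ a, MvPolynomial.eval e (Qp a) = 0} :=
    Nat.le_of_dvd Nat.card_pos hcw'
  have hnt := Finite.one_lt_card_iff_nontrivial.1 hcard2
  obtain ⟨⟨e, he⟩, hne⟩ := exists_ne (⟨0, hzero⟩ :
    {e : Fin (2 * n + 1) → ZMod 2 // ∀ a, MvPolynomial.eval e (Qp a) = 0})
  have hsq1 : prodN x e (2 * n + 1) * prodN x e (2 * n + 1) = 1 := by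
    refine hLinj _ (hsq _) (fun a => ?_)
    have := he a
    rw [hQeval] at this
    exact this
  have hmem : prodN x e (2 * n + 1) ∈ Subgroup.center P := hinv _ hsq1
  have hmk1 : (QuotientGroup.mk (prodN x e (2 * n + 1)) : P ⧸ Subgroup.center P) = 1 :=
    (QuotientGroup.eq_one_iff _).2 hmem
  have hsum : ∑ i, (e i).val • b i = 0 := by
    have h1 := hmk e (2 * n + 1)
    rw [hmk1] at h1
    have h2 := Fin.sum_univ_eq_sum_range (fun i => (eN e i).val • bN i) (2 * n + 1)
    rw [← h1] at h2
    rw [← show (∑ i : Fin (2 * n + 1), (eN e ↑i).val • bN ↑i) = ∑ i, (e i).val • b i from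
      Finset.sum_congr rfl (fun i _ => by simp only [eN, bN, dif_pos i.2, Fin.eta])]
    rw [h2]
    rfl
  exact hne (Subtype.ext (hb e hsum))

end Cfsg.Agent.Helper19.Hig
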