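import Mathlib

/-!
# Counting vectors of given Hermitian norm over `F`, `|F| = q^2`

`hermCount q n t = #{v ∈ F^n : ∑ v i ^ (q+1) = t}`.
-/

set_option autoImplicit false

namespace Cfsg.Agent.Helper19

open Finset

variable {F : Type*} [Field F] [Fintype F] {q : ℕ}

theorem herm_two_le (hF : Fintype.card F = q ^ 2) : 2 ≤ q := by
  have h := Fintype.one_lt_card (α := F)
  rw [hF] at h
  by_contra hlt
  have : q ≤ 1 := by omega
  have : q ^ 2 ≤ 1 := by nlinarith
  omega

/-- `q` is a power of the characteristic. -/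
theorem herm_q_eq_pow (hF : Fintype.card F = q ^ 2) :
    ∃ (p : ℕ) (_ : Fact p.Prime) (_ : CharP F p) (j : ℕ), q = p ^ j := by
  obtain ⟨p, hp, k, hpp, hk⟩ := FiniteField.card' F
  have hdvd : q ∣ p ^ (k : ℕ) := by
    rw [← hk, hF]; exact Dvd.intro_left (q ^ 1) (by ring)
  obtain ⟨j, -, hj⟩ := (Nat.dvd_prime_pow hpp).1 hdvd
  exact ⟨p, ⟨hpp⟩, hp, j, hj⟩

theorem herm_sub_pow (hF : Fintype.card F = q ^ 2) (x y : F) :
    (x - y) ^ q = x ^ q - y ^ q := by
  obtain ⟨p, hp, hc, j, rfl⟩ := herm_q_eq_pow hF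
  exact sub_pow_char_pow x y j

theorem herm_norm_fixed (hF : Fintype.card F = q ^ 2) (x : F) :
    (x ^ (q + 1)) ^ q = x ^ (q + 1) := by
  have h := FiniteField.pow_card x
  rw [hF] at h
  calc (x ^ (q + 1)) ^ q = x ^ (q ^ 2) * x ^ q := by ring
    _ = x * x ^ q := by rw [h]
    _ = x ^ (q + 1) := by ring

/-- The nonzero elements fixed by `x ↦ x^q`. -/
noncomputable def hermFixed (F : Type*) [Field F] [Fintype F] (q : ℕ) : Finset F :=
  open Classical in univ.filter (fun y : F => y ≠ 0 ∧ y ^ q = y)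

theorem mem_hermFixed {y : F} : y ∈ hermFixed F q ↔ y ≠ 0 ∧ y ^ q = y := by
  classical
  simp [hermFixed]

theorem one_mem_hermFixed : (1 : F) ∈ hermFixed F q := by
  rw [mem_hermFixed]; simp

theorem norm_mem_hermFixed (hF : Fintype.card F = q ^ 2) {x : F} (hx : x ≠ 0) :
    x ^ (q + 1) ∈ hermFixed F q := by
  rw [mem_hermFixed]
  exact ⟨pow_ne_zero _ hx, herm_norm_fixed hF x⟩

theorem sub_mem_hermFixed (hF : Fintype.card F = q ^ 2) {x y : F}
    (hx : x ∈ hermFixed F q) (hy : y ∈ hermFixed F q) (hne : x ≠ y) :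
    x - y ∈ hermFixed F q := by
  rw [mem_hermFixed] at *
  refine ⟨sub_ne_zero.mpr hne, ?_⟩
  rw [herm_sub_pow hF, hx.2, hy.2]

theorem neg_mem_hermFixed (hF : Fintype.card F = q ^ 2) {y : F}
    (hy : y ∈ hermFixed F q) : -y ∈ hermFixed F q := by
  rw [mem_hermFixed] at *
  refine ⟨neg_ne_zero.mpr hy.1, ?_⟩
  have := herm_sub_pow hF 0 y
  rw [zero_sub, zero_pow (by have := herm_two_le hF; omega), zero_sub, hy.2] at this
  exact this

theorem card_hermFixed_le (hF : Fintype.card F = q ^ 2) : (hermFixed F q).card ≤ q - 1 := by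
  classical
  have hq := herm_two_le hF
  have hsub : hermFixed F q ⊆ Polynomial.nthRootsFinset (q - 1) (1 : F) := by
    intro y hy
    rw [mem_hermFixed] at hy
    rw [Polynomial.mem_nthRootsFinset (by omega)]
    have h1 : y ^ (q - 1) * y = 1 * y := by
      rw [← pow_succ, one_mul]
      have : q - 1 + 1 = q := by omega
      rw [this, hy.2]
    exact mul_right_cancel₀ hy.1 h1
  refine (Finset.card_le_card hsub).trans ?_
  rw [Polynomial.nthRootsFinset_def]
  exact (Multiset.toFinset_card_le _).trans (Polynomial.card_nthRoots _ _)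

theorem card_norm_fiber_le [DecidableEq F] (d : F) :
    (univ.filter (fun x : F => x ^ (q + 1) = d)).card ≤ q + 1 := by
  have hsub : univ.filter (fun x : F => x ^ (q + 1) = d)
      ⊆ Polynomial.nthRootsFinset (q + 1) d := by
    intro x hx
    rw [Polynomial.mem_nthRootsFinset (by omega)]
    exact (mem_filter.1 hx).2
  refine (Finset.card_le_card hsub).trans ?_
  rw [Polynomial.nthRootsFinset_def]
  exact (Multiset.toFinset_card_le _).trans (Polynomial.card_nthRoots _ _)

theorem herm_sandwich [DecidableEq F] (hF : Fintype.card F = q ^ 2) :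
    (hermFixed F q).card = q - 1 ∧
    ∀ d ∈ hermFixed F q, (univ.filter (fun x : F => x ^ (q + 1) = d)).card = q + 1 := by
  have hq := herm_two_le hF
  set T := hermFixed F q with hTdef
  set s : Finset F := univ.filter (fun x : F => x ≠ 0) with hsdef
  have hs : s.card = q ^ 2 - 1 := by
    rw [hsdef, filter_ne', card_erase_of_mem (mem_univ _), card_univ, hF]
  have hmaps : ∀ x ∈ s, x ^ (q + 1) ∈ T :=
    fun x hx => norm_mem_hermFixed hF (mem_filter.1 hx).2
  have hfib : s.card = ∑ d ∈ T, (s.filter (fun x => x ^ (q + 1) = d)).card :=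
    card_eq_sum_card_fiberwise hmaps
  have hfib_eq : ∀ d ∈ T, s.filter (fun x => x ^ (q + 1) = d)
      = univ.filter (fun x => x ^ (q + 1) = d) := by
    intro d hd
    ext x
    simp only [mem_filter, mem_univ, true_and, hsdef]
    constructor
    · exact fun h => h.2
    · intro h
      refine ⟨?_, h⟩
      rintro rfl
      rw [zero_pow (by omega)] at h
      exact (mem_hermFixed.1 hd).1 h.symm
  have hsum : q ^ 2 - 1 = ∑ d ∈ T, (univ.filter (fun x : F => x ^ (q + 1) = d)).card := by
    rw [← hs, hfib]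
    exact sum_congr rfl (fun d hd => by rw [hfib_eq d hd])
  have hle : ∑ d ∈ T, (univ.filter (fun x : F => x ^ (q + 1) = d)).card
      ≤ ∑ _d ∈ T, (q + 1) := sum_le_sum (fun d _ => card_norm_fiber_le d)
  rw [sum_const, smul_eq_mul] at hle
  have hT : T.card ≤ q - 1 := card_hermFixed_le hF
  have hq2 : q ^ 2 - 1 = (q - 1) * (q + 1) := by
    obtain ⟨r, rfl⟩ : ∃ r, q = r + 2 := ⟨q - 2, by omega⟩
    have : r + 2 - 1 = r + 1 := by omega
    rw [this]
    have : (r + 2) ^ 2 = (r + 1) * (r + 2 + 1) + 1 := by ring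
    rw [this]
    simp
  have hTeq : T.card = q - 1 := by
    have h1 : (q - 1) * (q + 1) ≤ T.card * (q + 1) := by
      rw [← hq2, hsum]; exact hle
    have := Nat.le_of_mul_le_mul_right h1 (by omega)
    omega
  refine ⟨hTeq, ?_⟩
  intro d hd
  by_contra hne
  have hlt : (univ.filter (fun x : F => x ^ (q + 1) = d)).card < q + 1 :=
    lt_of_le_of_ne (card_norm_fiber_le d) hne
  have hlt2 : ∑ d ∈ T, (univ.filter (fun x : F => x ^ (q + 1) = d)).card
      < ∑ _d ∈ T, (q + 1) :=
    sum_lt_sum (fun d _ => card_norm_fiber_le d) ⟨d, hd, hlt⟩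
  rw [sum_const, smul_eq_mul, ← hsum, hTeq, hq2] at hlt2
  exact lt_irrefl _ hlt2

/-- Sum over `F` of a function of the norm. -/
theorem sum_norm_eq (hF : Fintype.card F = q ^ 2) (g : F → ℕ) :
    ∑ x : F, g (x ^ (q + 1)) = g 0 + (q + 1) * ∑ d ∈ hermFixed F q, g d := by
  classical
  have hq := herm_two_le hF
  obtain ⟨-, hfib⟩ := herm_sandwich hF
  rw [← Finset.add_sum_erase univ _ (mem_univ (0 : F)), zero_pow (by omega)]
  congr 1
  have hmaps : ∀ x ∈ univ.erase (0 : F), x ^ (q + 1) ∈ hermFixed F q :=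
    fun x hx => norm_mem_hermFixed hF (ne_of_mem_erase hx)
  rw [← sum_fiberwise_of_maps_to' hmaps g, mul_sum]
  refine sum_congr rfl (fun d hd => ?_)
  rw [sum_const, smul_eq_mul]
  congr 1
  refine Eq.trans (congrArg Finset.card ?_) (hfib d hd)
  ext x
  simp only [mem_filter, mem_erase, mem_univ, and_true, true_and]
  constructor
  · exact fun h => h.2
  · intro h
    refine ⟨?_, h⟩
    rintro rfl
    rw [zero_pow (by omega)] at h
    exact (mem_hermFixed.1 hd).1 h.symm

/-- Number of vectors of Hermitian norm `t`. -/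
noncomputable def hermCount (F : Type*) [Field F] [Fintype F] (q n : ℕ) (t : F) : ℕ :=
  Nat.card {v : Fin n → F // ∑ i, v i ^ (q + 1) = t}

theorem hermCount_zero [DecidableEq F] (t : F) :
    hermCount F q 0 t = if t = 0 then 1 else 0 := by
  unfold hermCount
  split_ifs with ht
  · subst ht
    rw [Nat.card_eq_one_iff_unique]
    refine ⟨⟨?_⟩, ⟨⟨fun i => i.elim0, by simp⟩⟩⟩
    rintro ⟨v, _⟩ ⟨w, _⟩
    apply Subtype.ext
    funext i
    exact i.elim0
  · have : IsEmpty {v : Fin 0 → F // ∑ i, v i ^ (q + 1) = t} := by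
      constructor
      rintro ⟨v, hv⟩
      simp at hv
      exact ht hv.symm
    exact Nat.card_of_isEmpty

theorem hermCount_succ (n : ℕ) (t : F) :
    hermCount F q (n + 1) t = ∑ x : F, hermCount F q n (t - x ^ (q + 1)) := by
  classical
  unfold hermCount
  have e1 : {v : Fin (n + 1) → F // ∑ i, v i ^ (q + 1) = t}
      ≃ {p : F × (Fin n → F) // p.1 ^ (q + 1) + ∑ i, p.2 i ^ (q + 1) = t} := by
    refine (Fin.consEquiv (fun _ => F)).symm.subtypeEquiv ?_
    intro v
    rw [Fin.sum_univ_succ]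
    rfl
  have e2 : {p : F × (Fin n → F) // p.1 ^ (q + 1) + ∑ i, p.2 i ^ (q + 1) = t}
      ≃ Σ x : F, {w : Fin n → F // ∑ i, w i ^ (q + 1) = t - x ^ (q + 1)} := by
    refine (Equiv.subtypeProdEquivSigmaSubtype
      (fun (x : F) (w : Fin n → F) => x ^ (q + 1) + ∑ i, w i ^ (q + 1) = t)).trans ?_
    refine Equiv.sigmaCongrRight (fun x => Equiv.subtypeEquivRight (fun w => ?_))
    constructor
    · intro h; rw [← h]; ring
    · intro h; rw [h]; ring
  rw [Nat.card_congr (e1.trans e2), Nat.card_sigma]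

theorem hermCount_formula (hF : Fintype.card F = q ^ 2) (n : ℕ) :
    ((q : ℤ) * (hermCount F q n 0 : ℤ)
        = (q : ℤ) ^ (2 * n) + (-1) ^ n * ((q : ℤ) - 1) * (q : ℤ) ^ n) ∧
    ∀ t ∈ hermFixed F q, (q : ℤ) * (hermCount F q n t : ℤ)
        = (q : ℤ) ^ (2 * n) - (-1) ^ n * (q : ℤ) ^ n := by
  classical
  have hq := herm_two_le hF
  obtain ⟨hTcard, -⟩ := herm_sandwich hF
  have hTZ : ((hermFixed F q).card : ℤ) = (q : ℤ) - 1 := by
    rw [hTcard, Nat.cast_sub (by omega)]; simp
  induction n with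
  | zero =>
    refine ⟨?_, ?_⟩
    · rw [hermCount_zero, if_pos rfl]; simp
    · intro t ht
      rw [hermCount_zero, if_neg (mem_hermFixed.1 ht).1]; simp
  | succ n ih =>
    obtain ⟨ha, hb⟩ := ih
    set B : ℤ := (q : ℤ) ^ (2 * n) - (-1) ^ n * (q : ℤ) ^ n with hB
    refine ⟨?_, ?_⟩
    · rw [hermCount_succ, sum_norm_eq hF (fun d => hermCount F q n (0 - d))]
      have hsum : (q : ℤ) * ((∑ d ∈ hermFixed F q, hermCount F q n (0 - d) : ℕ) : ℤ)
          = ((q : ℤ) - 1) * B := by
        push_cast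
        rw [mul_sum]
        rw [sum_congr rfl (g := fun _ => B)]
        · rw [sum_const, nsmul_eq_mul, hTZ]
        · intro d hd
          rw [zero_sub]
          exact hb _ (neg_mem_hermFixed hF hd)
      simp only [sub_zero]
      push_cast
      push_cast at hsum
      linear_combination ha + ((q : ℤ) + 1) * hsum
    · intro t ht
      rw [hermCount_succ, sum_norm_eq hF (fun d => hermCount F q n (t - d))]
      rw [← add_sum_erase _ _ ht]
      have hcard : (((hermFixed F q).erase t).card : ℤ) = (q : ℤ) - 2 := by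
        rw [card_erase_of_mem ht, hTcard]
        have : q - 1 - 1 = q - 2 := by omega
        rw [this, Nat.cast_sub hq]; simp
      have hsum : (q : ℤ) * ((∑ d ∈ (hermFixed F q).erase t, hermCount F q n (t - d) : ℕ) : ℤ)
          = ((q : ℤ) - 2) * B := by
        push_cast
        rw [mul_sum]
        rw [sum_congr rfl (g := fun _ => B)]
        · rw [sum_const, nsmul_eq_mul, hcard]
        · intro d hd
          exact hb _ (sub_mem_hermFixed hF ht (mem_of_mem_erase hd) (ne_of_mem_erase hd).symm)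
      simp only [sub_zero, sub_self]
      push_cast
      push_cast at hsum
      have hbt := hb t ht
      linear_combination hbt + ((q : ℤ) + 1) * ha + ((q : ℤ) + 1) * hsum

theorem hermCount_one (hF : Fintype.card F = q ^ 2) (n : ℕ) :
    hermCount F q n 1
      = if Even n then q ^ (n - 1) * (q ^ n - 1) else q ^ (n - 1) * (q ^ n + 1) := by
  classical
  have hq := herm_two_le hF
  have hq0 : (q : ℤ) ≠ 0 := by
    have : q ≠ 0 := by omega
    exact_mod_cast this
  have hb := (hermCount_formula hF n).2 1 one_mem_hermFixed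
  rcases Nat.eq_zero_or_pos n with rfl | hn
  · rw [hermCount_zero, if_neg one_ne_zero]; simp
  · obtain ⟨k, rfl⟩ : ∃ k, n = k + 1 := ⟨n - 1, by omega⟩
    have e3 : k + 1 - 1 = k := by omega
    rw [e3]
    have h1 : 1 ≤ q ^ (k + 1) := Nat.one_le_pow _ _ (by omega)
    apply Nat.cast_injective (R := ℤ)
    apply mul_left_cancel₀ hq0
    rw [hb]
    split_ifs with hev
    · rw [hev.neg_one_pow]
      push_cast [Nat.cast_sub h1]
      ring
    · rw [(Nat.not_even_iff_odd.1 hev).neg_one_pow]
      push_cast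
      ring

theorem hermCount_at_zero (hF : Fintype.card F = q ^ 2) (n : ℕ) :
    hermCount F q n 0
      = (if Even n then (q ^ n - 1) * (q ^ (n - 1) + 1)
          else (q ^ n + 1) * (q ^ (n - 1) - 1)) + 1 := by
  classical
  have hq := herm_two_le hF
  have hq0 : (q : ℤ) ≠ 0 := by
    have : q ≠ 0 := by omega
    exact_mod_cast this
  have ha := (hermCount_formula hF n).1
  rcases Nat.eq_zero_or_pos n with rfl | hn
  · rw [hermCount_zero, if_pos rfl]; simp
  · obtain ⟨k, rfl⟩ : ∃ k, n = k + 1 := ⟨n - 1, by omega⟩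
    have e3 : k + 1 - 1 = k := by omega
    rw [e3]
    have h1 : 1 ≤ q ^ (k + 1) := Nat.one_le_pow _ _ (by omega)
    have h2 : 1 ≤ q ^ k := Nat.one_le_pow _ _ (by omega)
    apply Nat.cast_injective (R := ℤ)
    apply mul_left_cancel₀ hq0
    rw [ha]
    split_ifs with hev
    · rw [hev.neg_one_pow]
      push_cast [Nat.cast_sub h1]
      ring
    · rw [(Nat.not_even_iff_odd.1 hev).neg_one_pow]
      push_cast [Nat.cast_sub h2]
      ring

end Cfsg.Agent.Helper19
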