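import Mathlib

set_option autoImplicit false

namespace Cfsg.Agent.Helper19

/-- The four-group generated by two commuting involutions. -/
def kleinFour {M : Type*} [Group M] (x y : M) (hx : x * x = 1) (hy : y * y = 1)
    (hxy : x * y = y * x) : Subgroup M where
  carrier := {g | g = 1 ∨ g = x ∨ g = y ∨ g = x * y}
  one_mem' := Or.inl rfl
  mul_mem' := by
    have hyx : y * x = x * y := hxy.symm
    have e1 : ∀ z : M, x * (x * z) = z := fun z => by rw [← mul_assoc, hx, one_mul]
    have e3 : ∀ z : M, y * (x * z) = x * (y * z) := fun z => by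
      rw [← mul_assoc, hyx, mul_assoc]
    rintro a b (rfl | rfl | rfl | rfl) (rfl | rfl | rfl | rfl) <;>
      simp only [Set.mem_ofPred_eq, one_mul, mul_one, mul_assoc, hx, hy, e1, e3, hyx,
        true_or, or_true]
  inv_mem' := by
    have hxinv : x⁻¹ = x := inv_eq_of_mul_eq_one_left hx
    have hyinv : y⁻¹ = y := inv_eq_of_mul_eq_one_left hy
    rintro a (rfl | rfl | rfl | rfl)
    · simp
    · simp [hxinv]
    · simp [hyinv]
    · right; right; right
      rw [mul_inv_rev, hxinv, hyinv, hxy]

theorem mem_kleinFour {M : Type*} [Group M] {x y : M} {hx : x * x = 1} {hy : y * y = 1}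
    {hxy : x * y = y * x} {g : M} :
    g ∈ kleinFour x y hx hy hxy ↔ g = 1 ∨ g = x ∨ g = y ∨ g = x * y := Iff.rfl

theorem kleinFour_comm {M : Type*} [Group M] {x y : M} (hx : x * x = 1) (hy : y * y = 1)
    (hxy : x * y = y * x) :
    ∀ a ∈ kleinFour x y hx hy hxy, ∀ b ∈ kleinFour x y hx hy hxy, a * b = b * a := by
  have hyx : y * x = x * y := hxy.symm
  have e3 : ∀ z : M, y * (x * z) = x * (y * z) := fun z => by
    rw [← mul_assoc, hyx, mul_assoc]
  rintro a (rfl | rfl | rfl | rfl) b (rfl | rfl | rfl | rfl) <;>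
    simp only [one_mul, mul_one, mul_assoc, e3, hyx]

theorem kleinFour_sq {M : Type*} [Group M] {x y : M} (hx : x * x = 1) (hy : y * y = 1)
    (hxy : x * y = y * x) : ∀ a ∈ kleinFour x y hx hy hxy, a ^ 2 = 1 := by
  have hyx : y * x = x * y := hxy.symm
  have e1 : ∀ z : M, x * (x * z) = z := fun z => by rw [← mul_assoc, hx, one_mul]
  have e3 : ∀ z : M, y * (x * z) = x * (y * z) := fun z => by
    rw [← mul_assoc, hyx, mul_assoc]
  rintro a (rfl | rfl | rfl | rfl) <;>
    simp only [pow_two, one_mul, mul_assoc, hx, hy, e1, e3]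

theorem kleinFour_card {M : Type*} [Group M] [Finite M] {x y : M} (hx : x * x = 1)
    (hy : y * y = 1) (hxy : x * y = y * x) (hx1 : x ≠ 1) (hy1 : y ≠ 1) (hne : x ≠ y) :
    2 ^ 2 ≤ Nat.card (kleinFour x y hx hy hxy) := by
  classical
  have hyinv : y⁻¹ = y := inv_eq_of_mul_eq_one_left hy
  have hxy1 : x * y ≠ 1 := by
    intro e
    apply hne
    have : x = y⁻¹ := eq_inv_of_mul_eq_one_left e
    rw [this, hyinv]
  have hxyx : x * y ≠ x := by
    intro e
    apply hy1
    exact mul_left_cancel (a := x) (by rw [e, mul_one])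
  have hxyy : x * y ≠ y := by
    intro e
    apply hx1
    exact mul_right_cancel (b := y) (by rw [e, one_mul])
  have hsub : (({1, x, y, x * y} : Finset M) : Set M) ⊆ (kleinFour x y hx hy hxy : Set M) := by
    intro g hg
    simp only [Finset.coe_insert, Finset.coe_singleton, Set.mem_insert_iff,
      Set.mem_singleton_iff] at hg
    exact hg
  have hcard : ({1, x, y, x * y} : Finset M).card = 4 := by
    rw [Finset.card_insert_of_notMem, Finset.card_insert_of_notMem, Finset.card_insert_of_notMem,
      Finset.card_singleton]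
    · simp only [Finset.mem_singleton]; exact fun e => hxyy e.symm
    · simp only [Finset.mem_insert, Finset.mem_singleton, not_or]
      exact ⟨hne, fun e => hxyx e.symm⟩
    · simp only [Finset.mem_insert, Finset.mem_singleton, not_or]
      exact ⟨fun e => hx1 e.symm, fun e => hy1 e.symm, fun e => hxy1 e.symm⟩
  have h1 : Nat.card (kleinFour x y hx hy hxy) = (kleinFour x y hx hy hxy : Set M).ncard :=
    (Nat.card_coe_set_eq _)
  rw [h1]
  have h2 := Set.ncard_le_ncard hsub (Set.toFinite _)
  rw [Set.ncard_coe_finset, hcard] at h2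
  exact h2

end Cfsg.Agent.Helper19
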