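import Mathlib
import Cfsg.Agent.S1450
import Cfsg.Agent.S1451
import Cfsg.Agent.Lib.Helper63.FittingCrit
import Cfsg.Agent.Lib.Helper22.Fitting
import Cfsg.Agent.Lib.Helper55.Cores

/-!
Auxiliary type-level lemmas for Bender-Glauberman Lemma 9.5 (S1402), requested by helper73
(R4, R5, R6 of the board note): consequences of B-G 4.17 / 4.18 for a subgroup `P1` of the
derived subgroup of a solvable group `X` of odd order.
-/

set_option autoImplicit false

namespace Cfsg.Agent.Helper19.BG95Aux

open Cfsg

variable {X : Type*} [Group X] [Finite X]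

/-- a `p`-subgroup of the Fitting subgroup lies in `O_p`. -/
theorem le_pCore_of_le_fitting (p : ℕ) [Fact p.Prime] (P1 : Subgroup X)
    (hP1 : IsPGroup p P1) (hF : P1 ≤ fittingSubgroup X) : P1 ≤ pCore p X := by
  intro x hxP
  have hx : x ∈ fittingSubgroup X := hF hxP
  obtain ⟨k, hk⟩ := hP1 ⟨x, hxP⟩
  have hxp : x ^ (p ^ k) = 1 := by
    have := congrArg Subtype.val hk
    simpa using this
  have h1 := Cfsg.Agent.Helper22.fittingSubgroup_le_pCore_sup_pPrimeCore (G := X) p hx
  have hKcop : (Nat.card (pPrimeCore p X)).Coprime p := Cfsg.Agent.Helper55.pPrimeCore_coprime p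
  have hQp : IsPGroup p (pCore p X) := Cfsg.Agent.Helper55.isPGroup_pCore
  obtain ⟨m, hm⟩ := hQp.exists_card_eq
  have hcop : (Nat.card (pCore p X)).Coprime (Nat.card (pPrimeCore p X)) := by
    rw [hm]
    exact (Nat.Coprime.pow_right m hKcop).symm
  have hdisj : Disjoint (pCore p X) (pPrimeCore p X) := Subgroup.disjoint_of_coprime_natCard hcop
  obtain ⟨a, ha, b, hb, rfl⟩ := Subgroup.mem_sup_of_normal_right.mp h1
  have hcomm : Commute a b :=
    Subgroup.commute_of_normal_of_disjoint _ _ inferInstance inferInstance hdisj a b ha hb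
  rw [hcomm.mul_pow] at hxp
  have hbp : b ^ (p ^ k) ∈ pCore p X ⊓ pPrimeCore p X := by
    refine ⟨?_, Subgroup.pow_mem _ hb _⟩
    have : b ^ (p ^ k) = (a ^ (p ^ k))⁻¹ := eq_inv_of_mul_eq_one_right hxp
    rw [this]
    exact Subgroup.inv_mem _ (Subgroup.pow_mem _ ha _)
  rw [hdisj.eq_bot, Subgroup.mem_bot] at hbp
  have hb1 : b = 1 := by
    have h2 : orderOf b ∣ p ^ k := orderOf_dvd_of_pow_eq_one hbp
    have h3 : orderOf b ∣ Nat.card (pPrimeCore p X) := by
      have := orderOf_dvd_natCard (⟨b, hb⟩ : pPrimeCore p X)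
      rwa [← Subgroup.orderOf_coe] at this
    have h4 : orderOf b = 1 :=
      Nat.eq_one_of_dvd_coprimes (Nat.Coprime.pow_right k hKcop) h3 h2
    exact orderOf_eq_one_iff.mp h4
  rw [hb1, mul_one]
  exact ha

omit [Finite X] in
/-- the order of an element of a subgroup of order coprime to `r` is coprime to `r`. -/
theorem orderOf_coprime_of_mem {r : ℕ} {P1 : Subgroup X} (hcop : (Nat.card P1).Coprime r)
    {x : X} (hx : x ∈ P1) : (orderOf x).Coprime r := by
  have h := orderOf_dvd_natCard (⟨x, hx⟩ : P1)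
  rw [← Subgroup.orderOf_coe] at h
  exact Nat.Coprime.coprime_dvd_left h hcop

/-- **R5** (B-G 4.17 in the form used for 9.5): in a solvable group `X` of odd order, a subgroup
`P1` of the derived subgroup of order coprime to `r` centralizes `O_r(X)` as soon as `O_r(X)` has
rank at most 2. -/
theorem r5 [Group.IsSolvable X] (hodd : Odd (Nat.card X)) (r : ℕ) [Fact r.Prime]
    (hrk : PRankLE r 2 ↥(pCore r X)) (P1 : Subgroup X) (hP1 : P1 ≤ commutator X)
    (hcop : (Nat.card P1).Coprime r) :
    P1 ≤ Subgroup.centralizer (pCore r X : Set X) := by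
  intro x hx
  exact Cfsg.Agent.S1451.key1 inferInstance hodd r hrk x (hP1 hx) (orderOf_coprime_of_mem hcop hx)

/-- **R4** (B-G 4.18 in the form used for 9.5): in a solvable group `X` of odd order with `r`-rank
at most 2, a subgroup `P1` of the derived subgroup of order coprime to `r` centralizes every
`r`-subgroup `Y` that it normalizes. -/
theorem r4 [Group.IsSolvable X] (hodd : Odd (Nat.card X)) (r : ℕ) [Fact r.Prime]
    (hrk : PRankLE r 2 X) (P1 : Subgroup X) (hP1 : P1 ≤ commutator X)
    (hcop : (Nat.card P1).Coprime r) (Y : Subgroup X) (hY : IsPGroup r Y)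
    (hN : P1 ≤ Subgroup.normalizer (Y : Set X)) :
    P1 ≤ Subgroup.centralizer (Y : Set X) := by
  have hr : r.Prime := Fact.out
  by_cases hrX : r ∣ Nat.card X
  · -- the normal `r'`-subgroup `N` of `X` containing `P1`
    obtain ⟨-, -, -, h4, -, -⟩ := Cfsg.Agent.S1450.result (G := X) hodd r hrX hrk
    set C : Subgroup ↥(commutator X) := pPrimeCore r ↥(commutator X) with hC
    set N : Subgroup X := C.map (commutator X).subtype with hNdef
    have hCchar : C.Characteristic := Cfsg.Agent.Helper55.pPrimeCore_characteristic r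
    have hNn : N.Normal := by
      constructor
      intro n hn g
      obtain ⟨c, hc, rfl⟩ := hn
      -- conjugation by `g` is an automorphism of the normal subgroup `commutator X`
      have hmem : (MulAut.conjNormal g : MulAut ↥(commutator X)) c ∈ C := by
        have := (Subgroup.characteristic_iff_comap_eq.mp hCchar) (MulAut.conjNormal g)
        have h2 : c ∈ C.comap (MulAut.conjNormal g : MulAut ↥(commutator X)).toMonoidHom := by
          rw [this]; exact hc
        exact h2
      refine ⟨(MulAut.conjNormal g : MulAut ↥(commutator X)) c, hmem, ?_⟩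
      simp [MulAut.conjNormal_apply]
    have hNcop : (Nat.card N).Coprime r := by
      rw [hNdef, Subgroup.card_map_of_injective (Subgroup.subtype_injective _)]
      exact Cfsg.Agent.Helper55.pPrimeCore_coprime r
    have hP1N : P1 ≤ N := by
      intro x hx
      have hL : P1.subgroupOf (commutator X) ≤ C := by
        apply h4
        rw [Nat.card_congr (Subgroup.subgroupOfEquivOfLe hP1).toEquiv]
        exact hcop
      refine ⟨⟨x, hP1 hx⟩, hL ?_, rfl⟩
      rw [Subgroup.mem_subgroupOf]
      exact hx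
    -- `Y ⊓ N = ⊥`
    have hYN : Disjoint Y N := by
      apply Subgroup.disjoint_of_coprime_natCard
      obtain ⟨m, hm⟩ := hY.exists_card_eq
      rw [hm]
      exact (Nat.Coprime.pow_right m hNcop).symm
    intro x hx
    rw [Subgroup.mem_centralizer_iff]
    intro y hy
    have hxN : x ∈ N := hP1N hx
    have hxn := hN hx
    rw [Subgroup.mem_normalizer_iff] at hxn
    -- the commutator `y * x * y⁻¹ * x⁻¹` lies in `Y ⊓ N`
    have h1 : y * x * y⁻¹ * x⁻¹ ∈ N :=
      N.mul_mem (hNn.conj_mem x hxN y) (N.inv_mem hxN)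
    have h2 : y * x * y⁻¹ * x⁻¹ ∈ Y := by
      have h3 : x * y⁻¹ * x⁻¹ ∈ Y := (hxn y⁻¹).mp (Y.inv_mem hy)
      have : y * x * y⁻¹ * x⁻¹ = y * (x * y⁻¹ * x⁻¹) := by group
      rw [this]
      exact Y.mul_mem hy h3
    have h3 : y * x * y⁻¹ * x⁻¹ ∈ Y ⊓ N := ⟨h2, h1⟩
    rw [hYN.eq_bot, Subgroup.mem_bot] at h3
    calc y * x = (y * x * y⁻¹ * x⁻¹) * (x * y) := by group
      _ = x * y := by rw [h3, one_mul]
  · -- `r` does not divide the order of `X`: `Y` is trivial
    have hYbot : Y = ⊥ := by
      obtain ⟨m, hm⟩ := hY.exists_card_eq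
      have hd : Nat.card Y ∣ Nat.card X := Subgroup.card_subgroup_dvd_card Y
      have hm0 : m = 0 := by
        by_contra hne
        apply hrX
        rw [hm] at hd
        exact (dvd_pow_self r hne).trans hd
      rw [hm0, pow_zero] at hm
      exact Subgroup.eq_bot_of_card_eq _ hm
    rw [hYbot]
    intro x _
    rw [Subgroup.mem_centralizer_iff]
    intro y hy
    have : y = 1 := by simpa using hy
    rw [this, one_mul, mul_one]

/-- the normal subgroup `C_X(O_{p'}(F(X))) ∩ X'` used in Case B. -/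
noncomputable def nsub (p : ℕ) (X : Type*) [Group X] : Subgroup X :=
  (⨅ r : {r : ℕ // r.Prime ∧ r ≠ p}, Subgroup.centralizer (pCore (r : ℕ) X : Set X)) ⊓ commutator X

instance nsub_normal (p : ℕ) : (nsub p X).Normal := by
  unfold nsub
  have h1 : ∀ r : {r : ℕ // r.Prime ∧ r ≠ p},
      (Subgroup.centralizer (pCore (r : ℕ) X : Set X)).Normal := fun r => inferInstance
  have h2 : (⨅ r : {r : ℕ // r.Prime ∧ r ≠ p},
      Subgroup.centralizer (pCore (r : ℕ) X : Set X)).Normal := by
    constructor
    intro n hn g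
    rw [Subgroup.mem_iInf] at hn ⊢
    intro r
    exact (h1 r).conj_mem n (hn r) g
  exact Subgroup.normal_inf_normal _ _

/-- **R6** (Case B of B-G 9.5): in a solvable group `X` of odd order with `O_p(X)` of rank at most
2, a `p`-subgroup `P1` of the derived subgroup centralizing `O_r(X)` for every prime `r ≠ p` lies in
`O_p(X)`. -/
theorem r6 [Group.IsSolvable X] (hodd : Odd (Nat.card X)) (p : ℕ) [Fact p.Prime]
    (hrk : PRankLE p 2 ↥(pCore p X)) (P1 : Subgroup X) (hP1p : IsPGroup p P1)
    (hP1 : P1 ≤ commutator X)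
    (hcen : ∀ r : ℕ, r.Prime → r ≠ p → P1 ≤ Subgroup.centralizer (pCore r X : Set X)) :
    P1 ≤ pCore p X := by
  have hle : P1 ≤ nsub p X := by
    intro x hx
    rw [nsub, Subgroup.mem_inf, Subgroup.mem_iInf]
    exact ⟨fun r => hcen r r.2.1 r.2.2 hx, hP1 hx⟩
  have hN : nsub p X ≤ fittingSubgroup X := by
    apply Cfsg.Agent.Helper63.le_fittingSubgroup_of_centralizes inferInstance
    intro q hq y hy hyq
    rw [nsub, Subgroup.mem_inf, Subgroup.mem_iInf] at hy
    by_cases hqp : q = p
    · subst hqp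
      exact Cfsg.Agent.S1451.key1 inferInstance hodd q hrk y hy.2 hyq
    · exact hy.1 ⟨q, hq.out, hqp⟩
  exact le_pCore_of_le_fitting p P1 hP1p (hle.trans hN)

end Cfsg.Agent.Helper19.BG95Aux
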