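import Mathlib

/-!
# Kegel's lemma on permutable subgroups
-/

set_option autoImplicit false
set_option maxHeartbeats 400000

namespace Cfsg.Agent.Helper19

open scoped Pointwise

variable {G : Type*} [Group G]

theorem mem_cj {B : Subgroup G} {x g : G} :
    g ∈ MulAut.conj x • B ↔ ∃ b ∈ B, g = x * b * x⁻¹ := by
  rw [Subgroup.mem_smul_pointwise_iff_exists]
  simp only [MulAut.smul_def, MulAut.conj_apply]
  constructor
  · rintro ⟨b, hb, rfl⟩; exact ⟨b, hb, rfl⟩
  · rintro ⟨b, hb, rfl⟩; exact ⟨b, hb, rfl⟩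

theorem cj_cj (B : Subgroup G) (x y : G) :
    MulAut.conj x • (MulAut.conj y • B) = MulAut.conj (x * y) • B := by
  rw [smul_smul, ← map_mul]

theorem cj_mem_self {B : Subgroup G} {b : G} (hb : b ∈ B) : MulAut.conj b • B = B := by
  ext g
  rw [mem_cj]
  constructor
  · rintro ⟨c, hc, rfl⟩
    exact B.mul_mem (B.mul_mem hb hc) (B.inv_mem hb)
  · intro hg
    exact ⟨b⁻¹ * g * b, B.mul_mem (B.mul_mem (B.inv_mem hb) hg) hb, by group⟩

theorem cj_le_of_mem {B S : Subgroup G} {s : G} (hs : s ∈ S) (hB : B ≤ S) :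
    MulAut.conj s • B ≤ S := by
  intro g hg
  obtain ⟨b, hb, rfl⟩ := mem_cj.1 hg
  exact S.mul_mem (S.mul_mem hs (hB hb)) (S.inv_mem hs)

/-- `K` permutes with `H` elementwise. -/
def PermWith (H K : Subgroup G) : Prop :=
  ∀ k ∈ K, ∀ a ∈ H, ∃ a' ∈ H, ∃ k' ∈ K, k * a = a' * k'

theorem permWith_of_set_eq {H K S : Subgroup G} (hS : (S : Set G) = (H : Set G) * (K : Set G)) :
    PermWith H K := by
  intro k hk a ha
  have hkS : k ∈ S := by
    have : k ∈ (S : Set G) := by rw [hS]; exact ⟨1, H.one_mem, k, hk, one_mul k⟩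
    exact this
  have haS : a ∈ S := by
    have : a ∈ (S : Set G) := by rw [hS]; exact ⟨a, ha, 1, K.one_mem, mul_one a⟩
    exact this
  have : k * a ∈ (S : Set G) := S.mul_mem hkS haS
  rw [hS] at this
  obtain ⟨a', ha', k', hk', e⟩ := this
  exact ⟨a', ha', k', hk', e.symm⟩

/-- If `K` permutes with `H`, then `H * K` is a subgroup. -/
theorem exists_subgroup_of_permWith {H K : Subgroup G} (h : PermWith H K) :
    ∃ S : Subgroup G, (S : Set G) = (H : Set G) * (K : Set G) := by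
  refine ⟨{ carrier := (H : Set G) * (K : Set G)
            mul_mem' := ?_
            one_mem' := ⟨1, H.one_mem, 1, K.one_mem, one_mul 1⟩
            inv_mem' := ?_ }, rfl⟩
  · rintro _ _ ⟨a, ha, c, hc, rfl⟩ ⟨a', ha', c', hc', rfl⟩
    obtain ⟨a'', ha'', c'', hc'', e⟩ := h c hc a' ha'
    refine ⟨a * a'', H.mul_mem ha ha'', c'' * c', K.mul_mem hc'' hc', ?_⟩
    calc a * a'' * (c'' * c') = a * (a'' * c'') * c' := by group
      _ = a * (c * a') * c' := by rw [e]
      _ = a * c * (a' * c') := by group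
  · rintro _ ⟨a, ha, c, hc, rfl⟩
    obtain ⟨a'', ha'', c'', hc'', e⟩ := h c⁻¹ (K.inv_mem hc) a⁻¹ (H.inv_mem ha)
    refine ⟨a'', ha'', c'', hc'', ?_⟩
    show a'' * c'' = (a * c)⁻¹
    rw [← e]; group

/-- If `K` permutes with `H₁` and `H₂`, it permutes with `H₁ ⊔ H₂`. -/
theorem permWith_sup {H₁ H₂ K : Subgroup G} (h₁ : PermWith H₁ K) (h₂ : PermWith H₂ K) :
    PermWith (H₁ ⊔ H₂) K := by
  have key : ∀ a ∈ H₁ ⊔ H₂,
      (∀ k ∈ K, ∃ a' ∈ H₁ ⊔ H₂, ∃ k' ∈ K, k * a = a' * k') ∧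
      (∀ k ∈ K, ∃ a' ∈ H₁ ⊔ H₂, ∃ k' ∈ K, k * a⁻¹ = a' * k') := by
    intro a ha
    rw [Subgroup.sup_eq_closure] at ha
    induction ha using Subgroup.closure_induction with
    | mem x hx =>
      rcases hx with hx | hx
      · refine ⟨fun k hk => ?_, fun k hk => ?_⟩
        · obtain ⟨a', ha', k', hk', e⟩ := h₁ k hk x hx
          exact ⟨a', (le_sup_left : H₁ ≤ H₁ ⊔ H₂) ha', k', hk', e⟩
        · obtain ⟨a', ha', k', hk', e⟩ := h₁ k hk x⁻¹ (H₁.inv_mem hx)
          exact ⟨a', (le_sup_left : H₁ ≤ H₁ ⊔ H₂) ha', k', hk', e⟩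
      · refine ⟨fun k hk => ?_, fun k hk => ?_⟩
        · obtain ⟨a', ha', k', hk', e⟩ := h₂ k hk x hx
          exact ⟨a', (le_sup_right : H₂ ≤ H₁ ⊔ H₂) ha', k', hk', e⟩
        · obtain ⟨a', ha', k', hk', e⟩ := h₂ k hk x⁻¹ (H₂.inv_mem hx)
          exact ⟨a', (le_sup_right : H₂ ≤ H₁ ⊔ H₂) ha', k', hk', e⟩
    | one =>
      refine ⟨fun k hk => ?_, fun k hk => ?_⟩
      · exact ⟨1, Subgroup.one_mem _, k, hk, by group⟩
      · exact ⟨1, Subgroup.one_mem _, k, hk, by group⟩
    | mul x y _ _ ihx ihy =>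
      refine ⟨fun k hk => ?_, fun k hk => ?_⟩
      · obtain ⟨x', hx', k', hk', e⟩ := ihx.1 k hk
        obtain ⟨y', hy', k'', hk'', e'⟩ := ihy.1 k' hk'
        refine ⟨x' * y', Subgroup.mul_mem _ hx' hy', k'', hk'', ?_⟩
        calc k * (x * y) = (k * x) * y := by group
          _ = x' * (k' * y) := by rw [e]; group
          _ = x' * y' * k'' := by rw [e']; group
      · obtain ⟨y', hy', k', hk', e⟩ := ihy.2 k hk
        obtain ⟨x', hx', k'', hk'', e'⟩ := ihx.2 k' hk'
        refine ⟨y' * x', Subgroup.mul_mem _ hy' hx', k'', hk'', ?_⟩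
        calc k * (x * y)⁻¹ = (k * y⁻¹) * x⁻¹ := by group
          _ = y' * (k' * x⁻¹) := by rw [e]; group
          _ = y' * x' * k'' := by rw [e']; group
    | inv x _ ihx =>
      refine ⟨ihx.2, ?_⟩
      rw [inv_inv]
      exact ihx.1
  intro k hk a ha
  exact (key a ha).1 k hk

theorem card_lt_card_of_lt' [Finite G] {Q R : Subgroup G} (hlt : Q < R) :
    Nat.card Q < Nat.card R := by
  by_contra h
  push Not at h
  exact hlt.ne (Subgroup.eq_of_le_of_card_ge hlt.le h)

theorem permWith_cj {H K : Subgroup G} (h : PermWith H K) (y : G) :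
    PermWith (MulAut.conj y • H) (MulAut.conj y • K) := by
  intro k hk a ha
  obtain ⟨k₀, hk₀, rfl⟩ := mem_cj.1 hk
  obtain ⟨a₀, ha₀, rfl⟩ := mem_cj.1 ha
  obtain ⟨a', ha', k', hk', e⟩ := h k₀ hk₀ a₀ ha₀
  refine ⟨y * a' * y⁻¹, mem_cj.2 ⟨a', ha', rfl⟩, y * k' * y⁻¹, mem_cj.2 ⟨k', hk', rfl⟩, ?_⟩
  calc y * k₀ * y⁻¹ * (y * a₀ * y⁻¹) = y * (k₀ * a₀) * y⁻¹ := by group
    _ = y * (a' * k') * y⁻¹ := by rw [e]
    _ = y * a' * y⁻¹ * (y * k' * y⁻¹) := by group

theorem kegel_aux [Finite G] : ∀ n : ℕ, ∀ A B : Subgroup G, Nat.card G - Nat.card A = n →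
    (∀ x : G, ∃ S : Subgroup G, S ≠ ⊤ ∧
      (S : Set G) = (A : Set G) * ((MulAut.conj x • B : Subgroup G) : Set G)) →
    Subgroup.normalClosure (A : Set G) = ⊤ → Subgroup.normalClosure (B : Set G) = ⊤ →
    False := by
  intro n
  induction n using Nat.strong_induction_on with
  | _ n ih =>
  intro A B hn h hAtop hBtop
  have hle : ∀ x : G, ∀ S : Subgroup G,
      (S : Set G) = (A : Set G) * ((MulAut.conj x • B : Subgroup G) : Set G) →
      A ≤ S ∧ MulAut.conj x • B ≤ S := by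
    intro x S hS
    constructor
    · intro a ha
      have : a ∈ (S : Set G) := by rw [hS]; exact ⟨a, ha, 1, Subgroup.one_mem _, mul_one a⟩
      exact this
    · intro c hc
      have : c ∈ (S : Set G) := by rw [hS]; exact ⟨1, A.one_mem, c, hc, one_mul c⟩
      exact this
  -- `A` is not normal
  have hAnn : ¬ A.Normal := by
    intro hnorm
    obtain ⟨S, hStop, hS⟩ := h 1
    have := Subgroup.normalClosure_eq_self A
    rw [hAtop] at this
    apply hStop
    rw [eq_top_iff, this]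
    exact (hle 1 S hS).1
  -- some conjugate of `B` is not in the normalizer of `A`
  have hex : ∃ x y : G, y ∈ MulAut.conj x • B ∧ y ∉ Subgroup.normalizer (A : Set G) := by
    by_contra hcon
    push Not at hcon
    apply hAnn
    have hsub : Subgroup.normalClosure (B : Set G) ≤ Subgroup.normalizer (A : Set G) := by
      unfold Subgroup.normalClosure
      rw [Subgroup.closure_le]
      intro g hg
      rw [Group.mem_conjugatesOfSet_iff] at hg
      obtain ⟨b, hb, hconj⟩ := hg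
      rw [isConj_iff] at hconj
      obtain ⟨c, rfl⟩ := hconj
      exact hcon c _ (mem_cj.2 ⟨b, hb, rfl⟩)
    rw [hBtop, top_le_iff] at hsub
    exact Subgroup.normalizer_eq_top_iff.1 hsub
  obtain ⟨x, y, hyB, hyN⟩ := hex
  -- the bigger subgroup
  have hA1lt : A < A ⊔ MulAut.conj y • A := by
    refine lt_of_le_of_ne le_sup_left ?_
    intro heq
    apply hyN
    have hsub : MulAut.conj y • A ≤ A := le_sup_right.trans heq.ge
    have hcard : Nat.card (MulAut.conj y • A : Subgroup G) = Nat.card A :=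
      (Nat.card_congr (Subgroup.equivSMul (MulAut.conj y) A).toEquiv).symm
    have heq2 : MulAut.conj y • A = A :=
      Subgroup.eq_of_le_of_card_ge hsub hcard.ge
    rw [Subgroup.mem_normalizer_iff]
    intro g
    constructor
    · intro hg
      have : y * g * y⁻¹ ∈ MulAut.conj y • A := mem_cj.2 ⟨g, hg, rfl⟩
      rw [heq2] at this
      exact this
    · intro hg
      rw [← heq2] at hg
      obtain ⟨a, ha, e⟩ := mem_cj.1 hg
      have : g = a := by
        have h3 : y⁻¹ * (y * g * y⁻¹) * y = y⁻¹ * (y * a * y⁻¹) * y := by rw [e]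
        rw [show y⁻¹ * (y * g * y⁻¹) * y = g by group,
          show y⁻¹ * (y * a * y⁻¹) * y = a by group] at h3
        exact h3
      rw [this]; exact ha
  -- `A ⊔ y•A` permutes with every conjugate of `B`
  have hperm : ∀ z : G, PermWith (A ⊔ MulAut.conj y • A) (MulAut.conj z • B) := by
    intro z
    apply permWith_sup
    · obtain ⟨S, -, hS⟩ := h z
      exact permWith_of_set_eq hS
    · obtain ⟨S, -, hS⟩ := h (y⁻¹ * z)
      have := permWith_cj (permWith_of_set_eq hS) y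
      rw [cj_cj] at this
      simpa using this
  -- the normal closure of the bigger group is still everything
  have hA1top : Subgroup.normalClosure ((A ⊔ MulAut.conj y • A : Subgroup G) : Set G) = ⊤ := by
    rw [eq_top_iff, ← hAtop]
    exact Subgroup.normalClosure_mono
      (SetLike.coe_subset_coe.2 (le_sup_left : A ≤ A ⊔ MulAut.conj y • A))
  -- so some product is everything
  have hex2 : ∃ z : G, ∀ S : Subgroup G,
      (S : Set G) = ((A ⊔ MulAut.conj y • A : Subgroup G) : Set G)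
        * ((MulAut.conj z • B : Subgroup G) : Set G) → S = ⊤ := by
    by_contra hcon
    push Not at hcon
    have hcard := card_lt_card_of_lt' hA1lt
    have hcardG : Nat.card (A ⊔ MulAut.conj y • A : Subgroup G) ≤ Nat.card G :=
      Subgroup.card_le_card_group _
    refine ih (Nat.card G - Nat.card (A ⊔ MulAut.conj y • A : Subgroup G)) (by omega)
      (A ⊔ MulAut.conj y • A) B rfl ?_ hA1top hBtop
    intro z
    obtain ⟨S, hS, hSne⟩ := hcon z
    exact ⟨S, hSne, hS⟩
  obtain ⟨z, hz⟩ := hex2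
  obtain ⟨T, hT⟩ := exists_subgroup_of_permWith (hperm z)
  have hTtop := hz T hT
  -- the subgroup `S_x ⊇ A ⊔ y•A`
  obtain ⟨S, hStop, hS⟩ := h x
  obtain ⟨hAS, hBS⟩ := hle x S hS
  have hyS : y ∈ S := hBS hyB
  have hA1S : A ⊔ MulAut.conj y • A ≤ S := sup_le hAS (cj_le_of_mem hyS hAS)
  -- decompose `x * z⁻¹`
  have hmem : x * z⁻¹ ∈ (T : Set G) := by rw [hTtop]; trivial
  rw [hT] at hmem
  obtain ⟨s, hs, c, hc, e⟩ := hmem
  obtain ⟨β, hβ, rfl⟩ := mem_cj.1 hc
  have hsS : s ∈ S := hA1S hs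
  have hz_eq : z = s⁻¹ * x * β⁻¹ := by
    have e' : s * (z * β * z⁻¹) = x * z⁻¹ := e
    have : s * z * β = x := by
      have h3 : s * (z * β * z⁻¹) * z = x * z⁻¹ * z := by rw [e']
      rw [show s * (z * β * z⁻¹) * z = s * z * β by group,
        show x * z⁻¹ * z = x by group] at h3
      exact h3
    rw [← this]; group
  have hzB : MulAut.conj z • B ≤ S := by
    rw [hz_eq]
    have : MulAut.conj (s⁻¹ * x * β⁻¹) • B = MulAut.conj s⁻¹ • (MulAut.conj x • B) := by
      rw [cj_cj, ← cj_cj B (s⁻¹ * x) β⁻¹, cj_mem_self (B.inv_mem hβ)]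
    rw [this]
    exact cj_le_of_mem (S.inv_mem hsS) hBS
  apply hStop
  rw [eq_top_iff]
  intro g _
  have hg : g ∈ (T : Set G) := by rw [hTtop]; trivial
  rw [hT] at hg
  obtain ⟨s', hs', c', hc', rfl⟩ := hg
  exact S.mul_mem (hA1S hs') (hzB hc')

end Cfsg.Agent.Helper19
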