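import Mathlib

set_option autoImplicit false
set_option linter.unusedSectionVars false
set_option linter.style.haveILetI false

/-! A finite abelian group with an endomorphism `δ` having no proper non-trivial invariant
subgroup is the additive group of a finite field on which `δ` is multiplication by an element
(Schur's lemma together with Wedderburn's theorem). -/

namespace Cfsg.Agent.Helper19.IrredField

theorem exists_field_add {M : Type*} [AddCommGroup M] [Finite M] [Nontrivial M]
    (δ : M →+ M) (hirr : ∀ C : AddSubgroup M, (∀ x ∈ C, δ x ∈ C) → C = ⊥ ∨ C = ⊤) :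
    ∃ (E : Type) (_ : Field E) (_ : Fintype E) (θ : E ≃+ M) (ε : E),
      ∀ x, θ (ε * x) = δ (θ x) := by
  classical
  let R := AddMonoid.End M
  let δR : R := δ
  let E0 : Subring R := Subring.centralizer {δR}
  have hδmem : δR ∈ E0 := by
    rw [Subring.mem_centralizer_iff]
    intro g hg
    rw [Set.mem_singleton_iff] at hg
    rw [hg]
  have hcommδ : ∀ A : E0, ∀ x : M, (A : R) (δ x) = δ ((A : R) x) := by
    intro A x
    have h1 := (Subring.mem_centralizer_iff.mp A.2) δR (Set.mem_singleton _)
    have h2 := DFunLike.congr_fun h1 x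
    exact h2.symm
  obtain ⟨v0, hv0⟩ := exists_ne (0 : M)
  let f : E0 → (M →+ M) := fun A => A.1
  have hker : ∀ A : E0, (∀ x, (A : R) x = 0) ∨ Function.Injective (A : R) := by
    intro A
    rcases hirr (AddMonoidHom.ker (f A)) (fun x hx => by
      rw [AddMonoidHom.mem_ker] at hx ⊢
      change (A : R) (δ x) = 0
      rw [hcommδ A x]
      change δ (f A x) = 0
      rw [hx, map_zero]) with h | h
    · right
      exact (AddMonoidHom.ker_eq_bot_iff (f A)).mp h
    · left
      intro x
      have : x ∈ AddMonoidHom.ker (f A) := by rw [h]; exact AddSubgroup.mem_top x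
      exact this
  let ev : E0 →+ M :=
    { toFun := fun A => (A : R) v0
      map_zero' := rfl
      map_add' := fun A B => rfl }
  have hev_inj : Function.Injective ev := by
    rw [injective_iff_map_eq_zero]
    intro A hA
    rcases hker A with h | h
    · exact Subtype.ext (AddMonoidHom.ext h)
    · exfalso
      exact hv0 (h (hA.trans (map_zero (A : R)).symm))
  have hev_surj : Function.Surjective ev := by
    have hrange : AddMonoidHom.range ev = ⊤ := by
      rcases hirr (AddMonoidHom.range ev) (by
        rintro x ⟨A, rfl⟩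
        exact ⟨⟨δR, hδmem⟩ * A, rfl⟩) with h | h
      · exfalso
        have hmem : v0 ∈ AddMonoidHom.range ev := ⟨1, rfl⟩
        rw [h, AddSubgroup.mem_bot] at hmem
        exact hv0 hmem
      · exact h
    exact AddMonoidHom.range_eq_top.mp hrange
  haveI : Nontrivial E0 := ⟨⟨0, 1, fun h => hv0 (by
    have h1 := congrArg ev h
    exact h1.symm.trans (map_zero ev))⟩⟩
  haveI : NoZeroDivisors E0 := ⟨fun {A B} hAB => by
    by_contra hcon
    rw [not_or] at hcon
    rcases hker A with h | h
    · exact hcon.1 (Subtype.ext (AddMonoidHom.ext h))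
    · apply hcon.2
      apply Subtype.ext
      apply AddMonoidHom.ext
      intro x
      apply h
      have h1 := DFunLike.congr_fun (congrArg Subtype.val hAB) x
      exact h1.trans (map_zero (A : R)).symm⟩
  haveI : IsDomain E0 := NoZeroDivisors.to_isDomain _
  haveI : Finite E0 := Finite.of_injective ev hev_inj
  haveI : Fintype E0 := Fintype.ofFinite E0
  letI : DivisionRing E0 := Fintype.divisionRingOfIsDomain E0
  letI : Field E0 := littleWedderburn E0
  let ρ : Shrink.{0} E0 ≃+* E0 := Shrink.ringEquiv.{0} E0
  haveI : Finite (Shrink.{0} E0) := Finite.of_equiv E0 ρ.symm.toEquiv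
  let evE : E0 ≃+ M := AddEquiv.ofBijective ev ⟨hev_inj, hev_surj⟩
  refine ⟨Shrink.{0} E0, inferInstance, Fintype.ofFinite _, ρ.toAddEquiv.trans evE,
    ρ.symm ⟨δR, hδmem⟩, ?_⟩
  intro x
  change ev (ρ (ρ.symm ⟨δR, hδmem⟩ * x)) = δ (ev (ρ x))
  rw [map_mul, RingEquiv.apply_symm_apply]
  rfl

theorem exists_field_mul {A : Type*} [Group A] [Finite A] [Nontrivial A]
    (hcomm : ∀ x y : A, x * y = y * x) (δ : A →* A)
    (hirr : ∀ C : Subgroup A, (∀ x ∈ C, δ x ∈ C) → C = ⊥ ∨ C = ⊤) :
    ∃ (E : Type) (_ : Field E) (_ : Fintype E) (θ : E → A) (ε : E),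
      Function.Bijective θ ∧ (∀ x y, θ (x + y) = θ x * θ y) ∧ ∀ x, θ (ε * x) = δ (θ x) := by
  letI : CommGroup A := { (inferInstance : Group A) with mul_comm := hcomm }
  obtain ⟨E, iF, iT, θ, ε, h⟩ := exists_field_add (M := Additive A) (MonoidHom.toAdditive δ) (by
    intro C hC
    let C' : Subgroup A :=
      { carrier := {x | Additive.ofMul x ∈ C}
        mul_mem' := fun {x y} hx hy => C.add_mem hx hy
        one_mem' := C.zero_mem
        inv_mem' := fun {x} hx => C.neg_mem hx }
    rcases hirr C' (fun x hx => hC (Additive.ofMul x) hx) with h | h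
    · left
      rw [AddSubgroup.eq_bot_iff_forall]
      intro x hx
      have : Additive.toMul x ∈ C' := hx
      rw [h, Subgroup.mem_bot] at this
      exact this
    · right
      rw [AddSubgroup.eq_top_iff']
      intro x
      have : Additive.toMul x ∈ C' := by rw [h]; exact Subgroup.mem_top _
      exact this)
  refine ⟨E, iF, iT, fun x => Additive.toMul (θ x), ε, ?_, ?_, ?_⟩
  · exact Additive.toMul.bijective.comp θ.bijective
  · intro x y
    change Additive.toMul (θ (x + y)) = _
    rw [map_add]
    rfl
  · intro x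
    change Additive.toMul (θ (ε * x)) = _
    rw [h x]
    rfl

end Cfsg.Agent.Helper19.IrredField
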