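import Mathlib
import Cfsg.Prelude.Def_LieRecognition

set_option autoImplicit false

namespace Cfsg.Agent.Helper19

open scoped Pointwise

variable {M : Type*} [Group M]

theorem pow_card_sub_eq_one [Finite M] {X : Subgroup M} {c : M} (hc : c ∈ X) :
    c ^ Nat.card X = 1 := by
  have : (⟨c, hc⟩ : X) ^ Nat.card X = 1 := pow_card_eq_one'
  exact congrArg Subtype.val this

/-- In a subgroup of odd order `2k+1`, `(c*c)^(k+1) = c`. -/
theorem sq_pow_eq [Finite M] {X : Subgroup M} {k : ℕ} (hk : Nat.card X = 2 * k + 1) {c : M}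
    (hc : c ∈ X) : (c * c) ^ (k + 1) = c := by
  rw [← pow_two, ← pow_mul]
  have : 2 * (k + 1) = Nat.card X + 1 := by omega
  rw [this, pow_succ, pow_card_sub_eq_one hc, one_mul]

theorem sq_inj [Finite M] {X : Subgroup M} (hodd : Odd (Nat.card X)) {c d : M}
    (hc : c ∈ X) (hd : d ∈ X) (h : c * c = d * d) : c = d := by
  obtain ⟨k, hk⟩ := hodd
  rw [← sq_pow_eq hk hc, ← sq_pow_eq hk hd, h]

theorem mem_invertedBy {X : Subgroup M} {t x : M} :
    x ∈ Cfsg.invertedBy X t ↔ x ∈ X ∧ t * x * t⁻¹ = x⁻¹ := Iff.rfl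

theorem invertedBy_pow {X : Subgroup M} {t x : M} (hx : x ∈ Cfsg.invertedBy X t) (n : ℕ) :
    x ^ n ∈ Cfsg.invertedBy X t := by
  refine ⟨pow_mem hx.1 n, ?_⟩
  rw [← conj_pow, hx.2, inv_pow]

theorem invertedBy_inv {X : Subgroup M} {t x : M} (hx : x ∈ Cfsg.invertedBy X t) :
    x⁻¹ ∈ Cfsg.invertedBy X t := by
  refine ⟨inv_mem hx.1, ?_⟩
  have : t * x⁻¹ * t⁻¹ = (t * x * t⁻¹)⁻¹ := by group
  rw [this, hx.2]

/-- Existence and uniqueness of the factorization `x = y z`, `y ∈ C_X(t)`, `z` inverted by `t`. -/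
theorem odd_factor [Finite M] {t : M} (ht2 : t * t = 1) {X : Subgroup M}
    (hodd : Odd (Nat.card X)) (hnorm : ∀ x ∈ X, t * x * t⁻¹ ∈ X) {x : M} (hx : x ∈ X) :
    ∃! p : M × M, p.1 ∈ X ⊓ Subgroup.centralizer {t} ∧ p.2 ∈ Cfsg.invertedBy X t ∧
      x = p.1 * p.2 := by
  obtain ⟨k, hk⟩ := hodd
  have htinv : t⁻¹ = t := inv_eq_of_mul_eq_one_left ht2
  set c := (t * x * t⁻¹)⁻¹ * x with hc
  have hcX : c ∈ X := mul_mem (inv_mem (hnorm x hx)) hx
  have hcinv : c ∈ Cfsg.invertedBy X t := by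
    refine ⟨hcX, ?_⟩
    have h1 : t * c * t⁻¹ = (t * t) * x⁻¹ * t⁻¹ * x * t⁻¹ := by rw [hc]; group
    have h2 : c⁻¹ = x⁻¹ * t * x * t⁻¹ := by rw [hc]; group
    rw [h1, h2, ht2, one_mul]
    simp only [htinv]
  set z := c ^ (k + 1) with hz
  have hzinv : z ∈ Cfsg.invertedBy X t := invertedBy_pow hcinv _
  have hzz : z * z = c := by
    rw [hz, ← pow_add]
    have : k + 1 + (k + 1) = Nat.card X + 1 := by omega
    rw [this, pow_succ, pow_card_sub_eq_one hcX, one_mul]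
  have hy : x * z⁻¹ ∈ X ⊓ Subgroup.centralizer {t} := by
    refine Subgroup.mem_inf.mpr ⟨mul_mem hx (inv_mem hzinv.1), ?_⟩
    rw [Subgroup.mem_centralizer_iff]
    intro h hh
    rw [Set.mem_singleton_iff] at hh
    rw [hh]
    -- t * (x z⁻¹) = (x z⁻¹) * t
    have h1 : t * z⁻¹ * t⁻¹ = z := by
      have := (invertedBy_inv hzinv).2
      rwa [inv_inv] at this
    have h2 : t * (x * z⁻¹) * t⁻¹ = (t * x * t⁻¹) * (t * z⁻¹ * t⁻¹) := by group
    have h3 : t * x * t⁻¹ = x * c⁻¹ := by rw [hc]; group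
    have h4 : t * (x * z⁻¹) * t⁻¹ = x * z⁻¹ := by
      rw [h2, h1, h3, ← hzz]; group
    have h5 : t * (x * z⁻¹) = t * (x * z⁻¹) * t⁻¹ * t := by group
    rw [h5, h4]
  refine ⟨(x * z⁻¹, z), ⟨hy, hzinv, by group⟩, ?_⟩
  rintro ⟨y', z'⟩ ⟨hy', hz', hxyz⟩
  simp only at hy' hz' hxyz
  have hy't : t * y' * t⁻¹ = y' := by
    have := (Subgroup.mem_centralizer_iff.mp hy'.2) t (Set.mem_singleton t)
    rw [this]; group
  have hc' : c = z' * z' := by
    rw [hc, hxyz]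
    have h1 : t * (y' * z') * t⁻¹ = (t * y' * t⁻¹) * (t * z' * t⁻¹) := by group
    rw [h1, hy't, hz'.2]; group
  have hzz' : z = z' := by
    have hX : Nat.card X = 2 * k + 1 := hk
    exact sq_inj ⟨k, hX⟩ hzinv.1 hz'.1 (by rw [hzz, hc'])
  have : y' = x * z⁻¹ := by rw [hxyz, hzz']; group
  rw [this, hzz']

theorem odd_factor_card [Finite M] {t : M} (ht2 : t * t = 1) {X : Subgroup M}
    (hodd : Odd (Nat.card X)) (hnorm : ∀ x ∈ X, t * x * t⁻¹ ∈ X) :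
    Nat.card X = Nat.card ↥(X ⊓ Subgroup.centralizer {t}) * Nat.card (Cfsg.invertedBy X t) := by
  rw [← Nat.card_prod]
  symm
  let f : ↥(X ⊓ Subgroup.centralizer {t}) × (Cfsg.invertedBy X t) → X :=
    fun p => ⟨(p.1 : M) * (p.2 : M), mul_mem p.1.2.1 p.2.2.1⟩
  apply Nat.card_congr (Equiv.ofBijective f ⟨?_, ?_⟩)
  · rintro ⟨⟨y, hy⟩, ⟨z, hz⟩⟩ ⟨⟨y', hy'⟩, ⟨z', hz'⟩⟩ h
    have h1 : y * z = y' * z' := congrArg Subtype.val h
    have hx : y * z ∈ X := mul_mem hy.1 hz.1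
    obtain ⟨p, _, hp⟩ := odd_factor ht2 hodd hnorm hx
    have e1 := hp (y, z) ⟨hy, hz, rfl⟩
    have e2 := hp (y', z') ⟨hy', hz', h1⟩
    have e3 : (y, z) = (y', z') := e1.trans e2.symm
    simp only [Prod.mk.injEq] at e3
    obtain ⟨rfl, rfl⟩ := e3
    rfl
  · rintro ⟨x, hx⟩
    obtain ⟨p, ⟨hp1, hp2, hp3⟩, _⟩ := odd_factor ht2 hodd hnorm hx
    exact ⟨(⟨p.1, hp1⟩, ⟨p.2, hp2⟩), Subtype.ext hp3.symm⟩

theorem odd_factor_normal [Finite M] {t : M} (ht2 : t * t = 1) {X : Subgroup M}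
    (hodd : Odd (Nat.card X)) (hnorm : ∀ x ∈ X, t * x * t⁻¹ ∈ X) {x : M} (hx : x ∈ X) :
    MulAut.conj x • Subgroup.closure (Cfsg.invertedBy X t) =
      Subgroup.closure (Cfsg.invertedBy X t) := by
  obtain ⟨p, ⟨hp1, hp2, hp3⟩, _⟩ := odd_factor ht2 hodd hnorm hx
  rw [hp3, map_mul, mul_smul,
    Subgroup.conj_smul_eq_self_of_mem (Subgroup.subset_closure hp2)]
  -- conjugation by an element of the centralizer preserves the set of inverted elements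
  rw [Subgroup.smul_closure]
  congr 1
  have hyt : ∀ y ∈ X ⊓ Subgroup.centralizer {t}, ∀ z ∈ Cfsg.invertedBy X t,
      y * z * y⁻¹ ∈ Cfsg.invertedBy X t := by
    intro y hy z hz
    refine ⟨mul_mem (mul_mem hy.1 hz.1) (inv_mem hy.1), ?_⟩
    have hy't : t * y * t⁻¹ = y := by
      have := (Subgroup.mem_centralizer_iff.mp hy.2) t (Set.mem_singleton t)
      rw [this]; group
    have h1 : t * (y * z * y⁻¹) * t⁻¹ = (t * y * t⁻¹) * (t * z * t⁻¹) * (t * y * t⁻¹)⁻¹ := by group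
    rw [h1, hy't, hz.2]; group
  ext w
  constructor
  · rintro ⟨z, hz, rfl⟩
    exact hyt _ hp1 z hz
  · intro hw
    refine ⟨p.1⁻¹ * w * p.1, ?_, ?_⟩
    · have := hyt _ (inv_mem hp1) w hw
      rwa [inv_inv] at this
    · simp only [MulAut.smul_def, MulAut.conj_apply]
      group

end Cfsg.Agent.Helper19
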