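import Mathlib
import Cfsg.Agent.Lib.Helper19.OddInv

set_option autoImplicit false

/-! Conjugation on cyclic subgroups: power maps, involutory automorphisms of cyclic groups of odd
prime power order, and a Burnside-transfer consequence. -/

namespace Cfsg.Agent.Helper19.CyclicConj

variable {G : Type*} [Group G]

/-- Conjugation by an element normalising a cyclic subgroup is a power map there. -/
theorem conj_zpow_of_cyclic (C : Subgroup G) [hC : IsCyclic C] {n : G}
    (hn : ∀ c ∈ C, n * c * n⁻¹ ∈ C) : ∃ m : ℤ, ∀ c ∈ C, n * c * n⁻¹ = c ^ m := by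
  obtain ⟨g, hg⟩ := hC.exists_generator
  have h1 := hn g g.2
  obtain ⟨m, hm⟩ := Subgroup.mem_zpowers_iff.mp (hg ⟨n * g * n⁻¹, h1⟩)
  refine ⟨m, fun c hc => ?_⟩
  obtain ⟨j, hj⟩ := Subgroup.mem_zpowers_iff.mp (hg ⟨c, hc⟩)
  have hc' : c = (g : G) ^ j := by
    have := congrArg Subtype.val hj
    simpa using this.symm
  have hm' : n * g * n⁻¹ = (g : G) ^ m := by
    have := congrArg Subtype.val hm
    simpa using this.symm
  rw [hc', ← conj_zpow, hm', ← zpow_mul, ← zpow_mul, mul_comm]

/-- An element normalising a cyclic `r`-subgroup (`r` odd), whose square centralises it but which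
does not centralise it, inverts it. -/
theorem inverts_of_sq_centralizes [Finite G] (R : Subgroup G) [hRc : IsCyclic R] {r : ℕ}
    (hr : r.Prime) (hr2 : r ≠ 2) (hR : IsPGroup r R) {n : G} (hn : ∀ c ∈ R, n * c * n⁻¹ ∈ R)
    (hn2 : ∀ c ∈ R, (n * n) * c * (n * n)⁻¹ = c) (hnc : ∃ c ∈ R, n * c * n⁻¹ ≠ c) :
    ∀ c ∈ R, n * c * n⁻¹ = c⁻¹ := by
  haveI := Fact.mk hr
  obtain ⟨g, hg⟩ := hRc.exists_generator
  obtain ⟨m, hm⟩ := conj_zpow_of_cyclic R hn
  obtain ⟨k, hk⟩ := (IsPGroup.iff_orderOf.mp hR) g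
  have hk' : orderOf (g : G) = r ^ k := by rw [Subgroup.orderOf_coe]; exact hk
  have hgm : (g : G) ^ m ∈ R := R.zpow_mem g.2 m
  have h2 : (g : G) ^ (m * m) = (g : G) := by
    have e1 := hn2 g g.2
    have e2 : (n * n) * (g : G) * (n * n)⁻¹ = n * (n * g * n⁻¹) * n⁻¹ := by group
    rw [e2, hm g g.2, hm _ hgm, ← zpow_mul] at e1
    exact e1
  have h3 : ((r ^ k : ℕ) : ℤ) ∣ (m - 1) * (m + 1) := by
    rw [← hk', orderOf_dvd_iff_zpow_eq_one]
    have : (m - 1) * (m + 1) = m * m - 1 := by ring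
    rw [this, zpow_sub, h2, zpow_one, mul_inv_cancel]
  have hrp : Prime (r : ℤ) := Nat.prime_iff_prime_int.mp hr
  have hall : ∀ (e : ℤ), (g : G) ^ m = (g : G) ^ e → ∀ c ∈ R, n * c * n⁻¹ = c ^ e := by
    intro e he c hc
    obtain ⟨j, hj⟩ := Subgroup.mem_zpowers_iff.mp (hg ⟨c, hc⟩)
    have hc' : c = (g : G) ^ j := by
      have := congrArg Subtype.val hj
      simpa using this.symm
    rw [hm c hc, hc', ← zpow_mul, mul_comm, zpow_mul, he, ← zpow_mul, ← zpow_mul, mul_comm]
  push_cast at h3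
  by_cases hdiv : (r : ℤ) ∣ m - 1
  · -- then `r ∤ m + 1`, so `r ^ k ∣ m - 1` and `n` centralises `R`
    exfalso
    have hnd : ¬ (r : ℤ) ∣ m + 1 := by
      intro h
      have h2' : (r : ℤ) ∣ 2 := by
        have := dvd_sub h hdiv
        have e : m + 1 - (m - 1) = 2 := by ring
        rwa [e] at this
      have : r ∣ 2 := by exact_mod_cast h2'
      have := Nat.le_of_dvd (by norm_num) this
      have := hr.two_le
      omega
    have h4 : (r : ℤ) ^ k ∣ m - 1 := hrp.pow_dvd_of_dvd_mul_right k hnd h3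
    have h5 : (g : G) ^ m = (g : G) ^ (1 : ℤ) := by
      have : (g : G) ^ (m - 1) = 1 := by
        rw [← orderOf_dvd_iff_zpow_eq_one, hk']; push_cast; exact h4
      have e : m = (m - 1) + 1 := by ring
      rw [e, zpow_add, this, one_mul]
    obtain ⟨c, hc, hcne⟩ := hnc
    apply hcne
    rw [hall 1 h5 c hc, zpow_one]
  · have h4 : (r : ℤ) ^ k ∣ m + 1 := hrp.pow_dvd_of_dvd_mul_left k hdiv h3
    have h5 : (g : G) ^ m = (g : G) ^ (-1 : ℤ) := by
      have : (g : G) ^ (m + 1) = 1 := by
        rw [← orderOf_dvd_iff_zpow_eq_one, hk']; push_cast; exact h4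
      have e : m = (m + 1) + (-1) := by ring
      rw [e, zpow_add, this, one_mul]
    intro c hc
    rw [hall (-1) h5 c hc, zpow_neg_one]

/-- In a subgroup of odd order, an element whose square commutes with `c` commutes with `c`. -/
theorem commute_of_sq_commute [Finite G] {D : Subgroup G} (hodd : Odd (Nat.card D)) {x c : G}
    (hx : x ∈ D) (h : Commute (x * x) c) : Commute x c := by
  obtain ⟨k, hk⟩ := hodd
  rw [← Cfsg.Agent.Helper19.sq_pow_eq hk hx]
  exact h.pow_left _

/-- Burnside: if `G` has no normal subgroup of index the full `r`-part of `|G|`, then a Sylow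
`r`-subgroup is not central in its normaliser. -/
theorem exists_normalizer_not_centralizer [Finite G] {r : ℕ} [Fact r.Prime] (P : Sylow r G)
    (h : ¬ ∃ N : Subgroup G, N.Normal ∧ N.index = r ^ (Nat.card G).factorization r) :
    ∃ n ∈ Subgroup.normalizer ((P : Subgroup G) : Set G),
      n ∉ Subgroup.centralizer ((P : Subgroup G) : Set G) := by
  by_contra hcon
  push Not at hcon
  apply h
  have hP : Subgroup.normalizer ((P : Subgroup G) : Set G) ≤
      Subgroup.centralizer ((P : Subgroup G) : Set G) := fun n hn => hcon n hn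
  have hc := MonoidHom.ker_transferSylow_isComplement' P hP
  refine ⟨(MonoidHom.transferSylow P hP).ker, inferInstance, ?_⟩
  have h1 := hc.symm.index_eq_card
  rw [h1, Sylow.card_eq_multiplicity]

end Cfsg.Agent.Helper19.CyclicConj
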