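import Mathlib
import Cfsg.Prelude.Def_LieRecognition

set_option autoImplicit false

namespace Cfsg.Agent.Helper19

open MulAction
open scoped Pointwise

variable {G Ω : Type*} [Group G] [MulAction G Ω] {a : Ω} {t : G} {Q : Subgroup G}

theorem two_trans (hS : Cfsg.IsRankOneSetup G Ω a t Q) {b c d e : Ω} (h1 : b ≠ c) (h2 : d ≠ e) :
    ∃ g : G, g • b = d ∧ g • c = e :=
  (MulAction.is_two_pretransitive_iff.mp hS.two_transitive) h1 h2

theorem ta_ne (hS : Cfsg.IsRankOneSetup G Ω a t Q) : t • a ≠ a := fun h => hS.not_mem h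

/-- A non-identity element of `Q` fixes only `a`. -/
theorem fix_eq (hS : Cfsg.IsRankOneSetup G Ω a t Q) {x : G} (hx : x ∈ Q) (hx1 : x ≠ 1) {c : Ω}
    (hc : x • c = c) : c = a := by
  by_contra hca
  obtain ⟨h, h1, h2⟩ := two_trans hS (Ne.symm (ta_ne hS)) (Ne.symm hca)
  have hh : h ∈ stabilizer G a := h1
  have hmem : h⁻¹ * x * h ∈ Q := by
    have := hS.conj_mem h⁻¹ (inv_mem hh) x hx
    simpa using this
  have hfix : h⁻¹ * x * h ∈ stabilizer G (t • a) := by
    rw [mem_stabilizer_iff, mul_smul, mul_smul, h2, hc, ← h2, inv_smul_smul]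
  have : h⁻¹ * x * h ∈ Q ⊓ stabilizer G (t • a) := ⟨hmem, hfix⟩
  rw [hS.inf_eq_bot, Subgroup.mem_bot] at this
  apply hx1
  have h3 : x = h * (h⁻¹ * x * h) * h⁻¹ := by group
  rw [h3, this]; group

theorem Q_fix_a (hS : Cfsg.IsRankOneSetup G Ω a t Q) {x : G} (hx : x ∈ Q) : x • a = a := hS.le hx

/-- `Q` is transitive on the points other than `a`. -/
theorem exists_Q_smul (hS : Cfsg.IsRankOneSetup G Ω a t Q) {c d : Ω} (hc : c ≠ a) (hd : d ≠ a) :
    ∃ x ∈ Q, x • c = d := by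
  -- first: from `t • a` to any `d ≠ a`
  have key : ∀ d : Ω, d ≠ a → ∃ x ∈ Q, x • (t • a) = d := by
    intro d hd
    obtain ⟨h, h1, h2⟩ := two_trans hS (Ne.symm (ta_ne hS)) (Ne.symm hd)
    have hh : h ∈ stabilizer G a := h1
    rw [← hS.sup_eq] at hh
    have hQn : ∀ g ∈ (stabilizer G a ⊓ stabilizer G (t • a)), ∀ x ∈ Q, g * x * g⁻¹ ∈ Q :=
      fun g hg x hx => hS.conj_mem g hg.1 x hx
    obtain ⟨x, hx, y, hy, rfl⟩ : ∃ x ∈ Q, ∃ y ∈ (stabilizer G a ⊓ stabilizer G (t • a)), x * y = h := by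
      have : h ∈ ((Q : Set G) * ((stabilizer G a ⊓ stabilizer G (t • a) : Subgroup G) : Set G)) := by
        have hnorm : (stabilizer G a ⊓ stabilizer G (t • a)) ≤ Subgroup.normalizer (Q : Set G) := by
          intro g hg
          rw [Subgroup.mem_normalizer_iff]
          intro n
          constructor
          · intro hn; exact hQn g hg n hn
          · intro hn
            have := hQn g⁻¹ (inv_mem hg) _ hn
            simpa [mul_assoc] using this
        rw [← Subgroup.coe_mul_of_right_le_normalizer_left _ _ hnorm]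
        exact hh
      obtain ⟨x, hx, y, hy, hxy⟩ := this
      exact ⟨x, hx, y, hy, hxy⟩
    refine ⟨x, hx, ?_⟩
    rw [mul_smul] at h2
    have : y • (t • a) = t • a := hy.2
    rw [this] at h2
    exact h2
  obtain ⟨x, hx, hxc⟩ := key c hc
  obtain ⟨y, hy, hyd⟩ := key d hd
  refine ⟨y * x⁻¹, mul_mem hy (inv_mem hx), ?_⟩
  rw [mul_smul, ← hxc, inv_smul_smul, hyd]

theorem Q_smul_unique (hS : Cfsg.IsRankOneSetup G Ω a t Q) {c : Ω} (hc : c ≠ a) {x y : G}
    (hx : x ∈ Q) (hy : y ∈ Q) (h : x • c = y • c) : x = y := by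
  by_contra hxy
  have h1 : y⁻¹ * x ≠ 1 := by
    intro h1
    apply hxy
    have : x = y * (y⁻¹ * x) := by group
    rw [this, h1, mul_one]
  have h2 : (y⁻¹ * x) • c = c := by rw [mul_smul, h, inv_smul_smul]
  exact hc (fix_eq hS (mul_mem (inv_mem hy) hx) h1 h2)

theorem exists_ne_one [Finite G] (hS : Cfsg.IsRankOneSetup G Ω a t Q) : ∃ x ∈ Q, x ≠ 1 := by
  have h1 : 1 < Nat.card Q := by
    have hpos : 0 < Nat.card Q := Nat.card_pos
    obtain ⟨k, hk⟩ := hS.even_card
    omega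
  rw [Finite.one_lt_card_iff_nontrivial] at h1
  obtain ⟨x, hx⟩ := exists_ne (1 : Q)
  exact ⟨x, x.2, fun h => hx (Subtype.ext h)⟩

theorem stab_conj (hS : Cfsg.IsRankOneSetup G Ω a t Q) {g : G} (hg : g ∈ stabilizer G a) {x : G} :
    x ∈ Q ↔ g * x * g⁻¹ ∈ Q := by
  constructor
  · exact hS.conj_mem g hg x
  · intro h
    have := hS.conj_mem g⁻¹ (inv_mem hg) _ h
    simpa [mul_assoc] using this

theorem isPretransitive (hS : Cfsg.IsRankOneSetup G Ω a t Q) : IsPretransitive G Ω := by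
  have := hS.two_transitive
  exact MulAction.isPretransitive_of_is_two_pretransitive

theorem finite_Omega [Finite G] (hS : Cfsg.IsRankOneSetup G Ω a t Q) : Finite Ω := by
  have := isPretransitive hS
  exact Finite.of_surjective (fun g : G => g • a) (MulAction.surjective_smul G a)

/-- `G_a = Q D` elementwise. -/
theorem stab_decomp (hS : Cfsg.IsRankOneSetup G Ω a t Q) {h : G} (hh : h ∈ stabilizer G a) :
    ∃ x ∈ Q, ∃ y ∈ (stabilizer G a ⊓ stabilizer G (t • a)), x * y = h := by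
  rw [← hS.sup_eq] at hh
  have hnorm : (stabilizer G a ⊓ stabilizer G (t • a)) ≤ Subgroup.normalizer (Q : Set G) := by
    intro g hg
    rw [Subgroup.mem_normalizer_iff]
    intro n
    exact stab_conj hS hg.1
  have : h ∈ ((Q : Set G) * ((stabilizer G a ⊓ stabilizer G (t • a) : Subgroup G) : Set G)) := by
    rw [← Subgroup.coe_mul_of_right_le_normalizer_left _ _ hnorm]
    exact hh
  obtain ⟨x, hx, y, hy, hxy⟩ := this
  exact ⟨x, hx, y, hy, hxy⟩

theorem Q_inf_D (hS : Cfsg.IsRankOneSetup G Ω a t Q) {x : G} (hx : x ∈ Q)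
    (hx' : x ∈ stabilizer G (t • a)) : x = 1 := by
  have : x ∈ Q ⊓ stabilizer G (t • a) := ⟨hx, hx'⟩
  rwa [hS.inf_eq_bot, Subgroup.mem_bot] at this

theorem card_stab (hS : Cfsg.IsRankOneSetup G Ω a t Q) :
    Nat.card (stabilizer G a) =
      Nat.card Q * Nat.card ↥(stabilizer G a ⊓ stabilizer G (t • a)) := by
  rw [← Nat.card_prod]
  symm
  let f : Q × ↥(stabilizer G a ⊓ stabilizer G (t • a)) → stabilizer G a :=
    fun p => ⟨(p.1 : G) * (p.2 : G), mul_mem (hS.le p.1.2) p.2.2.1⟩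
  apply Nat.card_congr (Equiv.ofBijective f ⟨?_, ?_⟩)
  · rintro ⟨⟨x, hx⟩, ⟨y, hy⟩⟩ ⟨⟨x', hx'⟩, ⟨y', hy'⟩⟩ h
    have h1 : x * y = x' * y' := congrArg Subtype.val h
    have h2 : x'⁻¹ * x = y' * y⁻¹ := by
      have : x'⁻¹ * x = x'⁻¹ * (x * y) * y⁻¹ := by group
      rw [this, h1]; group
    have h3 : x'⁻¹ * x = 1 := by
      apply Q_inf_D hS (mul_mem (inv_mem hx') hx)
      rw [h2]
      exact mul_mem hy'.2 (inv_mem hy.2)
    have h4 : x = x' := by
      have : x = x' * (x'⁻¹ * x) := by group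
      rw [this, h3, mul_one]
    subst h4
    have h5 : y = y' := mul_left_cancel h1
    subst h5
    rfl
  · rintro ⟨h, hh⟩
    obtain ⟨x, hx, y, hy, hxy⟩ := stab_decomp hS hh
    exact ⟨(⟨x, hx⟩, ⟨y, hy⟩), Subtype.ext hxy⟩

theorem card_Omega [Finite G] (hS : Cfsg.IsRankOneSetup G Ω a t Q) :
    Nat.card Ω = Nat.card Q + 1 := by
  have := finite_Omega hS
  have h1 : Nat.card Q = Nat.card {c : Ω // c ≠ a} := by
    let f : Q → {c : Ω // c ≠ a} := fun x => ⟨(x : G) • (t • a), by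
      intro h
      have h2 : (x : G) • (t • a) = (x : G) • a := by rw [h, Q_fix_a hS x.2]
      exact ta_ne hS (smul_left_cancel _ h2)⟩
    apply Nat.card_congr (Equiv.ofBijective f ⟨?_, ?_⟩)
    · rintro ⟨x, hx⟩ ⟨y, hy⟩ h
      have := Q_smul_unique hS (ta_ne hS) hx hy (congrArg Subtype.val h)
      exact Subtype.ext this
    · rintro ⟨c, hc⟩
      obtain ⟨x, hx, hxc⟩ := exists_Q_smul hS (ta_ne hS) hc
      exact ⟨⟨x, hx⟩, Subtype.ext hxc⟩
  have h2 : Nat.card {c : Ω // c ≠ a} = Nat.card Ω - 1 := by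
    classical
    have := Fintype.ofFinite Ω
    rw [Nat.card_eq_fintype_card, Nat.card_eq_fintype_card, Fintype.card_subtype_compl,
      Fintype.card_subtype_eq]
  have h3 : 0 < Nat.card Ω := by
    have : Nonempty Ω := ⟨a⟩
    exact Nat.card_pos
  omega

theorem card_G [Finite G] (hS : Cfsg.IsRankOneSetup G Ω a t Q) :
    Nat.card G = Nat.card Q * Nat.card ↥(stabilizer G a ⊓ stabilizer G (t • a)) *
      (Nat.card Q + 1) := by
  have := isPretransitive hS
  rw [← card_Omega hS, ← card_stab hS, ← MulAction.index_stabilizer_of_transitive G a,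
    Subgroup.card_mul_index]

end Cfsg.Agent.Helper19
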