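import Mathlib
import Cfsg.Prelude.Def_LieRecognition
import Cfsg.Agent.Lib.Helper19.RankOne

set_option autoImplicit false

namespace Cfsg.Agent.Helper19

open MulAction
open scoped Pointwise

variable {G Ω : Type*} [Group G] [MulAction G Ω] {a : Ω} {t : G} {Q : Subgroup G}

theorem inv_eq_self_of_mul_self {M : Type*} [Group M] {s : M} (hs : s * s = 1) : s⁻¹ = s :=
  inv_eq_of_mul_eq_one_left hs

/-- Involutions of `G_a` lie in `Q`. -/
theorem invol_mem_Q [Finite G] (hS : Cfsg.IsRankOneSetup G Ω a t Q) {s : G}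
    (hs : s ∈ stabilizer G a) (hs2 : s * s = 1) : s ∈ Q := by
  obtain ⟨x, hx, y, hy, rfl⟩ := stab_decomp hS hs
  have h1 : y * y ∈ Q := by
    have h2 : y * y = (y * x * y⁻¹)⁻¹ * x⁻¹ * (x * y * (x * y)) := by group
    rw [h2, hs2, mul_one]
    exact mul_mem (inv_mem (hS.conj_mem y hy.1 x hx)) (inv_mem hx)
  have h3 : y * y = 1 := Q_inf_D hS h1 (mul_mem hy.2 hy.2)
  have h4 : y = 1 := by
    have h5 : orderOf (⟨y, hy⟩ : ↥(stabilizer G a ⊓ stabilizer G (t • a))) ∣ 2 := by
      apply orderOf_dvd_of_pow_eq_one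
      apply Subtype.ext
      simp [pow_two, h3]
    have h6 : orderOf (⟨y, hy⟩ : ↥(stabilizer G a ⊓ stabilizer G (t • a))) ∣
        Nat.card ↥(stabilizer G a ⊓ stabilizer G (t • a)) := orderOf_dvd_natCard _
    have h7 : orderOf (⟨y, hy⟩ : ↥(stabilizer G a ⊓ stabilizer G (t • a))) = 1 := by
      have h8 := Nat.dvd_gcd h5 h6
      have h9 : Nat.gcd 2 (Nat.card ↥(stabilizer G a ⊓ stabilizer G (t • a))) = 1 := by
        exact Nat.coprime_two_left.mpr hS.odd_card
      rw [h9] at h8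
      exact Nat.dvd_one.mp h8
    rw [orderOf_eq_one_iff] at h7
    exact congrArg Subtype.val h7
  rw [h4, mul_one]
  exact hx

/-- An involution fixes at most one point. -/
theorem invol_fix_unique [Finite G] (hS : Cfsg.IsRankOneSetup G Ω a t Q) {u : G}
    (hu1 : u ≠ 1) (hu2 : u * u = 1) {b c : Ω} (hb : u • b = b) (hc : u • c = c) : b = c := by
  have := isPretransitive hS
  obtain ⟨g, hg⟩ := MulAction.exists_smul_eq G a b
  have hq : g⁻¹ * u * g ∈ stabilizer G a := by
    rw [mem_stabilizer_iff, mul_smul, mul_smul, hg, hb, ← hg, inv_smul_smul]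
  have hq2 : (g⁻¹ * u * g) * (g⁻¹ * u * g) = 1 := by
    have : (g⁻¹ * u * g) * (g⁻¹ * u * g) = g⁻¹ * (u * u) * g := by group
    rw [this, hu2]; group
  have hq1 : g⁻¹ * u * g ≠ 1 := by
    intro h
    apply hu1
    have : u = g * (g⁻¹ * u * g) * g⁻¹ := by group
    rw [this, h]; group
  have hQ := invol_mem_Q hS hq hq2
  have hfix : (g⁻¹ * u * g) • (g⁻¹ • c) = g⁻¹ • c := by
    rw [mul_smul, mul_smul, smul_inv_smul, hc]
  have := fix_eq hS hQ hq1 hfix
  rw [← hg, ← this, smul_inv_smul]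

theorem odd_card_Omega [Finite G] (hS : Cfsg.IsRankOneSetup G Ω a t Q) : Odd (Nat.card Ω) := by
  rw [card_Omega hS]
  exact hS.even_card.add_one

/-- An involution fixes some point. -/
theorem invol_exists_fix [Finite G] (hS : Cfsg.IsRankOneSetup G Ω a t Q) {u : G}
    (hu2 : u * u = 1) : ∃ b : Ω, u • b = b := by
  have hP : IsPGroup 2 (Subgroup.zpowers u) := by
    intro x
    refine ⟨1, ?_⟩
    obtain ⟨x, hx⟩ := x
    obtain ⟨k, rfl⟩ := Subgroup.mem_zpowers_iff.mp hx
    apply Subtype.ext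
    simp only [pow_one, SubmonoidClass.mk_pow, Subgroup.coe_one]
    rw [← zpow_natCast, ← zpow_mul, mul_comm, zpow_mul]
    simp [pow_two, hu2]
  have hodd : ¬ 2 ∣ Nat.card Ω := by
    have := odd_card_Omega hS
    rw [← Nat.not_even_iff_odd, even_iff_two_dvd] at this
    exact this
  obtain ⟨b, hb⟩ := hP.nonempty_fixed_point_of_prime_not_dvd_card Ω hodd
  exact ⟨b, hb ⟨u, Subgroup.mem_zpowers u⟩⟩

/-- If `z` commutes with an involution `u` fixing `b`, then `z` fixes `b`. -/
theorem comm_invol_fix [Finite G] (hS : Cfsg.IsRankOneSetup G Ω a t Q) {u z : G}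
    (hu1 : u ≠ 1) (hu2 : u * u = 1) {b : Ω} (hb : u • b = b) (hz : z * u = u * z) :
    z • b = b := by
  have h1 : u • (z • b) = z • b := by
    rw [← mul_smul, ← hz, mul_smul, hb]
  exact invol_fix_unique hS hu1 hu2 h1 hb

/-- Involutions with distinct fixed points have a product of odd order. -/
theorem odd_order_mul [Finite G] (hS : Cfsg.IsRankOneSetup G Ω a t Q) {u v : G}
    (hu1 : u ≠ 1) (hu2 : u * u = 1) (hv1 : v ≠ 1) (hv2 : v * v = 1) {b c : Ω}
    (hb : u • b = b) (hc : v • c = c) (hbc : b ≠ c) : Odd (orderOf (u * v)) := by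
  by_contra hodd
  rw [Nat.not_odd_iff_even] at hodd
  obtain ⟨k, hk⟩ := hodd
  have hpos : 0 < orderOf (u * v) := orderOf_pos _
  have hk0 : 0 < k := by omega
  set z := (u * v) ^ k with hz
  have hz1 : z ≠ 1 := by
    intro h
    have := orderOf_dvd_of_pow_eq_one h
    have := Nat.le_of_dvd hk0 this
    omega
  have hz2 : z * z = 1 := by
    rw [hz, ← pow_add, ← hk, pow_orderOf_eq_one]
  have huinv : u⁻¹ = u := inv_eq_self_of_mul_self hu2
  have hvinv : v⁻¹ = v := inv_eq_self_of_mul_self hv2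
  have hzinv : z⁻¹ = z := inv_eq_self_of_mul_self hz2
  have hconj_u : u * z * u⁻¹ = z⁻¹ := by
    rw [hz, ← conj_pow, ← inv_pow]
    congr 1
    rw [mul_inv_rev, huinv, hvinv]
    have : u * (u * v) * u = (u * u) * v * u := by group
    rw [this, hu2, one_mul]
  have hconj_v : v * z * v⁻¹ = z⁻¹ := by
    rw [hz, ← conj_pow, ← inv_pow]
    congr 1
    rw [mul_inv_rev, huinv, hvinv]
    have : v * (u * v) * v = v * u * (v * v) := by group
    rw [this, hv2, mul_one]
  have hzu : z * u = u * z := by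
    rw [hzinv, huinv] at hconj_u
    have : u * z = u * z * u * u := by rw [mul_assoc (u * z), hu2, mul_one]
    rw [this, hconj_u]
  have hzv : z * v = v * z := by
    rw [hzinv, hvinv] at hconj_v
    have : v * z = v * z * v * v := by rw [mul_assoc (v * z), hv2, mul_one]
    rw [this, hconj_v]
  have h1 := comm_invol_fix hS hu1 hu2 hb hzu
  have h2 := comm_invol_fix hS hv1 hv2 hc hzv
  exact hbc (invol_fix_unique hS hz1 hz2 h1 h2)

/-- Involutions whose product has odd order are conjugate. -/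
theorem conj_of_odd_order {M : Type*} [Group M] {u v : M} (hu2 : u * u = 1) (hv2 : v * v = 1)
    (h : Odd (orderOf (u * v))) : ∃ g : M, g * u * g⁻¹ = v := by
  obtain ⟨k, hk⟩ := h
  have huinv : u⁻¹ = u := inv_eq_self_of_mul_self hu2
  have hvinv : v⁻¹ = v := inv_eq_self_of_mul_self hv2
  refine ⟨(u * v) ^ k, ?_⟩
  have h1 : u * ((u * v) ^ k)⁻¹ * u⁻¹ = (u * v) ^ k := by
    rw [← inv_pow, ← conj_pow]
    congr 1
    rw [mul_inv_rev, huinv, hvinv]
    have : u * (v * u) * u = u * v * (u * u) := by group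
    rw [this, hu2, mul_one]
  have h2 : ((u * v) ^ k)⁻¹ = u * (u * v) ^ k * u := by
    have : ((u * v) ^ k)⁻¹ = u⁻¹ * (u * ((u * v) ^ k)⁻¹ * u⁻¹) * u := by group
    rw [this, h1, huinv]
  rw [h2]
  have h3 : (u * v) ^ k * u * (u * (u * v) ^ k * u) = (u * v) ^ k * (u * u) * (u * v) ^ k * u := by
    group
  rw [h3, hu2, mul_one, ← pow_add]
  have h4 : (u * v) ^ (k + k) * (u * v) = 1 := by
    rw [← pow_succ]
    have : k + k + 1 = orderOf (u * v) := by omega
    rw [this, pow_orderOf_eq_one]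
  have h5 : (u * v) ^ (k + k) = (u * v)⁻¹ := eq_inv_of_mul_eq_one_left h4
  rw [h5, mul_inv_rev, huinv, hvinv, mul_assoc, hu2, mul_one]

/-- Any two involutions are conjugate. -/
theorem invol_conj [Finite G] (hS : Cfsg.IsRankOneSetup G Ω a t Q) {u v : G}
    (hu1 : u ≠ 1) (hu2 : u * u = 1) (hv1 : v ≠ 1) (hv2 : v * v = 1) :
    ∃ g : G, g * u * g⁻¹ = v := by
  obtain ⟨b, hb⟩ := invol_exists_fix hS hu2
  obtain ⟨c, hc⟩ := invol_exists_fix hS hv2
  by_cases hbc : b = c
  · subst hbc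
    -- a third involution with another fixed point
    have := isPretransitive hS
    obtain ⟨d, hd⟩ : ∃ d : Ω, d ≠ b := by
      by_cases h : b = a
      · exact ⟨t • a, by rw [h]; exact ta_ne hS⟩
      · exact ⟨a, Ne.symm h⟩
    obtain ⟨g, hg⟩ := MulAction.exists_smul_eq G b d
    have hw2 : (g * u * g⁻¹) * (g * u * g⁻¹) = 1 := by
      have : (g * u * g⁻¹) * (g * u * g⁻¹) = g * (u * u) * g⁻¹ := by group
      rw [this, hu2]; group
    have hw1 : g * u * g⁻¹ ≠ 1 := by
      intro h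
      apply hu1
      have : u = g⁻¹ * (g * u * g⁻¹) * g := by group
      rw [this, h]; group
    have hwd : (g * u * g⁻¹) • d = d := by
      rw [← hg, mul_smul, mul_smul, inv_smul_smul, hb]
    obtain ⟨g₂, hg₂⟩ := conj_of_odd_order hw2 hv2
      (odd_order_mul hS hw1 hw2 hv1 hv2 hwd hc hd)
    refine ⟨g₂ * g, ?_⟩
    rw [← hg₂]; group
  · exact conj_of_odd_order hu2 hv2 (odd_order_mul hS hu1 hu2 hv1 hv2 hb hc hbc)

end Cfsg.Agent.Helper19
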