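import Mathlib
import Cfsg.Prelude.Def_LieRecognition
import Cfsg.Agent.Lib.Helper19.RankOneInvol

set_option autoImplicit false

namespace Cfsg.Agent.Helper19

open MulAction
open scoped Pointwise

variable {G Ω : Type*} [Group G] [MulAction G Ω] {a : Ω} {t : G} {Q : Subgroup G}

/-- For points `p`, `c`, `c'` fixed by `X` with `c, c' ≠ p` there is an element of `C_G(X)` fixing `p`
and mapping `c` to `c'`. -/
theorem cent_trans (hS : Cfsg.IsRankOneSetup G Ω a t Q) {X : Set G} {p c c' : Ω}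
    (hp : ∀ x ∈ X, x • p = p) (hc : ∀ x ∈ X, x • c = c) (hc' : ∀ x ∈ X, x • c' = c')
    (hcp : c ≠ p) (hc'p : c' ≠ p) :
    ∃ g ∈ Subgroup.centralizer X, g • p = p ∧ g • c = c' := by
  have := isPretransitive hS
  obtain ⟨h, hh⟩ := MulAction.exists_smul_eq G a p
  have h1 : h⁻¹ • c ≠ a := by
    intro e
    apply hcp
    rw [← hh, ← e, smul_inv_smul]
  have h2 : h⁻¹ • c' ≠ a := by
    intro e
    apply hc'p
    rw [← hh, ← e, smul_inv_smul]
  obtain ⟨r, hr, hrc⟩ := exists_Q_smul hS h1 h2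
  refine ⟨h * r * h⁻¹, ?_, ?_, ?_⟩
  · rw [Subgroup.mem_centralizer_iff]
    intro x hx
    have hy : h⁻¹ * x * h ∈ stabilizer G a := by
      rw [mem_stabilizer_iff, mul_smul, mul_smul, hh, hp x hx, ← hh, inv_smul_smul]
    have hyr : (h⁻¹ * x * h) * r * (h⁻¹ * x * h)⁻¹ ∈ Q := hS.conj_mem _ hy r hr
    have hxinv : x⁻¹ • c = c := by rw [inv_smul_eq_iff, hc x hx]
    have hmap : ((h⁻¹ * x * h) * r * (h⁻¹ * x * h)⁻¹) • (h⁻¹ • c) = r • (h⁻¹ • c) := by
      rw [hrc]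
      have e1 : ((h⁻¹ * x * h) * r * (h⁻¹ * x * h)⁻¹) = h⁻¹ * x * h * r * h⁻¹ * x⁻¹ * h := by group
      rw [e1]
      simp only [mul_smul]
      rw [smul_inv_smul, hxinv, hrc, smul_inv_smul, hc' x hx]
    have heq := Q_smul_unique hS h1 hyr hr hmap
    have e2 : x * (h * r * h⁻¹) = h * ((h⁻¹ * x * h) * r * (h⁻¹ * x * h)⁻¹) * h⁻¹ * x := by group
    rw [e2, heq]
  · rw [mul_smul, mul_smul, ← hh, inv_smul_smul, Q_fix_a hS hr]
  · rw [mul_smul, mul_smul, hrc, smul_inv_smul]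

/-- `C_G(X)` is doubly transitive on the fixed points of `X`, if there are at least three. -/
theorem cent_two_trans (hS : Cfsg.IsRankOneSetup G Ω a t Q) {X : Set G}
    (h3 : ∃ b c d : Ω, b ≠ c ∧ b ≠ d ∧ c ≠ d ∧ ∀ x ∈ X, x • b = b ∧ x • c = c ∧ x • d = d)
    {b₁ b₂ c₁ c₂ : Ω} (hb₁ : ∀ x ∈ X, x • b₁ = b₁) (hb₂ : ∀ x ∈ X, x • b₂ = b₂)
    (hc₁ : ∀ x ∈ X, x • c₁ = c₁) (hc₂ : ∀ x ∈ X, x • c₂ = c₂) (hb : b₁ ≠ b₂) (hc : c₁ ≠ c₂) :
    ∃ g ∈ Subgroup.centralizer X, g • b₁ = c₁ ∧ g • b₂ = c₂ := by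
  -- step 1: move `b₁` to `c₁`
  have step1 : ∃ g ∈ Subgroup.centralizer X, g • b₁ = c₁ := by
    by_cases h : b₁ = c₁
    · exact ⟨1, one_mem _, by rw [one_smul, h]⟩
    · obtain ⟨e₁, e₂, e₃, h12, h13, h23, hfix⟩ := h3
      -- a fixed point different from `b₁` and `c₁`
      obtain ⟨p, hp, hpb, hpc⟩ : ∃ p : Ω, (∀ x ∈ X, x • p = p) ∧ b₁ ≠ p ∧ c₁ ≠ p := by
        by_cases q1 : b₁ = e₁ ∨ c₁ = e₁
        · by_cases q2 : b₁ = e₂ ∨ c₁ = e₂
          · refine ⟨e₃, fun x hx => (hfix x hx).2.2, ?_, ?_⟩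
            · rintro rfl
              rcases q1 with q1 | q1
              · exact h13 q1.symm
              · rcases q2 with q2 | q2
                · exact h23 q2.symm
                · exact h12 (q1.symm.trans q2)
            · rintro rfl
              rcases q1 with q1 | q1
              · rcases q2 with q2 | q2
                · exact h12 (q1.symm.trans q2)
                · exact h23 q2.symm
              · exact h13 q1.symm
          · push Not at q2
            exact ⟨e₂, fun x hx => (hfix x hx).2.1, q2.1, q2.2⟩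
        · push Not at q1
          exact ⟨e₁, fun x hx => (hfix x hx).1, q1.1, q1.2⟩
      obtain ⟨g, hg, _, hgb⟩ := cent_trans hS hp hb₁ hc₁ hpb hpc
      exact ⟨g, hg, hgb⟩
  obtain ⟨g₁, hg₁, hg₁b⟩ := step1
  have hfix' : ∀ x ∈ X, x • (g₁ • b₂) = g₁ • b₂ := by
    intro x hx
    rw [← mul_smul, (Subgroup.mem_centralizer_iff.mp hg₁) x hx, mul_smul, hb₂ x hx]
  have hne : g₁ • b₂ ≠ c₁ := by
    rw [← hg₁b]
    intro e
    exact hb (smul_left_cancel _ e).symm
  obtain ⟨g₂, hg₂, hg₂c, hg₂b⟩ := cent_trans hS hc₁ hfix' hc₂ hne (Ne.symm hc)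
  refine ⟨g₂ * g₁, mul_mem hg₂ hg₁, ?_, ?_⟩
  · rw [mul_smul, hg₁b, hg₂c]
  · rw [mul_smul, hg₂b]

/-- If `g` swaps two distinct points, its order is even. -/
theorem even_order_of_swap [Finite G] {g : G} {p q : Ω} (hpq : p ≠ q) (h1 : g • p = q)
    (h2 : g • q = p) : 2 ∣ orderOf g := by
  have key : ∀ n : ℕ, (g ^ n) • p = if Even n then p else q := by
    intro n
    induction n with
    | zero => simp
    | succ n ih =>
      rw [pow_succ', mul_smul, ih]
      by_cases hn : Even n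
      · have : ¬ Even (n + 1) := by
          rw [Nat.not_even_iff_odd]; exact hn.add_one
        simp [hn, this, h1]
      · have : Even (n + 1) := by
          rw [Nat.not_even_iff_odd] at hn; exact hn.add_one
        simp [hn, this, h2]
  have h := key (orderOf g)
  rw [pow_orderOf_eq_one, one_smul] at h
  by_contra hodd
  rw [← even_iff_two_dvd] at hodd
  rw [if_neg hodd] at h
  exact hpq h

/-- There is an involution of `Q` centralising `X`, if `X` has at least three fixed points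
containing `a`. -/
theorem exists_invol_cent [Finite G] (hS : Cfsg.IsRankOneSetup G Ω a t Q) {X : Set G}
    (ha : ∀ x ∈ X, x • a = a)
    (h3 : ∃ b c d : Ω, b ≠ c ∧ b ≠ d ∧ c ≠ d ∧ ∀ x ∈ X, x • b = b ∧ x • c = c ∧ x • d = d) :
    ∃ s ∈ Subgroup.centralizer X ⊓ Q, s ≠ 1 ∧ s * s = 1 := by
  -- a second fixed point
  obtain ⟨b, hb, hab⟩ : ∃ b : Ω, (∀ x ∈ X, x • b = b) ∧ a ≠ b := by
    obtain ⟨e₁, e₂, e₃, h12, h13, h23, hfix⟩ := h3
    by_cases q1 : a = e₁
    · exact ⟨e₂, fun x hx => (hfix x hx).2.1, by rw [q1]; exact h12⟩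
    · exact ⟨e₁, fun x hx => (hfix x hx).1, q1⟩
  obtain ⟨g, hg, hga, hgb⟩ := cent_two_trans hS h3 ha hb hb ha hab (Ne.symm hab)
  have h2 : 2 ∣ Nat.card (Subgroup.centralizer X) := by
    have h1 := even_order_of_swap hab hga hgb
    have h2 : orderOf (⟨g, hg⟩ : Subgroup.centralizer X) = orderOf g := Subgroup.orderOf_mk g hg
    rw [← h2] at h1
    exact h1.trans (orderOf_dvd_natCard _)
  have : Fact (Nat.Prime 2) := ⟨Nat.prime_two⟩
  obtain ⟨⟨u, hu⟩, huord⟩ := exists_prime_orderOf_dvd_card' 2 h2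
  rw [Subgroup.orderOf_mk] at huord
  have hu1 : u ≠ 1 := by
    intro h
    rw [h, orderOf_one] at huord
    omega
  have hu2 : u * u = 1 := by
    rw [← pow_two, ← huord, pow_orderOf_eq_one]
  obtain ⟨p, hp⟩ := invol_exists_fix hS hu2
  have hpX : ∀ x ∈ X, x • p = p := by
    intro x hx
    exact comm_invol_fix hS hu1 hu2 hp ((Subgroup.mem_centralizer_iff.mp hu) x hx)
  -- move `p` to `a` inside the centralizer
  obtain ⟨h, hh, hhp⟩ : ∃ h ∈ Subgroup.centralizer X, h • p = a := by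
    by_cases hpa : p = a
    · exact ⟨1, one_mem _, by rw [one_smul, hpa]⟩
    · obtain ⟨h, hh, hhp, _⟩ := cent_two_trans hS h3 hpX ha ha hpX hpa (Ne.symm hpa)
      exact ⟨h, hh, hhp⟩
  have hs2 : (h * u * h⁻¹) * (h * u * h⁻¹) = 1 := by
    have : (h * u * h⁻¹) * (h * u * h⁻¹) = h * (u * u) * h⁻¹ := by group
    rw [this, hu2]; group
  have hs1 : h * u * h⁻¹ ≠ 1 := by
    intro e
    apply hu1
    have : u = h⁻¹ * (h * u * h⁻¹) * h := by group
    rw [this, e]; group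
  have hsa : h * u * h⁻¹ ∈ stabilizer G a := by
    rw [mem_stabilizer_iff, mul_smul, mul_smul, ← hhp, inv_smul_smul, hp]
  exact ⟨h * u * h⁻¹, Subgroup.mem_inf.mpr ⟨mul_mem (mul_mem hh hu) (inv_mem hh),
    invol_mem_Q hS hsa hs2⟩, hs1, hs2⟩

theorem even_card_of_invol {M : Type*} [Group M] [Finite M] {H : Subgroup M} {s : M} (hs : s ∈ H)
    (hs1 : s ≠ 1) (hs2 : s * s = 1) : Even (Nat.card H) := by
  rw [even_iff_two_dvd]
  have h1 : orderOf s = 2 := by
    apply orderOf_eq_prime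
    · rw [pow_two, hs2]
    · exact hs1
  have h2 : orderOf (⟨s, hs⟩ : H) = orderOf s := Subgroup.orderOf_mk s hs
  rw [← h1, ← h2]
  exact orderOf_dvd_natCard _

end Cfsg.Agent.Helper19
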