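import Mathlib
import Cfsg.Prelude.Def_LieRecognition
import Cfsg.Agent.Lib.Helper19.RankOneFix
import Cfsg.Agent.Lib.Helper19.OddInv

set_option autoImplicit false

namespace Cfsg.Agent.Helper19

open MulAction
open scoped Pointwise

variable {G Ω : Type*} [Group G] [MulAction G Ω] {a : Ω} {t : G} {Q : Subgroup G}

theorem t_smul_ta (hS : Cfsg.IsRankOneSetup G Ω a t Q) : t • (t • a) = a := by
  rw [← mul_smul, hS.mul_self, one_smul]

/-- An involution `u` swapping `a` and `t • a` is `m⁻¹ t m` for some `m ∈ D` inverted by `t`. -/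
theorem swap_invol_conj [Finite G] (hS : Cfsg.IsRankOneSetup G Ω a t Q) {u : G} (hu2 : u * u = 1)
    (hua : u • a = t • a) :
    ∃ m ∈ Cfsg.invertedBy (stabilizer G a ⊓ stabilizer G (t • a)) t, m⁻¹ * t * m = u ∧
      m * m = t * u := by
  have ht2 := hS.mul_self
  have htinv : t⁻¹ = t := inv_eq_self_of_mul_self ht2
  have huinv : u⁻¹ = u := inv_eq_self_of_mul_self hu2
  have hub : u • (t • a) = a := by rw [← hua, ← mul_smul, hu2, one_smul]
  have hk : t * u ∈ Cfsg.invertedBy (stabilizer G a ⊓ stabilizer G (t • a)) t := by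
    refine ⟨Subgroup.mem_inf.mpr ⟨?_, ?_⟩, ?_⟩
    · rw [mem_stabilizer_iff, mul_smul, hua, t_smul_ta hS]
    · rw [mem_stabilizer_iff, mul_smul, hub]
    · rw [mul_inv_rev, huinv, htinv]
      have : t * (t * u) * t = (t * t) * u * t := by group
      rw [this, ht2, one_mul]
  obtain ⟨j, hj⟩ := hS.odd_card
  have hm := invertedBy_pow hk (j + 1)
  have hmm : (t * u) ^ (j + 1) * (t * u) ^ (j + 1) = t * u := by
    rw [← pow_add]
    have : j + 1 + (j + 1) = Nat.card ↥(stabilizer G a ⊓ stabilizer G (t • a)) + 1 := by omega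
    rw [this, pow_succ, pow_card_sub_eq_one hk.1, one_mul]
  refine ⟨(t * u) ^ (j + 1), hm, ?_, hmm⟩
  set m := (t * u) ^ (j + 1) with hmdef
  have h1 : t * m⁻¹ * t⁻¹ = m := by
    have := (invertedBy_inv hm).2
    rwa [inv_inv] at this
  have h2 : m⁻¹ * t * m = t * (t * m⁻¹ * t) * m := by
    have : t * (t * m⁻¹ * t) * m = (t * t) * m⁻¹ * t * m := by group
    rw [this, ht2, one_mul]
  rw [htinv] at h1
  rw [h2, h1, mul_assoc, hmm, ← mul_assoc, ht2, one_mul]

/-- A subset of `D` fixing at least three points is conjugate under `D` into `C_D(t)`. -/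
theorem conj_into_cent [Finite G] (hS : Cfsg.IsRankOneSetup G Ω a t Q) {X : Set G}
    (hX : X ⊆ ((stabilizer G a ⊓ stabilizer G (t • a) : Subgroup G) : Set G))
    (h3 : ∃ b c d : Ω, b ≠ c ∧ b ≠ d ∧ c ≠ d ∧ ∀ x ∈ X, x • b = b ∧ x • c = c ∧ x • d = d) :
    ∃ k ∈ Cfsg.invertedBy (stabilizer G a ⊓ stabilizer G (t • a)) t,
      ∀ x ∈ X, (k * x * k⁻¹) * t = t * (k * x * k⁻¹) := by
  have ha : ∀ x ∈ X, x • a = a := fun x hx => (hX hx).1
  have hb : ∀ x ∈ X, x • (t • a) = t • a := fun x hx => (hX hx).2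
  obtain ⟨g, hg, hga, hgb⟩ := cent_two_trans hS h3 ha hb hb ha (Ne.symm (ta_ne hS)) (ta_ne hS)
  have hg2 : g * g ∈ stabilizer G a ⊓ stabilizer G (t • a) := by
    refine Subgroup.mem_inf.mpr ⟨?_, ?_⟩
    · rw [mem_stabilizer_iff, mul_smul, hga, hgb]
    · rw [mem_stabilizer_iff, mul_smul, hgb, hga]
  set n := Nat.card ↥(stabilizer G a ⊓ stabilizer G (t • a)) with hn
  have hu2 : g ^ n * g ^ n = 1 := by
    rw [← pow_add, ← two_mul, pow_mul, pow_two]
    exact pow_card_sub_eq_one hg2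
  have hodd : Odd n := hS.odd_card
  have hua : g ^ n • a = t • a := by
    have key : ∀ i : ℕ, (g ^ i) • a = if Even i then a else t • a := by
      intro i
      induction i with
      | zero => simp
      | succ i ih =>
        rw [pow_succ', mul_smul, ih]
        by_cases hi : Even i
        · have : ¬ Even (i + 1) := by
            rw [Nat.not_even_iff_odd]; exact hi.add_one
          simp [hi, this, hga]
        · have : Even (i + 1) := by
            rw [Nat.not_even_iff_odd] at hi; exact hi.add_one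
          simp [hi, this, hgb]
    rw [key n, if_neg (Nat.not_even_iff_odd.mpr hodd)]
  obtain ⟨m, hm, hmu, _⟩ := swap_invol_conj hS hu2 hua
  refine ⟨m, hm, ?_⟩
  intro x hx
  have hxu : x * g ^ n = g ^ n * x :=
    (Subgroup.mem_centralizer_iff.mp (pow_mem hg n)) x hx
  rw [← hmu] at hxu
  have e1 : m * x * m⁻¹ * t = m * (x * (m⁻¹ * t * m)) * m⁻¹ := by group
  rw [e1, hxu]
  group

end Cfsg.Agent.Helper19
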