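import Mathlib
import Cfsg.Prelude.Def_LieRecognition
import Cfsg.Agent.Lib.Helper19.RankOneConj

set_option autoImplicit false

namespace Cfsg.Agent.Helper19

open MulAction
open scoped Pointwise

theorem eq_one_of_sq_of_odd {M : Type*} [Group M] [Finite M] {H : Subgroup M}
    (hodd : Odd (Nat.card H)) {y : M} (hy : y ∈ H) (hyy : y * y = 1) : y = 1 :=
  sq_inj hodd hy (one_mem H) (by rw [hyy, one_mul])

/-- In a group of odd order an element conjugate to its inverse by an element of the group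
is trivial. -/
theorem eq_one_of_conj_inv_of_odd {M : Type*} [Group M] [Finite M] {H : Subgroup M}
    (hodd : Odd (Nat.card H)) {d x : M} (hd : d ∈ H) (hx : x ∈ H) (h : d * x * d⁻¹ = x⁻¹) :
    x = 1 := by
  have h2 : (d * d) * x = x * (d * d) := by
    have e1 : (d * d) * x = d * (d * x * d⁻¹) * d := by group
    rw [e1, h]
    have e2 : d * x⁻¹ * d = (d * x * d⁻¹)⁻¹ * (d * d) := by group
    rw [e2, h, inv_inv]
  obtain ⟨j, hj⟩ := hodd
  have hcomm : Commute (d * d) x := h2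
  have hd' : (d * d) ^ (j + 1) = d := sq_pow_eq hj hd
  have h3 : Commute d x := by
    rw [← hd']
    exact hcomm.pow_left _
  have h4 : d * x * d⁻¹ = x := by
    rw [h3.eq]; group
  rw [h4] at h
  apply eq_one_of_sq_of_odd ⟨j, hj⟩ hx
  calc x * x = x * x⁻¹ := by rw [← h]
    _ = 1 := mul_inv_cancel x

variable {G Ω : Type*} [Group G] [MulAction G Ω] {a : Ω} {t : G} {Q : Subgroup G}

/-- A non-identity element of `D` inverted by `t` centralises no non-identity element of `Q`. -/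
theorem inverted_fpf [Finite G] (hS : Cfsg.IsRankOneSetup G Ω a t Q) {x : G}
    (hx : x ∈ Cfsg.invertedBy (stabilizer G a ⊓ stabilizer G (t • a)) t) (hx1 : x ≠ 1) :
    Q ⊓ Subgroup.centralizer {x} = ⊥ := by
  rw [Subgroup.eq_bot_iff_forall]
  intro r hr
  by_contra hr1
  obtain ⟨hrQ, hrc⟩ := Subgroup.mem_inf.mp hr
  have hxr : x * r = r * x := (Subgroup.mem_centralizer_iff.mp hrc) x (Set.mem_singleton x)
  have hxa : x • a = a := hx.1.1
  have hxb : x • (t • a) = t • a := hx.1.2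
  have hrb_ne : r • (t • a) ≠ t • a := by
    intro e
    exact ta_ne hS (fix_eq hS hrQ hr1 e)
  have hrb_ne_a : r • (t • a) ≠ a := by
    intro e
    have e' : r • (t • a) = r • a := by rw [e, Q_fix_a hS hrQ]
    exact ta_ne hS (smul_left_cancel _ e')
  have h3 : ∃ b c d : Ω, b ≠ c ∧ b ≠ d ∧ c ≠ d ∧
      ∀ y ∈ ({x} : Set G), y • b = b ∧ y • c = c ∧ y • d = d := by
    refine ⟨a, t • a, r • (t • a), Ne.symm (ta_ne hS), Ne.symm hrb_ne_a, Ne.symm hrb_ne, ?_⟩
    intro y hy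
    rw [Set.mem_singleton_iff] at hy
    subst hy
    refine ⟨hxa, hxb, ?_⟩
    rw [← mul_smul, hxr, mul_smul, hxb]
  have hX : ({x} : Set G) ⊆ ((stabilizer G a ⊓ stabilizer G (t • a) : Subgroup G) : Set G) := by
    intro y hy
    rw [Set.mem_singleton_iff] at hy
    subst hy
    exact hx.1
  obtain ⟨k, hk, hkx⟩ := conj_into_cent hS hX h3
  have hy := hkx x (Set.mem_singleton x)
  -- `t (k x k⁻¹) t⁻¹ = k⁻¹ x⁻¹ k`
  have e1 : t * (k * x * k⁻¹) * t⁻¹ = (t * k * t⁻¹) * (t * x * t⁻¹) * (t * k * t⁻¹)⁻¹ := by group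
  have e2 : t * (k * x * k⁻¹) * t⁻¹ = k * x * k⁻¹ := by
    rw [← hy]; group
  rw [e2, hk.2, hx.2, inv_inv] at e1
  -- so `k² x k⁻² = x⁻¹`
  have e3 : (k * k) * x * (k * k)⁻¹ = x⁻¹ := by
    have : (k * k) * x * (k * k)⁻¹ = k * (k * x * k⁻¹) * k⁻¹ := by group
    rw [this, e1]; group
  exact hx1 (eq_one_of_conj_inv_of_odd hS.odd_card (mul_mem hk.1 hk.1) hx.1 e3)

end Cfsg.Agent.Helper19
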