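import Mathlib
import Cfsg.Prelude.Def_LieExceptional
import Cfsg.Prelude.Def_LieRecognition
import Cfsg.Agent.S0878
import Cfsg.Agent.S0033
import Cfsg.Agent.Lib.Helper19.RankOneFix
import Cfsg.Agent.Lib.Helper19.RankOneFPF

set_option autoImplicit false

/-! Zassenhaus groups with a given Frobenius kernel `H` of the point stabiliser:
regularity of `H`, nilpotency (Thompson), and the rank-one set-up when `|D|` is odd. -/

namespace Cfsg.Agent.Helper19.ZassH

open MulAction

variable {G Ω : Type*} [Group G] [MulAction G Ω]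

theorem two_trans' (h2 : IsMultiplyPretransitive G Ω 2) {a b c d : Ω} (hab : a ≠ b) (hcd : c ≠ d) :
    ∃ g : G, g • a = c ∧ g • b = d :=
  (MulAction.is_two_pretransitive_iff.mp h2) hab hcd

/-- Two-point stabilisers are conjugate. -/
theorem stab_inf_smul (k : G) (a b : Ω) :
    stabilizer G (k • a) ⊓ stabilizer G (k • b) =
      (stabilizer G a ⊓ stabilizer G b).map (MulAut.conj k).toMonoidHom := by
  rw [Subgroup.map_inf _ _ _ (MulAut.conj k).injective,
    stabilizer_smul_eq_stabilizer_map_conj, stabilizer_smul_eq_stabilizer_map_conj]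

theorem card_stab_inf_smul (k : G) (a b : Ω) :
    Nat.card ↥(stabilizer G (k • a) ⊓ stabilizer G (k • b)) =
      Nat.card ↥(stabilizer G a ⊓ stabilizer G b) := by
  rw [stab_inf_smul, Subgroup.card_map_of_injective (MulAut.conj k).injective]

theorem card_stab_inf_eq (h2 : IsMultiplyPretransitive G Ω 2) {a b c d : Ω} (hab : a ≠ b)
    (hcd : c ≠ d) :
    Nat.card ↥(stabilizer G c ⊓ stabilizer G d) = Nat.card ↥(stabilizer G a ⊓ stabilizer G b) := by
  obtain ⟨k, rfl, rfl⟩ := two_trans' h2 hab hcd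
  exact card_stab_inf_smul k a b

/-- In a Zassenhaus group two-point stabilisers are non-trivial. -/
theorem exists_D_ne_one (hZ : Cfsg.IsZassenhausGroup G Ω) {a b : Ω} (hab : a ≠ b) :
    ∃ d ∈ stabilizer G a ⊓ stabilizer G b, d ≠ 1 := by
  obtain ⟨_, h2, _, ⟨g, hg, a0, b0, hab0, hga, hgb⟩, _⟩ := hZ
  obtain ⟨k, hka, hkb⟩ := two_trans' h2 hab0 hab
  refine ⟨k * g * k⁻¹, ?_, ?_⟩
  · refine Subgroup.mem_inf.mpr ⟨?_, ?_⟩
    · rw [mem_stabilizer_iff, ← hka, mul_smul, mul_smul, inv_smul_smul, hga]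
    · rw [mem_stabilizer_iff, ← hkb, mul_smul, mul_smul, inv_smul_smul, hgb]
  · intro h
    apply hg
    have : g = k⁻¹ * (k * g * k⁻¹) * k := by group
    rw [this, h]; group

section H

variable [Finite G] [Fintype Ω] {a : Ω} {H : Subgroup G}

/-- `H` is regular on the points other than `a`. -/
theorem exists_H_smul (hHa : H ≤ stabilizer G a) (hHcard : Nat.card H + 1 = Fintype.card Ω)
    (hHfix : ∀ u ∈ H, u ≠ 1 → ∀ c : Ω, u • c = c → c = a) {c d : Ω} (hc : c ≠ a) (hd : d ≠ a) :
    ∃ u ∈ H, u • c = d := by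
  classical
  let f : H → {x : Ω // x ≠ a} := fun u => ⟨(u : G) • c, by
    intro h
    have hu : (u : G) • a = a := hHa u.2
    exact hc (smul_left_cancel (u : G) (h.trans hu.symm))⟩
  have hinj : Function.Injective f := by
    intro u v huv
    have h1 : (u : G) • c = (v : G) • c := congrArg Subtype.val huv
    have h2 : ((v : G)⁻¹ * (u : G)) • c = c := by rw [mul_smul, h1, inv_smul_smul]
    by_contra hne
    have h3 : (v : G)⁻¹ * (u : G) ≠ 1 := by
      intro h
      apply hne
      apply Subtype.ext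
      have : (u : G) = (v : G) := by
        have := congrArg (fun z => (v : G) * z) h
        simpa using this
      exact this
    exact hc (hHfix _ (H.mul_mem (H.inv_mem v.2) u.2) h3 c h2)
  have hcard : Nat.card H = Nat.card {x : Ω // x ≠ a} := by
    have h1 : Nat.card {x : Ω // x ≠ a} = Fintype.card Ω - 1 := by
      rw [Nat.card_eq_fintype_card, Fintype.card_subtype_compl, Fintype.card_subtype_eq]
    omega
  have hbij : Function.Bijective f := by
    have : Finite H := inferInstance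
    exact (Nat.bijective_iff_injective_and_card f).mpr ⟨hinj, hcard⟩
  obtain ⟨u, hu⟩ := hbij.2 ⟨d, hd⟩
  exact ⟨u, u.2, congrArg Subtype.val hu⟩

/-- `G_a = H D_c` for any `c ≠ a`. -/
theorem stab_decomp (hHa : H ≤ stabilizer G a) (hHcard : Nat.card H + 1 = Fintype.card Ω)
    (hHfix : ∀ u ∈ H, u ≠ 1 → ∀ c : Ω, u • c = c → c = a) {c : Ω} (hc : c ≠ a) {g : G}
    (hg : g ∈ stabilizer G a) :
    ∃ u ∈ H, ∃ d ∈ stabilizer G a ⊓ stabilizer G c, g = u * d := by
  have hga : g • a = a := hg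
  have hgc : g • c ≠ a := fun h => hc (smul_left_cancel g (h.trans hga.symm))
  obtain ⟨u, hu, huc⟩ := exists_H_smul hHa hHcard hHfix hc hgc
  refine ⟨u, hu, u⁻¹ * g, ?_, by group⟩
  refine Subgroup.mem_inf.mpr
    ⟨(stabilizer G a).mul_mem ((stabilizer G a).inv_mem (hHa hu)) hg, ?_⟩
  rw [mem_stabilizer_iff, mul_smul, ← huc, inv_smul_smul]

omit [Finite G] [Fintype Ω] in
theorem H_inf_stab (hHfix : ∀ u ∈ H, u ≠ 1 → ∀ c : Ω, u • c = c → c = a) {c : Ω} (hc : c ≠ a)
    {u : G} (hu : u ∈ H) (huc : u • c = c) : u = 1 := by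
  by_contra h
  exact hc (hHfix u hu h c huc)

/-- `H` is normal in `G_a`. -/
theorem H_conj_mem (hZ : Cfsg.IsZassenhausGroup G Ω) (hHa : H ≤ stabilizer G a)
    (hHcard : Nat.card H + 1 = Fintype.card Ω)
    (hHfix : ∀ u ∈ H, u ≠ 1 → ∀ c : Ω, u • c = c → c = a) {g u : G} (hg : g ∈ stabilizer G a)
    (hu : u ∈ H) : g * u * g⁻¹ ∈ H := by
  have hN := (Cfsg.Agent.S0878.result hZ a H hHa hHcard hHfix).2
  have : g ∈ Subgroup.normalizer (H : Set G) := by rw [hN]; exact hg
  exact (Subgroup.mem_normalizer_iff.mp this u).mp hu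

/-- An involution of `G_a` lies in `H` when two-point stabilisers have odd order. -/
theorem invol_mem_H (hZ : Cfsg.IsZassenhausGroup G Ω) (hHa : H ≤ stabilizer G a)
    (hHcard : Nat.card H + 1 = Fintype.card Ω)
    (hHfix : ∀ u ∈ H, u ≠ 1 → ∀ c : Ω, u • c = c → c = a) {c : Ω} (hc : c ≠ a)
    (hodd : Odd (Nat.card ↥(stabilizer G a ⊓ stabilizer G c))) {x : G}
    (hx : x ∈ stabilizer G a) (hx2 : x * x = 1) : x ∈ H := by
  obtain ⟨u, hu, d, hd, rfl⟩ := stab_decomp hHa hHcard hHfix hc hx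
  have hdG : d ∈ stabilizer G a := (Subgroup.mem_inf.mp hd).1
  have e2 : d * u * d = u⁻¹ := by
    have := congrArg (fun z => u⁻¹ * z) hx2
    simpa [mul_assoc] using this
  have h1 : d * d = (d * u * d⁻¹)⁻¹ * u⁻¹ := by
    rw [← e2]; group
  have hddH : d * d ∈ H := by
    rw [h1]
    exact H.mul_mem (H.inv_mem (H_conj_mem hZ hHa hHcard hHfix hdG hu)) (H.inv_mem hu)
  have hddc : (d * d) • c = c := by
    have : d • c = c := (Subgroup.mem_inf.mp hd).2
    rw [mul_smul, this, this]
  have hdd : d * d = 1 := H_inf_stab hHfix hc hddH hddc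
  have hd1 : d = 1 := Cfsg.Agent.Helper19.eq_one_of_sq_of_odd hodd hd hdd
  rw [hd1, mul_one]; exact hu

/-- The rank-one set-up of a Zassenhaus group with two-point stabilisers of odd order containing an
involution in a point stabiliser. -/
theorem setup (hZ : Cfsg.IsZassenhausGroup G Ω) (hHa : H ≤ stabilizer G a)
    (hHcard : Nat.card H + 1 = Fintype.card Ω)
    (hHfix : ∀ u ∈ H, u ≠ 1 → ∀ c : Ω, u • c = c → c = a) {b : Ω} (hab : a ≠ b)
    (hodd : Odd (Nat.card ↥(stabilizer G a ⊓ stabilizer G b))) {x : G}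
    (hxa : x ∈ stabilizer G a) (hx1 : x ≠ 1) (hx2 : x * x = 1) :
    ∃ t : G, Cfsg.IsRankOneSetup G Ω a t H := by
  have h2 := hZ.2.1
  have hxH : x ∈ H := invol_mem_H hZ hHa hHcard hHfix hab.symm hodd hxa hx2
  obtain ⟨g, hga, hgb⟩ := two_trans' h2 hab hab.symm
  have hginv : g⁻¹ • a = b := by rw [← hgb, inv_smul_smul]
  have hxb : x • b ≠ b := fun h => hab.symm (hHfix x hxH hx1 b h)
  have hta : (g * x * g⁻¹) • a ≠ a := by
    rw [mul_smul, mul_smul, hginv]
    intro h
    apply hxb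
    apply smul_left_cancel g
    rw [h, hgb]
  refine ⟨g * x * g⁻¹, ?_⟩
  have hodd' : Odd (Nat.card ↥(stabilizer G a ⊓ stabilizer G ((g * x * g⁻¹) • a))) := by
    rw [card_stab_inf_eq h2 hab (Ne.symm hta)]; exact hodd
  refine
    { two_transitive := h2
      mul_self := by
        have : g * x * g⁻¹ * (g * x * g⁻¹) = g * (x * x) * g⁻¹ := by group
        rw [this, hx2]; group
      ne_one := by
        intro h
        apply hx1
        have : x = g⁻¹ * (g * x * g⁻¹) * g := by group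
        rw [this, h]; group
      not_mem := hta
      le := hHa
      conj_mem := fun h hh u hu => H_conj_mem hZ hHa hHcard hHfix hh hu
      inf_eq_bot := by
        rw [Subgroup.eq_bot_iff_forall]
        intro u hu
        obtain ⟨hu1, hu2⟩ := Subgroup.mem_inf.mp hu
        exact H_inf_stab hHfix hta hu1 hu2
      sup_eq := by
        apply le_antisymm
        · exact sup_le hHa inf_le_left
        · intro k hk
          obtain ⟨u, hu, d, hd, rfl⟩ := stab_decomp hHa hHcard hHfix hta hk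
          exact Subgroup.mul_mem_sup hu hd
      even_card := Cfsg.Agent.Helper19.even_card_of_invol hxH hx1 hx2
      odd_card := hodd' }

/-- Conjugation by an element normalising `H`, as an automorphism of `H`. -/
def conjAut (H : Subgroup G) (d : G) (hd : ∀ u ∈ H, d * u * d⁻¹ ∈ H)
    (hd' : ∀ u ∈ H, d⁻¹ * u * d ∈ H) : H ≃* H where
  toFun u := ⟨d * u * d⁻¹, hd u u.2⟩
  invFun u := ⟨d⁻¹ * u * d, hd' u u.2⟩
  left_inv u := by ext; simp [mul_assoc]
  right_inv u := by ext; simp [mul_assoc]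
  map_mul' u v := by ext; simp [mul_assoc]

omit [Finite G] [Fintype Ω] in
theorem conjAut_pow (H : Subgroup G) (d : G) (hd : ∀ u ∈ H, d * u * d⁻¹ ∈ H)
    (hd' : ∀ u ∈ H, d⁻¹ * u * d ∈ H) (n : ℕ) (u : H) :
    (((conjAut H d hd hd') ^ n) u : G) = d ^ n * u * (d ^ n)⁻¹ := by
  induction n generalizing u with
  | zero => simp
  | succ n ih =>
    rw [pow_succ, MulAut.mul_apply, ih]
    show d ^ n * (d * u * d⁻¹) * (d ^ n)⁻¹ = d ^ (n + 1) * u * (d ^ (n + 1))⁻¹
    rw [pow_succ]; group

/-- The Frobenius kernel `H` of the point stabiliser of a Zassenhaus group is nilpotent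
(Thompson). -/
theorem H_nilpotent (hZ : Cfsg.IsZassenhausGroup G Ω) (hHa : H ≤ stabilizer G a)
    (hHcard : Nat.card H + 1 = Fintype.card Ω)
    (hHfix : ∀ u ∈ H, u ≠ 1 → ∀ c : Ω, u • c = c → c = a) {b : Ω} (hab : a ≠ b) :
    Group.IsNilpotent H := by
  obtain ⟨d0, hd0, hd01⟩ := exists_D_ne_one hZ hab
  have hcard : Nat.card ↥(stabilizer G a ⊓ stabilizer G b) ≠ 1 := by
    intro h
    have hsub := (Nat.card_eq_one_iff_unique.mp h).1
    have := hsub.elim ⟨d0, hd0⟩ 1
    exact hd01 (congrArg Subtype.val this)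
  obtain ⟨p, hp, hpd⟩ := Nat.exists_prime_and_dvd hcard
  haveI := Fact.mk hp
  obtain ⟨d, hd⟩ := exists_prime_orderOf_dvd_card' p hpd
  have hdG : (d : G) ∈ stabilizer G a := (Subgroup.mem_inf.mp d.2).1
  have hdb : (d : G) • b = b := (Subgroup.mem_inf.mp d.2).2
  have hda : (d : G) • a = a := hdG
  have hdord : orderOf (d : G) = p := by rw [Subgroup.orderOf_coe]; exact hd
  have hd1 : (d : G) ≠ 1 := by
    intro h
    rw [h, orderOf_one] at hdord
    exact hp.one_lt.ne hdord
  have hc1 : ∀ u ∈ H, (d : G) * u * (d : G)⁻¹ ∈ H := fun u hu =>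
    H_conj_mem hZ hHa hHcard hHfix hdG hu
  have hc2 : ∀ u ∈ H, (d : G)⁻¹ * u * (d : G) ∈ H := fun u hu => by
    have := H_conj_mem hZ hHa hHcard hHfix ((stabilizer G a).inv_mem hdG) hu
    simpa using this
  have hfpf : ∀ u : H, (conjAut H (d : G) hc1 hc2) u = u → u = 1 := by
    intro u hu
    by_contra hu1
    have hu1' : (u : G) ≠ 1 := fun h => hu1 (Subtype.ext h)
    have hcomm : (d : G) * u = u * (d : G) := by
      have h1 : (d : G) * u * (d : G)⁻¹ = u := congrArg Subtype.val hu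
      calc (d : G) * u = (d : G) * u * (d : G)⁻¹ * (d : G) := by group
        _ = u * (d : G) := by rw [h1]
    have hua : (u : G) • a = a := hHa u.2
    have hub : (u : G) • b ≠ b := fun h => hab.symm (hHfix u u.2 hu1' b h)
    have hub' : (u : G) • b ≠ a := fun h => hab.symm (smul_left_cancel (u : G) (h.trans hua.symm))
    have hdub : (d : G) • ((u : G) • b) = (u : G) • b := by
      rw [← mul_smul, hcomm, mul_smul, hdb]
    exact hd1 (hZ.2.2.1 (d : G) a b ((u : G) • b) hab (Ne.symm hub) (Ne.symm hub') hda hdb hdub)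
  apply Cfsg.Agent.S0033.result (conjAut H (d : G) hc1 hc2) hfpf p hp
  apply orderOf_eq_prime
  · ext u
    rw [conjAut_pow, ← hdord, pow_orderOf_eq_one]
    simp
  · intro h
    have h3 := Cfsg.Agent.S0878.card_ge_three hZ
    have h1 : 1 < Nat.card H := by omega
    haveI : Nontrivial H := (Finite.one_lt_card_iff_nontrivial).mp h1
    obtain ⟨u, hu⟩ := exists_ne (1 : H)
    apply hu
    apply hfpf
    rw [h]; rfl

end H

end Cfsg.Agent.Helper19.ZassH
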