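import Mathlib
import Cfsg.Prelude.Def_LieExceptional
import Cfsg.Agent.S0040
import Cfsg.Agent.S0738
import Cfsg.Agent.S0879
import Cfsg.Agent.Lib.Helper96.Zassenhaus
import Cfsg.Agent.Lib.Helper19.ZassH
import Cfsg.Agent.Lib.Helper19.CyclicConj

set_option autoImplicit false

/-! Zassenhaus groups whose two-point stabiliser `D` has odd order and which have no normal
`q`-complement for the primes `q ∣ |D|`: `D` is cyclic, self-centralising and inverted by the
elements swapping the two points. -/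

namespace Cfsg.Agent.Helper19.ZassD

open MulAction

variable {G Ω : Type*} [Group G] [MulAction G Ω]

/-- The Frobenius kernel of a point stabiliser, in the form used by `ZassH`. -/
theorem exists_kernel [Finite G] [Fintype Ω] (hZ : Cfsg.IsZassenhausGroup G Ω) (a : Ω) :
    ∃ H : Subgroup G, H ≤ stabilizer G a ∧ Nat.card H + 1 = Fintype.card Ω ∧
      ∀ u ∈ H, u ≠ 1 → ∀ c : Ω, u • c = c → c = a := by
  classical
  obtain ⟨K, hKmem, hKtr, -, -, -⟩ := Cfsg.Agent.Helper96.zass_ptKernel hZ a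
  have hHa : K ≤ stabilizer G a := fun u hu => ((hKmem u).mp hu).1
  have hHfix : ∀ u ∈ K, u ≠ 1 → ∀ c : Ω, u • c = c → c = a := by
    intro u hu hu1 c huc
    by_contra hc
    rcases ((hKmem u).mp hu).2 with h | h
    · exact hu1 h
    · exact h c hc huc
  refine ⟨K, hHa, ?_, hHfix⟩
  obtain ⟨b, hb⟩ := Cfsg.Agent.Helper96.zass_exists_ne hZ a
  let f : K → {x : Ω // x ≠ a} := fun u => ⟨(u : G) • b, by
    intro h
    have hu : (u : G) • a = a := hHa u.2
    exact hb (smul_left_cancel (u : G) (h.trans hu.symm))⟩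
  have hinj : Function.Injective f := by
    intro u v huv
    have h1 : (u : G) • b = (v : G) • b := congrArg Subtype.val huv
    have h2 : ((v : G)⁻¹ * (u : G)) • b = b := by rw [mul_smul, h1, inv_smul_smul]
    by_contra hne
    have h3 : (v : G)⁻¹ * (u : G) ≠ 1 := by
      intro h
      apply hne
      apply Subtype.ext
      have := congrArg (fun z => (v : G) * z) h
      simpa using this
    exact hb (hHfix _ (K.mul_mem (K.inv_mem v.2) u.2) h3 b h2)
  have hsurj : Function.Surjective f := by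
    rintro ⟨y, hy⟩
    obtain ⟨k, hk, hky⟩ := hKtr b y hb hy
    exact ⟨⟨k, hk⟩, Subtype.ext hky⟩
  have hcard : Nat.card K = Nat.card {x : Ω // x ≠ a} :=
    Nat.card_congr (Equiv.ofBijective f ⟨hinj, hsurj⟩)
  have h1 : Nat.card {x : Ω // x ≠ a} = Fintype.card Ω - 1 := by
    rw [Nat.card_eq_fintype_card, Fintype.card_subtype_compl, Fintype.card_subtype_eq]
  have h3 := Cfsg.Agent.Helper96.zass_card_ge_three hZ
  omega

/-- The `r`-part of `(h + 1) h e` is that of `e` when `r ∣ e ∣ h - 1` and `e` is odd. -/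
theorem factorization_eq {h e r N : ℕ} (hr : r.Prime) (hre : r ∣ e) (he : e ∣ h - 1)
    (hodd : Odd e) (h2 : 2 ≤ h) (hN : N = (h + 1) * (h * e)) :
    N.factorization r = e.factorization r := by
  have he0 : e ≠ 0 := by
    rintro rfl
    exact absurd hodd (by decide)
  have hh0 : h ≠ 0 := by omega
  have hr1 : r ∣ h - 1 := hre.trans he
  have hnh : ¬ r ∣ h := by
    intro hd
    have e1 : h - 1 + 1 = h := by omega
    rw [← e1] at hd
    have := (Nat.dvd_add_right hr1).mp hd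
    exact hr.one_lt.ne' (Nat.dvd_one.mp this)
  have hnh1 : ¬ r ∣ h + 1 := by
    intro hd
    have e1 : h + 1 = h - 1 + 2 := by omega
    rw [e1] at hd
    have := (Nat.dvd_add_right hr1).mp hd
    have hr2 : r = 2 := (Nat.prime_dvd_prime_iff_eq hr Nat.prime_two).mp this
    rw [hr2] at hre
    exact (Nat.not_even_iff_odd.mpr hodd) (even_iff_two_dvd.mpr hre)
  rw [hN, Nat.factorization_mul (by omega) (Nat.mul_ne_zero hh0 he0),
    Nat.factorization_mul hh0 he0]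
  simp only [Finsupp.add_apply]
  rw [Nat.factorization_eq_zero_of_not_dvd hnh, Nat.factorization_eq_zero_of_not_dvd hnh1]
  simp

section H

variable [Finite G] [Fintype Ω] {a b : Ω} {H : Subgroup G}

local notation "𝔇" => (MulAction.stabilizer G a ⊓ MulAction.stabilizer G b : Subgroup G)

theorem H_normal (hZ : Cfsg.IsZassenhausGroup G Ω) (hHa : H ≤ stabilizer G a)
    (hHcard : Nat.card H + 1 = Fintype.card Ω)
    (hHfix : ∀ u ∈ H, u ≠ 1 → ∀ c : Ω, u • c = c → c = a) :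
    (H.subgroupOf (stabilizer G a)).Normal := by
  refine ⟨fun n hn g => ?_⟩
  rw [Subgroup.mem_subgroupOf] at hn ⊢
  have := ZassH.H_conj_mem hZ hHa hHcard hHfix g.2 hn
  simpa using this

theorem isComplement' (hHa : H ≤ stabilizer G a)
    (hHcard : Nat.card H + 1 = Fintype.card Ω)
    (hHfix : ∀ u ∈ H, u ≠ 1 → ∀ c : Ω, u • c = c → c = a) (hab : a ≠ b) :
    Subgroup.IsComplement' (H.subgroupOf (stabilizer G a)) ((𝔇).subgroupOf (stabilizer G a)) := by
  apply Subgroup.isComplement'_of_disjoint_and_mul_eq_univ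
  · rw [Subgroup.disjoint_def]
    intro x hx1 hx2
    rw [Subgroup.mem_subgroupOf] at hx1 hx2
    apply Subtype.ext
    exact ZassH.H_inf_stab hHfix hab.symm hx1 (Subgroup.mem_inf.mp hx2).2
  · rw [Set.eq_univ_iff_forall]
    intro g
    obtain ⟨u, hu, d, hd, hg⟩ := ZassH.stab_decomp hHa hHcard hHfix hab.symm g.2
    refine Set.mem_mul.mpr ⟨⟨u, hHa hu⟩, ?_, ⟨d, (Subgroup.mem_inf.mp hd).1⟩, ?_, ?_⟩
    · exact Subgroup.mem_subgroupOf.mpr hu
    · exact Subgroup.mem_subgroupOf.mpr hd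
    · exact Subtype.ext hg.symm

/-- The two-point stabiliser is a Frobenius complement of odd order, so all its Sylow subgroups are
cyclic. -/
theorem zgroup_D (hZ : Cfsg.IsZassenhausGroup G Ω) (hHa : H ≤ stabilizer G a)
    (hHcard : Nat.card H + 1 = Fintype.card Ω)
    (hHfix : ∀ u ∈ H, u ≠ 1 → ∀ c : Ω, u • c = c → c = a) (hab : a ≠ b)
    (hodd : Odd (Nat.card ↥𝔇)) : IsZGroup ↥𝔇 := by
  haveI := H_normal hZ hHa hHcard hHfix
  have hc := isComplement' hHa hHcard hHfix hab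
  have h3 := Cfsg.Agent.S0878.card_ge_three hZ
  have hK : H.subgroupOf (stabilizer G a) ≠ ⊥ := by
    intro h
    have h1 : 1 < Nat.card H := by omega
    haveI : Nontrivial H := (Finite.one_lt_card_iff_nontrivial).mp h1
    obtain ⟨u, hu⟩ := exists_ne (1 : H)
    apply hu
    have hmem : (⟨(u : G), hHa u.2⟩ : stabilizer G a) ∈ H.subgroupOf (stabilizer G a) :=
      Subgroup.mem_subgroupOf.mpr u.2
    rw [h, Subgroup.mem_bot] at hmem
    apply Subtype.ext
    have h5 : ((⟨(u : G), hHa u.2⟩ : stabilizer G a) : G) = ((1 : stabilizer G a) : G) :=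
      congrArg Subtype.val hmem
    simpa using h5
  have hfpf : ∀ h ∈ (𝔇).subgroupOf (stabilizer G a), h ≠ 1 →
      H.subgroupOf (stabilizer G a) ⊓ Subgroup.centralizer {h} = ⊥ := by
    intro h hh hh1
    rw [Subgroup.eq_bot_iff_forall]
    intro x hx
    obtain ⟨hx1, hx2⟩ := Subgroup.mem_inf.mp hx
    rw [Subgroup.mem_subgroupOf] at hx1 hh
    by_contra hxne
    have hx1' : (x : G) ≠ 1 := fun h' => hxne (Subtype.ext h')
    have hcomm : (h : G) * (x : G) = (x : G) * (h : G) := by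
      have := (Subgroup.mem_centralizer_iff.mp hx2) h (Set.mem_singleton h)
      exact congrArg Subtype.val this
    have hha : (h : G) • a = a := (Subgroup.mem_inf.mp hh).1
    have hhb : (h : G) • b = b := (Subgroup.mem_inf.mp hh).2
    have hxa : (x : G) • a = a := hHa hx1
    have hxb : (x : G) • b ≠ b := fun h' => hab.symm (hHfix _ hx1 hx1' b h')
    have hxb' : (x : G) • b ≠ a := fun h' =>
      hab.symm (smul_left_cancel (x : G) (h'.trans hxa.symm))
    have hfix : (h : G) • ((x : G) • b) = (x : G) • b := by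
      rw [← mul_smul, hcomm, mul_smul, hhb]
    apply hh1
    apply Subtype.ext
    exact hZ.2.2.1 (h : G) a b ((x : G) • b) hab (Ne.symm hxb) (Ne.symm hxb') hha hhb hfix
  have hle : 𝔇 ≤ stabilizer G a := inf_le_left
  have hZs : IsZGroup ↥((𝔇).subgroupOf (stabilizer G a)) := by
    refine ⟨fun p hp P => ?_⟩
    haveI := Fact.mk hp
    rcases Cfsg.Agent.S0040.result _ _ hc hK hfpf p P with h | ⟨n, ⟨e⟩⟩
    · exact h
    · exfalso
      have h1 : Nat.card P = 4 * 2 ^ n := by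
        rw [Nat.card_congr e.toEquiv, Nat.card_eq_fintype_card, QuaternionGroup.card]
      have h2 : Nat.card P ∣ Nat.card ↥𝔇 := by
        rw [← Nat.card_congr (Subgroup.subgroupOfEquivOfLe hle).toEquiv]
        exact Subgroup.card_subgroup_dvd_card _
      rw [h1] at h2
      have h3 := hodd.of_dvd_nat h2
      have h4 : Odd 4 := (Nat.odd_mul.mp h3).1
      exact absurd h4 (by decide)
  exact IsZGroup.of_injective (f := (Subgroup.subgroupOfEquivOfLe hle).symm.toMonoidHom)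
    (Subgroup.subgroupOfEquivOfLe hle).symm.injective

/-- `|G| = (h + 1) h e`. -/
theorem card_G (hZ : Cfsg.IsZassenhausGroup G Ω) (hHa : H ≤ stabilizer G a)
    (hHcard : Nat.card H + 1 = Fintype.card Ω)
    (hHfix : ∀ u ∈ H, u ≠ 1 → ∀ c : Ω, u • c = c → c = a) (hab : a ≠ b) :
    Nat.card G = (Nat.card H + 1) * (Nat.card H * Nat.card ↥𝔇) := by
  have hc := isComplement' hHa hHcard hHfix hab
  have h1 := hc.card_mul_card
  rw [Nat.card_congr (Subgroup.subgroupOfEquivOfLe hHa).toEquiv,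
    Nat.card_congr (Subgroup.subgroupOfEquivOfLe
      (inf_le_left : 𝔇 ≤ stabilizer G a)).toEquiv] at h1
  haveI : IsPretransitive G Ω := ⟨fun x y => Cfsg.Agent.Helper96.zass_trans hZ x y⟩
  have h2 := Subgroup.card_mul_index (stabilizer G a)
  have h4 : Nat.card Ω = Fintype.card Ω := Nat.card_eq_fintype_card
  rw [index_stabilizer_of_transitive G a, h4, ← hHcard, ← h1] at h2
  rw [← h2]; ring

/-- A Sylow subgroup of the two-point stabiliser has the order of a Sylow subgroup of `G`. -/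
theorem sylow_card (hZ : Cfsg.IsZassenhausGroup G Ω) (hHa : H ≤ stabilizer G a)
    (hHcard : Nat.card H + 1 = Fintype.card Ω)
    (hHfix : ∀ u ∈ H, u ≠ 1 → ∀ c : Ω, u • c = c → c = a) (hab : a ≠ b)
    (hodd : Odd (Nat.card ↥𝔇)) {r : ℕ} [Fact r.Prime] (hr : r ∣ Nat.card ↥𝔇)
    (P : Sylow r ↥𝔇) :
    Nat.card ↥((P : Subgroup ↥𝔇).map (𝔇).subtype) = r ^ (Nat.card G).factorization r := by
  rw [Subgroup.card_map_of_injective (Subgroup.subtype_injective _), Sylow.card_eq_multiplicity]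
  congr 1
  symm
  have h3 := Cfsg.Agent.S0878.card_ge_three hZ
  have hfree : ∀ g : G, g • a = a → g • b = b → ∀ y : Ω, y ≠ a → y ≠ b → g • y = y → g = 1 :=
    fun g ha hb y hya hyb hy => hZ.2.2.1 g a b y hab (Ne.symm hyb) (Ne.symm hya) ha hb hy
  have hdvd : Nat.card ↥𝔇 ∣ Nat.card H - 1 :=
    Cfsg.Agent.S0738.card_sub_one_dvd hfree hab H hHa
      (fun u hu hub => ZassH.H_inf_stab hHfix hab.symm hu hub)
      (fun h hh c hc => ZassH.H_conj_mem hZ hHa hHcard hHfix (Subgroup.mem_inf.mp hh).1 hc)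
  exact factorization_eq Fact.out hr hdvd hodd (by omega) (card_G hZ hHa hHcard hHfix hab)

/-- For a Sylow subgroup `P` of `D` not contained in `D'`, some element swapping the two points
inverts `P`. -/
theorem exists_swap_inverting (hZ : Cfsg.IsZassenhausGroup G Ω) (hHa : H ≤ stabilizer G a)
    (hHcard : Nat.card H + 1 = Fintype.card Ω)
    (hHfix : ∀ u ∈ H, u ≠ 1 → ∀ c : Ω, u • c = c → c = a) (hab : a ≠ b)
    (hodd : Odd (Nat.card ↥𝔇)) {r : ℕ} [Fact r.Prime] (hr : r ∣ Nat.card ↥𝔇)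
    (hnil : ¬ ∃ N : Subgroup G, N.Normal ∧ N.index = r ^ (Nat.card G).factorization r)
    (P : Sylow r ↥𝔇) (hPc : ¬ (P : Subgroup ↥𝔇) ≤ commutator ↥𝔇) :
    ∃ n : G, n • a = b ∧ n • b = a ∧
      ∀ c : ↥𝔇, c ∈ (P : Subgroup ↥𝔇) → n * (c : G) * n⁻¹ = (c : G)⁻¹ := by
  have hcard := sylow_card hZ hHa hHcard hHfix hab hodd hr P
  set R : Subgroup G := (P : Subgroup ↥𝔇).map (𝔇).subtype with hRdef
  have hRD : R ≤ 𝔇 := Subgroup.map_subtype_le _
  have hPR : ∀ h : ↥𝔇, h ∈ (P : Subgroup ↥𝔇) ↔ (h : G) ∈ R := fun h =>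
    (Subgroup.mem_map_iff_mem (Subgroup.subtype_injective _)
      (K := (P : Subgroup ↥𝔇)) (x := h)).symm
  haveI hZD : IsZGroup ↥𝔇 := zgroup_D hZ hHa hHcard hHfix hab hodd
  haveI hPcyc : IsCyclic ↥(P : Subgroup ↥𝔇) := IsZGroup.isZGroup r Fact.out P
  haveI hRcyc : IsCyclic ↥R :=
    isCyclic_of_surjective _ (Subgroup.equivMapOfInjective (P : Subgroup ↥𝔇)
      (𝔇).subtype (Subgroup.subtype_injective _)).surjective
  have hRp : IsPGroup r ↥R := IsPGroup.of_card hcard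
  have hr2 : r ≠ 2 := by
    rintro rfl
    exact (Nat.not_even_iff_odd.mpr hodd) (even_iff_two_dvd.mpr hr)
  obtain ⟨n, hnN, hnC⟩ :=
    CyclicConj.exists_normalizer_not_centralizer (Sylow.ofCard R hcard) hnil
  rw [Sylow.coe_ofCard] at hnN hnC
  have hnN' := Subgroup.mem_normalizer_iff.mp hnN
  rw [Subgroup.mem_centralizer_iff] at hnC
  push Not at hnC
  obtain ⟨c₀, hc₀, hc₀n⟩ := hnC
  have hc₀R : c₀ ∈ R := hc₀
  have hc₀1 : c₀ ≠ 1 := by
    rintro rfl
    exact hc₀n (by rw [one_mul, mul_one])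
  have hle : Subgroup.normalizer ((P : Subgroup ↥𝔇) : Set ↥𝔇) ≤
      Subgroup.centralizer ((P : Subgroup ↥𝔇) : Set ↥𝔇) := by
    rcases P.normalizer_le_centralizer_or_le_commutator with h | h
    · exact h
    · exact absurd h hPc
  have hDN : ∀ d ∈ 𝔇, (∀ h, h ∈ R ↔ d * h * d⁻¹ ∈ R) → ∀ c ∈ R, c * d = d * c := by
    intro d hd hdN c hc
    obtain ⟨c', hc'P, rfl⟩ := Subgroup.mem_map.mp hc
    have hmem : (⟨d, hd⟩ : ↥𝔇) ∈ Subgroup.normalizer ((P : Subgroup ↥𝔇) : Set ↥𝔇) :=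
      Subgroup.mem_normalizer_iff.mpr
        (fun h => (hPR h).trans ((hdN (h : G)).trans (hPR (⟨d, hd⟩ * h * ⟨d, hd⟩⁻¹)).symm))
    have h2 := Subgroup.mem_centralizer_iff.mp (hle hmem) c' hc'P
    exact congrArg Subtype.val h2
  have hcase := Cfsg.Agent.S0879.preserves_of_conj hZ hab n c₀ (hRD hc₀R) hc₀1
    (hRD ((hnN' c₀).mp hc₀R))
  rcases hcase with ⟨h1, h2⟩ | ⟨h1, h2⟩
  · exfalso
    have hnD : n ∈ 𝔇 := by
      have : n⁻¹ ∈ 𝔇 := Subgroup.mem_inf.mpr ⟨h1, h2⟩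
      simpa using Subgroup.inv_mem _ this
    exact hc₀n (hDN n hnD hnN' c₀ hc₀R)
  · have hna : n • a = b := (inv_smul_eq_iff.mp h2).symm
    have hnb : n • b = a := (inv_smul_eq_iff.mp h1).symm
    refine ⟨n, hna, hnb, ?_⟩
    have hnnD : n * n ∈ 𝔇 := by
      refine Subgroup.mem_inf.mpr ⟨?_, ?_⟩
      · rw [mem_stabilizer_iff, mul_smul, hna, hnb]
      · rw [mem_stabilizer_iff, mul_smul, hnb, hna]
    have hnnN : ∀ h, h ∈ R ↔ n * n * h * (n * n)⁻¹ ∈ R := by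
      intro h
      have e : n * n * h * (n * n)⁻¹ = n * (n * h * n⁻¹) * n⁻¹ := by group
      rw [e]
      exact (hnN' h).trans (hnN' _)
    have hinv := CyclicConj.inverts_of_sq_centralizes R (Fact.out : r.Prime) hr2 hRp
      (fun c hc => (hnN' c).mp hc)
      (fun c hc => by
        have := hDN (n * n) hnnD hnnN c hc
        rw [← this]; group)
      ⟨c₀, hc₀R, fun h => hc₀n (by
        calc c₀ * n = (n * c₀ * n⁻¹) * n := by rw [h]
          _ = n * c₀ := by group)⟩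
    intro c hc
    exact hinv (c : G) ((hPR c).mp hc)

/-- The commutator subgroup of `D` is central in `D`. -/
theorem commutator_central (hZ : Cfsg.IsZassenhausGroup G Ω) (hHa : H ≤ stabilizer G a)
    (hHcard : Nat.card H + 1 = Fintype.card Ω)
    (hHfix : ∀ u ∈ H, u ≠ 1 → ∀ c : Ω, u • c = c → c = a) (hab : a ≠ b)
    (hodd : Odd (Nat.card ↥𝔇))
    (hnil : ∀ q : ℕ, q.Prime → q ∣ Nat.card ↥𝔇 →
      ¬ ∃ N : Subgroup G, N.Normal ∧ N.index = q ^ (Nat.card G).factorization q) :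
    ∀ x : ↥𝔇, ∀ c ∈ commutator ↥𝔇, x * c = c * x := by
  by_contra hcon
  push Not at hcon
  obtain ⟨x₀, c₀, hc₀, hxc₀⟩ := hcon
  haveI hZD : IsZGroup ↥𝔇 := zgroup_D hZ hHa hHcard hHfix hab hodd
  set D' : Subgroup G := (commutator ↥𝔇).map (𝔇).subtype with hD'def
  have hD'eq : D' = ⁅𝔇, 𝔇⁆ := Subgroup.map_subtype_commutator 𝔇
  haveI hcyc' : IsCyclic (commutator ↥𝔇) := IsZGroup.isCyclic_commutator ↥𝔇
  haveI hD'cyc : IsCyclic ↥D' :=
    isCyclic_of_surjective _ (Subgroup.equivMapOfInjective (commutator ↥𝔇) (𝔇).subtype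
      (Subgroup.subtype_injective _)).surjective
  have hD'mem : ∀ c : ↥𝔇, c ∈ commutator ↥𝔇 ↔ (c : G) ∈ D' := fun c =>
    (Subgroup.mem_map_iff_mem (Subgroup.subtype_injective 𝔇) (K := commutator ↥𝔇)
      (x := c)).symm
  have hD'comm : ∀ u ∈ D', ∀ v ∈ D', u * v = v * u := by
    intro u hu v hv
    obtain ⟨g, hg⟩ := hD'cyc.exists_generator
    obtain ⟨i, hi⟩ := Subgroup.mem_zpowers_iff.mp (hg ⟨u, hu⟩)
    obtain ⟨j, hj⟩ := Subgroup.mem_zpowers_iff.mp (hg ⟨v, hv⟩)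
    have := zpow_mul_comm g i j
    rw [hi, hj] at this
    exact congrArg Subtype.val this
  have hD'norm : ∀ x ∈ 𝔇, ∀ c ∈ D', x * c * x⁻¹ ∈ D' := by
    intro x hx c hc
    obtain ⟨c', hc', rfl⟩ := Subgroup.mem_map.mp hc
    have h1 : (⟨x, hx⟩ : ↥𝔇) * c' * (⟨x, hx⟩ : ↥𝔇)⁻¹ ∈ commutator ↥𝔇 :=
      (inferInstance : (commutator ↥𝔇).Normal).conj_mem c' hc' ⟨x, hx⟩
    exact (hD'mem _).mp h1
  set Cd : Subgroup G := 𝔇 ⊓ Subgroup.centralizer (D' : Set G) with hCd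
  have hCdD : Cd ≤ 𝔇 := inf_le_left
  have hx₀ : (x₀ : G) ∉ Cd := by
    intro h
    have h1 := Subgroup.mem_centralizer_iff.mp (Subgroup.mem_inf.mp h).2 (c₀ : G)
      ((hD'mem c₀).mp hc₀)
    exact hxc₀ (Subtype.ext h1.symm)
  obtain ⟨m, hm⟩ := Subgroup.card_dvd_of_le hCdD
  have hm1 : m ≠ 1 := by
    rintro rfl
    have : Cd = 𝔇 := Subgroup.eq_of_le_of_card_ge hCdD (by rw [hm, mul_one])
    exact hx₀ (by rw [this]; exact x₀.2)
  obtain ⟨r, hr, hrm⟩ := Nat.exists_prime_and_dvd hm1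
  haveI := Fact.mk hr
  have hrD : r ∣ Nat.card ↥𝔇 := hm ▸ Dvd.dvd.mul_left hrm _
  obtain ⟨P⟩ : Nonempty (Sylow r ↥𝔇) := inferInstance
  set R : Subgroup G := (P : Subgroup ↥𝔇).map (𝔇).subtype with hRdef
  have hRcard : Nat.card ↥R = r ^ (Nat.card ↥𝔇).factorization r := by
    rw [Subgroup.card_map_of_injective (Subgroup.subtype_injective _),
      Sylow.card_eq_multiplicity]
  have hRnot : ¬ R ≤ Cd := by
    intro hle
    have h1 : r ^ (Nat.card ↥𝔇).factorization r ∣ Nat.card ↥Cd :=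
      hRcard ▸ Subgroup.card_dvd_of_le hle
    have h2 : r ^ ((Nat.card ↥𝔇).factorization r + 1) ∣ Nat.card ↥𝔇 := by
      have h3 : r ^ (Nat.card ↥𝔇).factorization r * r ∣ Nat.card ↥Cd * m :=
        mul_dvd_mul h1 hrm
      rw [pow_succ]
      rw [← hm] at h3
      exact h3
    exact Nat.pow_succ_factorization_not_dvd (Nat.card_pos.ne') hr h2
  obtain ⟨x₁, hx₁R, hx₁C⟩ := SetLike.not_le_iff_exists.mp hRnot
  have hRD : R ≤ 𝔇 := Subgroup.map_subtype_le _
  have hx₁D : x₁ ∈ 𝔇 := hRD hx₁R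
  have hx₁cent : x₁ ∉ Subgroup.centralizer (D' : Set G) := fun h =>
    hx₁C (Subgroup.mem_inf.mpr ⟨hx₁D, h⟩)
  obtain ⟨x₁', hx₁'P, hx₁'eq⟩ := Subgroup.mem_map.mp hx₁R
  have hPc : ¬ (P : Subgroup ↥𝔇) ≤ commutator ↥𝔇 := by
    intro hle
    apply hx₁cent
    have hx₁D' : x₁ ∈ D' := by
      rw [← hx₁'eq]
      exact (hD'mem x₁').mp (hle hx₁'P)
    rw [Subgroup.mem_centralizer_iff]
    intro c hc
    exact hD'comm c hc x₁ hx₁D'
  obtain ⟨n, hna, hnb, hninv⟩ :=
    exists_swap_inverting hZ hHa hHcard hHfix hab hodd hrD (hnil r hr hrD) P hPc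
  have hnx : n * x₁ * n⁻¹ = x₁⁻¹ := by
    have := hninv x₁' hx₁'P
    rw [← hx₁'eq]
    exact this
  have hka : n⁻¹ • a = b := inv_smul_eq_iff.mpr hnb.symm
  have hkb : n⁻¹ • b = a := inv_smul_eq_iff.mpr hna.symm
  have hDn : (𝔇).map (MulAut.conj n⁻¹).toMonoidHom = 𝔇 := by
    rw [← ZassH.stab_inf_smul, hka, hkb, inf_comm]
  have hD'n : D'.map (MulAut.conj n⁻¹).toMonoidHom = D' := by
    rw [hD'eq, Subgroup.map_commutator, hDn]
  have hnD' : ∀ c ∈ D', n⁻¹ * c * n ∈ D' := by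
    intro c hc
    have := Subgroup.mem_map_of_mem (MulAut.conj n⁻¹).toMonoidHom hc
    rw [hD'n] at this
    simpa using this
  obtain ⟨j, hj⟩ := CyclicConj.conj_zpow_of_cyclic D' (fun c hc => hD'norm x₁ hx₁D c hc)
  apply hx₁cent
  rw [Subgroup.mem_centralizer_iff]
  intro c hc
  have hc₁ := hnD' c hc
  have e1 : x₁⁻¹ * c * x₁ = n * (x₁ * (n⁻¹ * c * n) * x₁⁻¹) * n⁻¹ := by
    calc x₁⁻¹ * c * x₁ = x₁⁻¹ * c * (x₁⁻¹)⁻¹ := by group
      _ = (n * x₁ * n⁻¹) * c * (n * x₁ * n⁻¹)⁻¹ := by rw [hnx]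
      _ = n * (x₁ * (n⁻¹ * c * n) * x₁⁻¹) * n⁻¹ := by group
  have e2 : n * (n⁻¹ * c * n) * n⁻¹ = c := by group
  have h4 : x₁⁻¹ * c * x₁ = x₁ * c * x₁⁻¹ := by
    rw [e1, hj _ hc₁, ← conj_zpow, e2, hj c hc]
  have h5 : x₁ * x₁ * c = c * (x₁ * x₁) := by
    have l : x₁ * (x₁⁻¹ * c * x₁) * x₁ = c * (x₁ * x₁) := by group
    have r' : x₁ * (x₁ * c * x₁⁻¹) * x₁ = x₁ * x₁ * c := by group
    rw [← l, ← r', h4]
  have h6 : Commute x₁ c := CyclicConj.commute_of_sq_commute hodd hx₁D h5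
  exact h6.eq.symm

/-- The two-point stabiliser is cyclic. -/
theorem cyclic_D (hZ : Cfsg.IsZassenhausGroup G Ω) (hHa : H ≤ stabilizer G a)
    (hHcard : Nat.card H + 1 = Fintype.card Ω)
    (hHfix : ∀ u ∈ H, u ≠ 1 → ∀ c : Ω, u • c = c → c = a) (hab : a ≠ b)
    (hodd : Odd (Nat.card ↥𝔇))
    (hnil : ∀ q : ℕ, q.Prime → q ∣ Nat.card ↥𝔇 →
      ¬ ∃ N : Subgroup G, N.Normal ∧ N.index = q ^ (Nat.card G).factorization q) :
    IsCyclic ↥𝔇 := by
  haveI hZD : IsZGroup ↥𝔇 := zgroup_D hZ hHa hHcard hHfix hab hodd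
  have hcen := commutator_central hZ hHa hHcard hHfix hab hodd hnil
  haveI : Group.IsNilpotent ↥𝔇 := by
    rw [Subgroup.nilpotent_iff_lowerCentralSeries]
    refine ⟨2, ?_⟩
    rw [show (2 : ℕ) = 1 + 1 from rfl, Subgroup.lowerCentralSeries_succ,
      Subgroup.top_lowerCentralSeries_one, Subgroup.commutator_eq_bot_iff_le_centralizer]
    intro c hc
    rw [Subgroup.mem_centralizer_iff]
    intro x _
    exact hcen x c hc
  infer_instance

/-- The two-point stabiliser is commutative. -/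
theorem D_comm (hZ : Cfsg.IsZassenhausGroup G Ω) (hHa : H ≤ stabilizer G a)
    (hHcard : Nat.card H + 1 = Fintype.card Ω)
    (hHfix : ∀ u ∈ H, u ≠ 1 → ∀ c : Ω, u • c = c → c = a) (hab : a ≠ b)
    (hodd : Odd (Nat.card ↥𝔇))
    (hnil : ∀ q : ℕ, q.Prime → q ∣ Nat.card ↥𝔇 →
      ¬ ∃ N : Subgroup G, N.Normal ∧ N.index = q ^ (Nat.card G).factorization q) :
    ∀ x ∈ 𝔇, ∀ y ∈ 𝔇, x * y = y * x := by
  intro x hx y hy
  have hcyc := cyclic_D hZ hHa hHcard hHfix hab hodd hnil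
  obtain ⟨g, hg⟩ := hcyc.exists_generator
  obtain ⟨i, hi⟩ := Subgroup.mem_zpowers_iff.mp (hg ⟨x, hx⟩)
  obtain ⟨j, hj⟩ := Subgroup.mem_zpowers_iff.mp (hg ⟨y, hy⟩)
  have := zpow_mul_comm g i j
  rw [hi, hj] at this
  exact congrArg Subtype.val this

/-- Every element swapping the two points inverts the two-point stabiliser. -/
theorem swap_inverts (hZ : Cfsg.IsZassenhausGroup G Ω) (hHa : H ≤ stabilizer G a)
    (hHcard : Nat.card H + 1 = Fintype.card Ω)
    (hHfix : ∀ u ∈ H, u ≠ 1 → ∀ c : Ω, u • c = c → c = a) (hab : a ≠ b)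
    (hodd : Odd (Nat.card ↥𝔇))
    (hnil : ∀ q : ℕ, q.Prime → q ∣ Nat.card ↥𝔇 →
      ¬ ∃ N : Subgroup G, N.Normal ∧ N.index = q ^ (Nat.card G).factorization q)
    {s : G} (hsa : s • a = b) (hsb : s • b = a) : ∀ h ∈ 𝔇, s * h * s⁻¹ = h⁻¹ := by
  have hcomm := D_comm hZ hHa hHcard hHfix hab hodd hnil
  have hC : ∀ v ∈ 𝔇, s * v = v * s → v = 1 := by
    intro v hv hsv
    by_contra hv1
    have hord : orderOf v ≠ 1 := by rwa [Ne, orderOf_eq_one_iff]
    obtain ⟨r, hr, hrv⟩ := Nat.exists_prime_and_dvd hord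
    haveI := Fact.mk hr
    have hpos : orderOf v ≠ 0 := (orderOf_pos v).ne'
    have hwo : orderOf (v ^ (orderOf v / r)) = r := orderOf_pow_orderOf_div hpos hrv
    generalize hw : v ^ (orderOf v / r) = w at hwo
    have hwD : w ∈ 𝔇 := by rw [← hw]; exact Subgroup.pow_mem _ hv _
    have hsw : s * w = w * s := by
      rw [← hw]
      exact (Commute.pow_right (show Commute s v from hsv) _).eq
    have hwo' : orderOf (⟨w, hwD⟩ : ↥𝔇) = r := by
      rw [← hwo]
      exact Subgroup.orderOf_mk w hwD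
    have hrD : r ∣ Nat.card ↥𝔇 := by
      rw [← hwo']
      exact orderOf_dvd_natCard _
    have hwP : IsPGroup r (Subgroup.zpowers (⟨w, hwD⟩ : ↥𝔇)) :=
      IsPGroup.of_card (n := 1) (by rw [Nat.card_zpowers, hwo', pow_one])
    obtain ⟨P, hP⟩ := hwP.exists_le_sylow
    have hwmem : (⟨w, hwD⟩ : ↥𝔇) ∈ (P : Subgroup ↥𝔇) := hP (Subgroup.mem_zpowers _)
    have hw1 : w ≠ 1 := by
      rintro rfl
      rw [orderOf_one] at hwo
      exact hr.one_lt.ne hwo
    have hPc : ¬ (P : Subgroup ↥𝔇) ≤ commutator ↥𝔇 := by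
      intro hle
      have h1 := hle hwmem
      have h2 : commutator ↥𝔇 = ⊥ := by
        rw [commutator_def, Subgroup.commutator_eq_bot_iff_le_centralizer]
        intro x _
        rw [Subgroup.mem_centralizer_iff]
        intro y _
        exact Subtype.ext (hcomm y y.2 x x.2)
      rw [h2, Subgroup.mem_bot] at h1
      exact hw1 (congrArg Subtype.val h1)
    obtain ⟨n, hna, hnb, hninv⟩ :=
      exists_swap_inverting hZ hHa hHcard hHfix hab hodd hrD (hnil r hr hrD) P hPc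
    have h6 : n * w * n⁻¹ = w⁻¹ := hninv ⟨w, hwD⟩ hwmem
    have hd : n⁻¹ * s ∈ 𝔇 := by
      refine Subgroup.mem_inf.mpr ⟨?_, ?_⟩
      · rw [mem_stabilizer_iff, mul_smul, hsa, inv_smul_eq_iff, hna]
      · rw [mem_stabilizer_iff, mul_smul, hsb, inv_smul_eq_iff, hnb]
    have e1 : s * w * s⁻¹ = n * ((n⁻¹ * s) * w * (n⁻¹ * s)⁻¹) * n⁻¹ := by group
    have e2 : (n⁻¹ * s) * w * (n⁻¹ * s)⁻¹ = w := by
      rw [hcomm _ hd w hwD]; group
    have e3 : s * w * s⁻¹ = w := by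
      rw [hsw]; group
    have e4 : w = w⁻¹ := by
      calc w = s * w * s⁻¹ := e3.symm
        _ = n * ((n⁻¹ * s) * w * (n⁻¹ * s)⁻¹) * n⁻¹ := e1
        _ = n * w * n⁻¹ := by rw [e2]
        _ = w⁻¹ := h6
    exact hw1 (Cfsg.Agent.Helper19.eq_one_of_sq_of_odd hodd hwD (mul_eq_one_iff_eq_inv.mpr e4))
  intro h hh
  have hss : s * s ∈ 𝔇 := by
    refine Subgroup.mem_inf.mpr ⟨?_, ?_⟩
    · rw [mem_stabilizer_iff, mul_smul, hsa, hsb]
    · rw [mem_stabilizer_iff, mul_smul, hsb, hsa]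
  have hsinva : s⁻¹ • a = b := inv_smul_eq_iff.mpr hsb.symm
  have hsinvb : s⁻¹ • b = a := inv_smul_eq_iff.mpr hsa.symm
  have hha : h • a = a := (Subgroup.mem_inf.mp hh).1
  have hhb : h • b = b := (Subgroup.mem_inf.mp hh).2
  have hk : s * h * s⁻¹ ∈ 𝔇 := by
    refine Subgroup.mem_inf.mpr ⟨?_, ?_⟩
    · rw [mem_stabilizer_iff, mul_smul, mul_smul, hsinva, hhb, hsb]
    · rw [mem_stabilizer_iff, mul_smul, mul_smul, hsinvb, hha, hsa]
  have e1 : s * s * h = h * (s * s) := hcomm _ hss h hh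
  have e2 : (s * h * s⁻¹) * h = h * (s * h * s⁻¹) := hcomm _ hk h hh
  have hsv : s * (h * (s * h * s⁻¹)) = (h * (s * h * s⁻¹)) * s := by
    calc s * (h * (s * h * s⁻¹)) = (s * h * s⁻¹) * (s * s * h) * s⁻¹ := by group
      _ = (s * h * s⁻¹) * (h * (s * s)) * s⁻¹ := by rw [e1]
      _ = ((s * h * s⁻¹) * h) * s := by group
      _ = (h * (s * h * s⁻¹)) * s := by rw [e2]
  have := hC _ (Subgroup.mul_mem _ hh hk) hsv
  exact eq_inv_of_mul_eq_one_right this

/-- The two-point stabiliser is its own centraliser. -/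
theorem centralizer_D (hZ : Cfsg.IsZassenhausGroup G Ω) (hHa : H ≤ stabilizer G a)
    (hHcard : Nat.card H + 1 = Fintype.card Ω)
    (hHfix : ∀ u ∈ H, u ≠ 1 → ∀ c : Ω, u • c = c → c = a) (hab : a ≠ b)
    (hodd : Odd (Nat.card ↥𝔇))
    (hnil : ∀ q : ℕ, q.Prime → q ∣ Nat.card ↥𝔇 →
      ¬ ∃ N : Subgroup G, N.Normal ∧ N.index = q ^ (Nat.card G).factorization q) :
    Subgroup.centralizer ((𝔇 : Subgroup G) : Set G) = 𝔇 := by
  have hcomm := D_comm hZ hHa hHcard hHfix hab hodd hnil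
  apply le_antisymm
  · intro g hg
    obtain ⟨x, hx, hx1⟩ := ZassH.exists_D_ne_one hZ hab
    have hgx : g * x * g⁻¹ = x := by
      have := (Subgroup.mem_centralizer_iff.mp hg) x hx
      rw [← this]; group
    have hp := Cfsg.Agent.S0879.preserves_of_conj hZ hab g x hx hx1 (by rw [hgx]; exact hx)
    rcases hp with ⟨h1, h2⟩ | ⟨h1, h2⟩
    · have : g⁻¹ ∈ 𝔇 := Subgroup.mem_inf.mpr ⟨h1, h2⟩
      simpa using Subgroup.inv_mem _ this
    · exfalso
      have hga : g • a = b := (inv_smul_eq_iff.mp h2).symm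
      have hgb : g • b = a := (inv_smul_eq_iff.mp h1).symm
      have := swap_inverts hZ hHa hHcard hHfix hab hodd hnil hga hgb x hx
      rw [hgx] at this
      exact hx1 (Cfsg.Agent.Helper19.eq_one_of_sq_of_odd hodd hx (mul_eq_one_iff_eq_inv.mpr this))
  · intro g hg
    rw [Subgroup.mem_centralizer_iff]
    intro h hh
    exact hcomm h hh g hg

end H

end Cfsg.Agent.Helper19.ZassD
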