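import Mathlib
import Cfsg.Prelude.Def_LieExceptional
import Cfsg.Agent.S0740
import Cfsg.Agent.Lib.Helper19.ZassD

set_option autoImplicit false

/-! Involutions of a Zassenhaus group whose two-point stabilisers have odd order and which has no
normal `q`-complements for the primes dividing that order: they are the elements swapping two
points, they are all conjugate, and they are counted by double counting. -/

namespace Cfsg.Agent.Helper19.ZassInvol

open MulAction

variable {G Ω : Type*} [Group G] [MulAction G Ω] [Finite G] [Fintype Ω]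

section Pair

variable {a b : Ω}

local notation "𝔇" => (MulAction.stabilizer G a ⊓ MulAction.stabilizer G b : Subgroup G)

/-- A simple Zassenhaus group has no normal `q`-complement for `q` dividing the odd order of a
two-point stabiliser. -/
theorem hnil_of_simple [IsSimpleGroup G] (hZ : Cfsg.IsZassenhausGroup G Ω) (hab : a ≠ b)
    (hodd : Odd (Nat.card ↥𝔇)) :
    ∀ q : ℕ, q.Prime → q ∣ Nat.card ↥𝔇 →
      ¬ ∃ N : Subgroup G, N.Normal ∧ N.index = q ^ (Nat.card G).factorization q := by
  rintro q hq hqD ⟨N, hN, hidx⟩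
  have hqG : q ∣ Nat.card G := hqD.trans (Subgroup.card_subgroup_dvd_card _)
  have hv : 0 < (Nat.card G).factorization q :=
    hq.factorization_pos_of_dvd Nat.card_pos.ne' hqG
  rcases hN.eq_bot_or_eq_top with h | h
  · rw [h, Subgroup.index_bot] at hidx
    obtain ⟨⟨s, hs2, -, -⟩, -, -⟩ := Cfsg.Agent.S0740.result hZ hab
    have h2 : 2 ∣ Nat.card G := hs2 ▸ orderOf_dvd_natCard s
    rw [hidx] at h2
    have h3 : 2 ∣ q := Nat.prime_two.dvd_of_dvd_pow h2
    have h4 : 2 = q := (Nat.prime_dvd_prime_iff_eq Nat.prime_two hq).mp h3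
    rw [← h4] at hqD
    exact (Nat.not_even_iff_odd.mpr hodd) (even_iff_two_dvd.mpr hqD)
  · rw [h, Subgroup.index_top] at hidx
    have : 1 < q ^ (Nat.card G).factorization q := Nat.one_lt_pow hv.ne' hq.one_lt
    omega

/-- An element swapping `a` and `b` is an involution. -/
theorem swap_mul_self (hZ : Cfsg.IsZassenhausGroup G Ω) (hab : a ≠ b) (hodd : Odd (Nat.card ↥𝔇))
    (hnil : ∀ q : ℕ, q.Prime → q ∣ Nat.card ↥𝔇 →
      ¬ ∃ N : Subgroup G, N.Normal ∧ N.index = q ^ (Nat.card G).factorization q)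
    {s : G} (hsa : s • a = b) (hsb : s • b = a) : s * s = 1 := by
  obtain ⟨H, hHa, hHcard, hHfix⟩ := ZassD.exists_kernel hZ a
  have hss : s * s ∈ 𝔇 := by
    refine Subgroup.mem_inf.mpr ⟨?_, ?_⟩
    · rw [mem_stabilizer_iff, mul_smul, hsa, hsb]
    · rw [mem_stabilizer_iff, mul_smul, hsb, hsa]
  have hinv := ZassD.swap_inverts hZ hHa hHcard hHfix hab hodd hnil hsa hsb (s * s) hss
  have e1 : s * (s * s) * s⁻¹ = s * s := by group
  rw [e1] at hinv
  exact Cfsg.Agent.Helper19.eq_one_of_sq_of_odd hodd hss (mul_eq_one_iff_eq_inv.mpr hinv)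

/-- Any two elements swapping `a` and `b` are conjugate. -/
theorem swap_conj (hZ : Cfsg.IsZassenhausGroup G Ω) (hab : a ≠ b) (hodd : Odd (Nat.card ↥𝔇))
    (hnil : ∀ q : ℕ, q.Prime → q ∣ Nat.card ↥𝔇 →
      ¬ ∃ N : Subgroup G, N.Normal ∧ N.index = q ^ (Nat.card G).factorization q)
    {s s' : G} (hsa : s • a = b) (hsb : s • b = a) (hsa' : s' • a = b) (hsb' : s' • b = a) :
    ∃ d : G, d * s * d⁻¹ = s' := by
  obtain ⟨H, hHa, hHcard, hHfix⟩ := ZassD.exists_kernel hZ a
  obtain ⟨k, hk⟩ := hodd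
  have hcD : s'⁻¹ * s ∈ 𝔇 := by
    refine Subgroup.mem_inf.mpr ⟨?_, ?_⟩
    · rw [mem_stabilizer_iff, mul_smul, hsa, inv_smul_eq_iff, hsa']
    · rw [mem_stabilizer_iff, mul_smul, hsb, inv_smul_eq_iff, hsb']
  generalize hc : s'⁻¹ * s = c at hcD
  have hdD : c ^ (k + 1) ∈ 𝔇 := Subgroup.pow_mem _ hcD _
  have hdd : c ^ (k + 1) * c ^ (k + 1) = c := by
    rw [← (Commute.refl c).mul_pow]
    exact Cfsg.Agent.Helper19.sq_pow_eq hk hcD
  have hinv := ZassD.swap_inverts hZ hHa hHcard hHfix hab ⟨k, hk⟩ hnil hsa hsb _ hdD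
  generalize c ^ (k + 1) = d at hdD hdd hinv
  refine ⟨d, ?_⟩
  have h1 : d * s = s * d⁻¹ := by
    have h2 : s * d⁻¹ * s⁻¹ = d := by
      have : s * d⁻¹ * s⁻¹ = (s * d * s⁻¹)⁻¹ := by group
      rw [this, hinv, inv_inv]
    calc d * s = (s * d⁻¹ * s⁻¹) * s := by rw [h2]
      _ = s * d⁻¹ := by group
  calc d * s * d⁻¹ = s * d⁻¹ * d⁻¹ := by rw [h1]
    _ = s * (d * d)⁻¹ := by group
    _ = s * c⁻¹ := by rw [hdd]
    _ = s' := by rw [← hc]; group

/-- The elements swapping `a` and `b` form a coset of the two-point stabiliser. -/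
theorem card_swappers (hZ : Cfsg.IsZassenhausGroup G Ω) (hab : a ≠ b) :
    Nat.card {x : G // x • a = b ∧ x • b = a} = Nat.card ↥𝔇 := by
  obtain ⟨s₀, hs₀a, hs₀b⟩ := ZassH.two_trans' hZ.2.1 hab hab.symm
  symm
  refine Nat.card_congr
    ⟨fun u => ⟨s₀ * (u : G), ?_, ?_⟩, fun x => ⟨s₀⁻¹ * (x : G), ?_⟩, ?_, ?_⟩
  · have h1 : (u : G) • a = a := (Subgroup.mem_inf.mp u.2).1
    rw [mul_smul, h1, hs₀a]
  · have h1 : (u : G) • b = b := (Subgroup.mem_inf.mp u.2).2
    rw [mul_smul, h1, hs₀b]
  · refine Subgroup.mem_inf.mpr ⟨?_, ?_⟩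
    · rw [mem_stabilizer_iff, mul_smul, x.2.1, inv_smul_eq_iff, hs₀a]
    · rw [mem_stabilizer_iff, mul_smul, x.2.2, inv_smul_eq_iff, hs₀b]
  · intro u
    apply Subtype.ext
    simp
  · intro x
    apply Subtype.ext
    simp

/-- Every involution is conjugate to one swapping `a` and `b`. -/
theorem exists_conj_swap (hZ : Cfsg.IsZassenhausGroup G Ω) (hab : a ≠ b) {t : G}
    (ht : orderOf t = 2) : ∃ g : G, (g * t * g⁻¹) • a = b ∧ (g * t * g⁻¹) • b = a := by
  have ht1 : t ≠ 1 := by
    rintro rfl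
    simp at ht
  have ht2 : t * t = 1 := by rw [← pow_two, ← ht, pow_orderOf_eq_one]
  obtain ⟨c, hc⟩ := Cfsg.Agent.Helper96.zass_exists_moved hZ ht1
  have hd : t • (t • c) = c := by rw [← mul_smul, ht2, one_smul]
  obtain ⟨g, hgc, hgd⟩ := ZassH.two_trans' hZ.2.1 (Ne.symm hc) hab
  have hginva : g⁻¹ • a = c := by rw [← hgc, inv_smul_smul]
  have hginvb : g⁻¹ • b = t • c := by rw [← hgd, inv_smul_smul]
  refine ⟨g, ?_, ?_⟩
  · rw [mul_smul, mul_smul, hginva, hgd]
  · rw [mul_smul, mul_smul, hginvb, hd, hgc]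

end Pair

/-- An involution fixes at most one point when two-point stabilisers have odd order. -/
theorem fix_unique
    (hodd' : ∀ c d : Ω, c ≠ d → Odd (Nat.card ↥(stabilizer G c ⊓ stabilizer G d))) {t : G}
    (ht : orderOf t = 2) {c d : Ω} (hc : t • c = c) (hd : t • d = d) : c = d := by
  by_contra hcd
  have ht1 : t ≠ 1 := by
    rintro rfl
    simp at ht
  have ht2 : t * t = 1 := by rw [← pow_two, ← ht, pow_orderOf_eq_one]
  have hmem : t ∈ stabilizer G c ⊓ stabilizer G d := Subgroup.mem_inf.mpr ⟨hc, hd⟩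
  exact (Nat.not_even_iff_odd.mpr (hodd' c d hcd))
    (Cfsg.Agent.Helper19.even_card_of_invol hmem ht1 ht2)

/-- The number of involutions. -/
theorem card_involutions (hZ : Cfsg.IsZassenhausGroup G Ω) {h e : ℕ}
    (hh : Fintype.card Ω = h + 1)
    (hcard : ∀ c d : Ω, c ≠ d → Nat.card ↥(stabilizer G c ⊓ stabilizer G d) = e) (hodd : Odd e)
    (hnil : ∀ c d : Ω, c ≠ d → ∀ q : ℕ, q.Prime →
      q ∣ Nat.card ↥(stabilizer G c ⊓ stabilizer G d) →
      ¬ ∃ N : Subgroup G, N.Normal ∧ N.index = q ^ (Nat.card G).factorization q) :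
    Nat.card {x : G // orderOf x = 2} = if Even h then e * (h + 1) else e * h := by
  classical
  haveI := Fintype.ofFinite G
  have h3 := Cfsg.Agent.S0878.card_ge_three hZ
  have hodd' : ∀ c d : Ω, c ≠ d → Odd (Nat.card ↥(stabilizer G c ⊓ stabilizer G d)) :=
    fun c d hcd => by rw [hcard c d hcd]; exact hodd
  have hIcard : Nat.card {x : G // orderOf x = 2} =
      (Finset.univ.filter (fun x : G => orderOf x = 2)).card := by
    rw [Nat.card_eq_fintype_card, Fintype.card_subtype]
  generalize hI : Finset.univ.filter (fun x : G => orderOf x = 2) = I at hIcard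
  have hImem : ∀ x, x ∈ I ↔ orderOf x = 2 := by
    intro x
    rw [← hI]
    simp
  -- fixed points of an involution
  have hfix : ∀ x ∈ I, (Finset.univ.filter (fun c : Ω => x • c = c)).card =
      if Even h then 1 else 0 := by
    intro x hx
    have hx2 : orderOf x = 2 := (hImem x).mp hx
    have hle : (Finset.univ.filter (fun c : Ω => x • c = c)).card ≤ 1 := by
      rw [Finset.card_le_one]
      intro c hc d hd
      exact fix_unique hodd' hx2 (Finset.mem_filter.mp hc).2 (Finset.mem_filter.mp hd).2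
    have hpar := Cfsg.Agent.S0740.fixedBy_parity (Ω := Ω) x hx2
    rw [Cfsg.Agent.S0740.card_fixedBy_eq, hh] at hpar
    unfold Nat.ModEq at hpar
    split_ifs with hev
    · have := Nat.even_iff.mp hev
      omega
    · have := Nat.odd_iff.mp (Nat.not_even_iff_odd.mp hev)
      omega
  -- involutions moving `c` to `d`
  have hfib : ∀ c d : Ω, c ≠ d →
      ((I.filter (fun x => ¬ x • c = c)).filter (fun x => x • c = d)).card = e := by
    intro c d hcd
    have hset : (I.filter (fun x => ¬ x • c = c)).filter (fun x => x • c = d) =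
        Finset.univ.filter (fun x : G => x • c = d ∧ x • d = c) := by
      ext x
      simp only [Finset.mem_filter, Finset.mem_univ, true_and, hImem]
      constructor
      · rintro ⟨⟨hx2, -⟩, hxc⟩
        refine ⟨hxc, ?_⟩
        have hxx : x * x = 1 := by rw [← pow_two, ← hx2, pow_orderOf_eq_one]
        rw [← hxc, ← mul_smul, hxx, one_smul]
      · rintro ⟨hxc, hxd⟩
        have hxx := swap_mul_self hZ hcd (hodd' c d hcd) (hnil c d hcd) hxc hxd
        have hx1 : x ≠ 1 := by
          rintro rfl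
          rw [one_smul] at hxc
          exact hcd hxc
        refine ⟨⟨orderOf_eq_prime (by rw [pow_two, hxx]) hx1, ?_⟩, hxc⟩
        rw [hxc]
        exact hcd.symm
    rw [hset, ← Fintype.card_subtype, ← Nat.card_eq_fintype_card, card_swappers hZ hcd,
      hcard c d hcd]
  -- count for each point
  have hpt : ∀ c : Ω, (I.filter (fun x => ¬ x • c = c)).card = h * e := by
    intro c
    rw [Finset.card_eq_sum_card_fiberwise (f := fun x => x • c) (t := Finset.univ.erase c)]
    · rw [Finset.sum_congr rfl (fun d hd => hfib c d (Finset.ne_of_mem_erase hd).symm)]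
      rw [Finset.sum_const, Finset.card_erase_of_mem (Finset.mem_univ c), Finset.card_univ, hh]
      simp
    · intro x hx
      exact Finset.mem_erase.mpr ⟨(Finset.mem_filter.mp hx).2, Finset.mem_univ _⟩
  have hL : ∀ x ∈ I, (Finset.univ.filter (fun c : Ω => ¬ x • c = c)).card =
      h + 1 - (if Even h then 1 else 0) := by
    intro x hx
    have := Finset.card_filter_add_card_filter_not (s := (Finset.univ : Finset Ω))
      (fun c => x • c = c)
    rw [hfix x hx, Finset.card_univ, hh] at this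
    omega
  -- double counting
  have hdc := Finset.sum_card_bipartiteAbove_eq_sum_card_bipartiteBelow (s := I)
    (t := (Finset.univ : Finset Ω)) (fun x c => ¬ x • c = c)
  simp only [Finset.bipartiteAbove, Finset.bipartiteBelow] at hdc
  rw [Finset.sum_congr rfl hL, Finset.sum_congr rfl (fun c _ => hpt c), Finset.sum_const,
    Finset.sum_const, Finset.card_univ, hh, smul_eq_mul, smul_eq_mul] at hdc
  rw [hIcard]
  split_ifs with hev
  · rw [if_pos hev] at hdc
    have e1 : h + 1 - 1 = h := by omega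
    rw [e1] at hdc
    have : I.card * h = (e * (h + 1)) * h := by rw [hdc]; ring
    exact Nat.eq_of_mul_eq_mul_right (by omega) this
  · rw [if_neg hev] at hdc
    have e1 : h + 1 - 0 = h + 1 := by omega
    rw [e1] at hdc
    have : I.card * (h + 1) = (e * h) * (h + 1) := by rw [hdc]; ring
    exact Nat.eq_of_mul_eq_mul_right (by omega) this

end Cfsg.Agent.Helper19.ZassInvol
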