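import Mathlib
import Cfsg.Prelude.Def_LieExceptional
import Cfsg.Agent.S0040
import Cfsg.Agent.S0738
import Cfsg.Agent.Lib.Helper96.Zassenhaus
import Cfsg.Agent.Lib.Helper19.ZassH
import Cfsg.Agent.Lib.Helper19.ZassD
import Cfsg.Agent.Lib.Helper19.ZassInvol

set_option autoImplicit false
set_option linter.unusedSectionVars false
set_option linter.style.haveILetI false

/-! Zassenhaus groups whose two-point stabiliser `D` has even order: uniqueness of the involution
of `D`; in the case `n - 1 = 2|D|` every element swapping the two points is an involution, `D` is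
cyclic and inverted by these elements. -/

namespace Cfsg.Agent.Helper19.ZassEven

open MulAction

variable {G Ω : Type*} [Group G] [MulAction G Ω] [Finite G] [Fintype Ω] {a b : Ω}

local notation "𝔇" => (MulAction.stabilizer G a ⊓ MulAction.stabilizer G b : Subgroup G)

/-- An involution of the two-point stabiliser inverts the Frobenius kernel of `G_a`. -/
theorem invol_inverts (hZ : Cfsg.IsZassenhausGroup G Ω) (hab : a ≠ b) {H : Subgroup G}
    (hHa : H ≤ stabilizer G a) (hHcard : Nat.card H + 1 = Fintype.card Ω)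
    (hHfix : ∀ u ∈ H, u ≠ 1 → ∀ c : Ω, u • c = c → c = a)
    {t : G} (ht : t ∈ 𝔇) (ht2 : t * t = 1) (ht1 : t ≠ 1) :
    ∀ u ∈ H, t * u * t⁻¹ = u⁻¹ := by
  have hta : t • a = a := (Subgroup.mem_inf.mp ht).1
  have htb : t • b = b := (Subgroup.mem_inf.mp ht).2
  have htG : t ∈ stabilizer G a := (Subgroup.mem_inf.mp ht).1
  have htinv : t⁻¹ = t := inv_eq_of_mul_eq_one_right ht2
  have hconj : ∀ u ∈ H, t * u * t⁻¹ ∈ H := fun u hu =>
    ZassH.H_conj_mem hZ hHa hHcard hHfix htG hu
  -- commuting with `t` forces triviality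
  have hcomm : ∀ w ∈ H, t * w * t⁻¹ = w → w = 1 := by
    intro w hw h
    by_contra hw1
    have hwb : w • b ≠ b := fun h' => hab.symm (hHfix w hw hw1 b h')
    have hwa : w • a = a := hHa hw
    have hwb' : w • b ≠ a := fun h' => hab.symm (smul_left_cancel w (h'.trans hwa.symm))
    have htw : t * w = w * t := by
      have := congrArg (fun x => x * t) h
      simpa [mul_assoc] using this
    have hfix : t • (w • b) = w • b := by
      rw [← mul_smul, htw, mul_smul, htb]
    exact ht1 (hZ.2.2.1 t a b (w • b) hab (Ne.symm hwb) (Ne.symm hwb') hta htb hfix)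
  let f : H → H := fun u => ⟨(u : G)⁻¹ * (t * u * t⁻¹), H.mul_mem (H.inv_mem u.2) (hconj u u.2)⟩
  have hinj : Function.Injective f := by
    intro u v huv
    have h1 : (u : G)⁻¹ * (t * u * t⁻¹) = (v : G)⁻¹ * (t * v * t⁻¹) := congrArg Subtype.val huv
    have h2 : t * ((v : G) * (u : G)⁻¹) * t⁻¹ = (v : G) * (u : G)⁻¹ := by
      have e1 : t * ((v : G) * (u : G)⁻¹) * t⁻¹ = (t * v * t⁻¹) * (t * u * t⁻¹)⁻¹ := by group
      have e2 : t * (v : G) * t⁻¹ = (v : G) * ((u : G)⁻¹ * (t * u * t⁻¹)) := by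
        rw [h1]; group
      rw [e1, e2]; group
    have h3 := hcomm _ (H.mul_mem v.2 (H.inv_mem u.2)) h2
    apply Subtype.ext
    have : (v : G) = (u : G) := by
      have := congrArg (fun x => x * (u : G)) h3
      simpa using this
    exact this.symm
  have hsurj : Function.Surjective f := Finite.injective_iff_surjective.mp hinj
  intro m hm
  obtain ⟨u, hu⟩ := hsurj ⟨m, hm⟩
  have hm' : m = (u : G)⁻¹ * (t * u * t⁻¹) := (congrArg Subtype.val hu).symm
  rw [hm', htinv]
  have e3 : ((u : G)⁻¹ * (t * (u : G) * t))⁻¹ = t⁻¹ * (u : G)⁻¹ * t⁻¹ * (u : G) := by group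
  rw [e3, htinv]
  calc t * ((u : G)⁻¹ * (t * (u : G) * t)) * t = t * (u : G)⁻¹ * t * (u : G) * (t * t) := by group
    _ = t * (u : G)⁻¹ * t * (u : G) := by rw [ht2, mul_one]

/-- The two-point stabiliser has at most one involution. -/
theorem invol_unique (hZ : Cfsg.IsZassenhausGroup G Ω) (hab : a ≠ b) {t t' : G}
    (ht : t ∈ 𝔇) (ht' : t' ∈ 𝔇) (ht2 : t * t = 1) (ht1 : t ≠ 1) (ht'2 : t' * t' = 1)
    (ht'1 : t' ≠ 1) : t = t' := by
  obtain ⟨H, hHa, hHcard, hHfix⟩ := ZassD.exists_kernel hZ a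
  have h1 := invol_inverts hZ hab hHa hHcard hHfix ht ht2 ht1
  have h2 := invol_inverts hZ hab hHa hHcard hHfix ht' ht'2 ht'1
  have h3 := Cfsg.Agent.S0878.card_ge_three hZ
  have hcardH : 1 < Nat.card H := by omega
  haveI : Nontrivial H := (Finite.one_lt_card_iff_nontrivial).mp hcardH
  obtain ⟨u, hu⟩ := exists_ne (1 : H)
  have hu1 : (u : G) ≠ 1 := fun h => hu (Subtype.ext h)
  have huH : (u : G) ∈ H := u.2
  have hua : (u : G) • a = a := hHa huH
  have hub : (u : G) • b ≠ b := fun h' => hab.symm (hHfix _ huH hu1 b h')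
  have hub' : (u : G) • b ≠ a := fun h' => hab.symm (smul_left_cancel (u : G) (h'.trans hua.symm))
  have htt' : t * t' ∈ 𝔇 := (𝔇).mul_mem ht ht'
  have hcen : (t * t') * (u : G) * (t * t')⁻¹ = (u : G) := by
    have e : (t * t') * (u : G) * (t * t')⁻¹ = t * (t' * (u : G) * t'⁻¹) * t⁻¹ := by group
    rw [e, h2 _ huH]
    have := h1 _ (H.inv_mem huH)
    rw [this, inv_inv]
  have hfix : (t * t') • ((u : G) • b) = (u : G) • b := by
    have e : (t * t') * (u : G) = (u : G) * (t * t') := by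
      have := congrArg (fun x => x * (t * t')) hcen
      simpa [mul_assoc] using this
    rw [← mul_smul, e, mul_smul]
    congr 1
    exact (Subgroup.mem_inf.mp htt').2
  have hone : t * t' = 1 :=
    hZ.2.2.1 (t * t') a b ((u : G) • b) hab (Ne.symm hub) (Ne.symm hub')
      (Subgroup.mem_inf.mp htt').1 (Subgroup.mem_inf.mp htt').2 hfix
  have : t' = t⁻¹ := (inv_eq_of_mul_eq_one_right hone).symm
  rw [this, inv_eq_of_mul_eq_one_right ht2]

/-- In the case `n - 1 = 2|D|` (with `|D|` even) every element swapping `a` and `b` is an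
involution. -/
theorem swap_mul_self (hZ : Cfsg.IsZassenhausGroup G Ω) (hab : a ≠ b)
    (heven : Even (Nat.card ↥𝔇)) (heq : Fintype.card Ω - 2 = 2 * Nat.card ↥𝔇) {x : G}
    (hxa : x • a = b) (hxb : x • b = a) : x * x = 1 := by
  classical
  haveI := Fintype.ofFinite G
  obtain ⟨z', hz'⟩ := exists_prime_orderOf_dvd_card' (G := ↥𝔇) 2 heven.two_dvd
  obtain ⟨z, hzdef⟩ : ∃ z : G, z = (z' : G) := ⟨_, rfl⟩
  have hzo : orderOf z = 2 := by rw [hzdef, Subgroup.orderOf_coe, hz']
  have hz2 : z * z = 1 := by rw [← pow_two, ← hzo, pow_orderOf_eq_one]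
  have hz1 : z ≠ 1 := by
    intro h
    rw [h, orderOf_one] at hzo
    omega
  have hzinv : z⁻¹ = z := inv_eq_of_mul_eq_one_right hz2
  have hza : z • a = a := by rw [hzdef]; exact (Subgroup.mem_inf.mp z'.2).1
  have hzb : z • b = b := by rw [hzdef]; exact (Subgroup.mem_inf.mp z'.2).2
  have h3fix := hZ.2.2.1
  have hex : ∀ c : Ω, c ≠ a → c ≠ b →
      ∃ t : G, t * t = 1 ∧ t ≠ 1 ∧ t • c = c ∧ t • a = b ∧ t • b = a := by
    intro c hca hcb
    have hzc : z • c ≠ c := fun h => hz1 (h3fix z a b c hab (Ne.symm hcb) (Ne.symm hca) hza hzb h)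
    have hzca : z • c ≠ a := fun h => hca (smul_left_cancel z (h.trans hza.symm))
    have hzcb : z • c ≠ b := fun h => hcb (smul_left_cancel z (h.trans hzb.symm))
    have hzzc : z • (z • c) = c := by rw [← mul_smul, hz2, one_smul]
    have hcard := ZassH.card_stab_inf_eq hZ.2.1 hab (Ne.symm hzc)
    have heven' : Even (Nat.card ↥(stabilizer G c ⊓ stabilizer G (z • c))) := by
      rw [hcard]; exact heven
    obtain ⟨t', ht'⟩ := exists_prime_orderOf_dvd_card'
      (G := ↥(stabilizer G c ⊓ stabilizer G (z • c))) 2 heven'.two_dvd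
    obtain ⟨t, htdef⟩ : ∃ t : G, t = (t' : G) := ⟨_, rfl⟩
    have hto : orderOf t = 2 := by rw [htdef, Subgroup.orderOf_coe, ht']
    have ht2 : t * t = 1 := by rw [← pow_two, ← hto, pow_orderOf_eq_one]
    have ht1 : t ≠ 1 := by
      intro h
      rw [h, orderOf_one] at hto
      omega
    have htmem : t ∈ stabilizer G c ⊓ stabilizer G (z • c) := by rw [htdef]; exact t'.2
    have htc : t • c = c := (Subgroup.mem_inf.mp htmem).1
    have htc' : t • (z • c) = z • c := (Subgroup.mem_inf.mp htmem).2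
    have hconjmem : z * t * z⁻¹ ∈ stabilizer G c ⊓ stabilizer G (z • c) := by
      rw [hzinv]
      refine Subgroup.mem_inf.mpr ⟨?_, ?_⟩
      · rw [mem_stabilizer_iff, mul_smul, mul_smul, htc', hzzc]
      · rw [mem_stabilizer_iff, mul_smul, mul_smul, hzzc, htc]
    have hconj2 : (z * t * z⁻¹) * (z * t * z⁻¹) = 1 := by
      have : (z * t * z⁻¹) * (z * t * z⁻¹) = z * (t * t) * z⁻¹ := by group
      rw [this, ht2]; group
    have hconj1 : z * t * z⁻¹ ≠ 1 := by
      intro h
      apply ht1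
      have : t = z⁻¹ * (z * t * z⁻¹) * z := by group
      rw [this, h]; group
    have huniq : z * t * z⁻¹ = t :=
      invol_unique hZ (Ne.symm hzc) hconjmem htmem hconj2 hconj1 ht2 ht1
    have hzt : z * t = t * z := by
      have := congrArg (fun y => y * z) huniq
      simpa [mul_assoc] using this
    have hzta : z • (t • a) = t • a := by rw [← mul_smul, hzt, mul_smul, hza]
    have hta : t • a = a ∨ t • a = b := by
      by_contra hcon
      rw [not_or] at hcon
      exact hz1 (h3fix z a b (t • a) hab (Ne.symm hcon.2) (Ne.symm hcon.1) hza hzb hzta)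
    have hta' : t • a = b := by
      rcases hta with h | h
      · exfalso
        exact ht1 (h3fix t a c (z • c) (Ne.symm hca) (Ne.symm hzc) (Ne.symm hzca) h htc htc')
      · exact h
    refine ⟨t, ht2, ht1, htc, hta', ?_⟩
    rw [← hta', ← mul_smul, ht2, one_smul]
  choose! f hf using hex
  let s : Finset Ω := (Finset.univ.erase a).erase b
  have hs : ∀ c, c ∈ s ↔ c ≠ a ∧ c ≠ b := by
    intro c
    simp only [s, Finset.mem_erase, Finset.mem_univ, and_true]
    tauto
  have hscard : s.card = Fintype.card Ω - 2 := by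
    have h1 : b ∈ Finset.univ.erase a := Finset.mem_erase.mpr ⟨Ne.symm hab, Finset.mem_univ _⟩
    rw [Finset.card_erase_of_mem h1, Finset.card_erase_of_mem (Finset.mem_univ a),
      Finset.card_univ]
    omega
  let Sw : Finset G := Finset.univ.filter (fun y => y • a = b ∧ y • b = a)
  have hSwcard : Sw.card = Nat.card ↥𝔇 := by
    rw [← ZassInvol.card_swappers hZ hab, Nat.card_eq_fintype_card, Fintype.card_subtype]
  have himg : s.image f ⊆ Sw := by
    intro y hy
    obtain ⟨c, hc, rfl⟩ := Finset.mem_image.mp hy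
    obtain ⟨hca, hcb⟩ := (hs c).mp hc
    obtain ⟨-, -, -, h4, h5⟩ := hf c hca hcb
    exact Finset.mem_filter.mpr ⟨Finset.mem_univ _, h4, h5⟩
  have hfib : ∀ y ∈ s.image f, (s.filter fun c => f c = y).card ≤ 2 := by
    intro y _
    by_contra hcon
    rw [not_le, Finset.two_lt_card_iff] at hcon
    obtain ⟨c1, c2, c3, h1, h2, h3, h12, h13, h23⟩ := hcon
    rw [Finset.mem_filter] at h1 h2 h3
    have g1 := hf c1 ((hs c1).mp h1.1).1 ((hs c1).mp h1.1).2
    have g2 := hf c2 ((hs c2).mp h2.1).1 ((hs c2).mp h2.1).2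
    have g3 := hf c3 ((hs c3).mp h3.1).1 ((hs c3).mp h3.1).2
    rw [h1.2] at g1
    rw [h2.2] at g2
    rw [h3.2] at g3
    exact g1.2.1 (h3fix y c1 c2 c3 h12 h23 h13 g1.2.2.1 g2.2.2.1 g3.2.2.1)
  have h1 := Finset.card_le_mul_card_image s 2 hfib
  have h2 := Finset.card_le_card himg
  have h3 : (s.image f).card = Sw.card := by
    rw [hscard, heq] at h1
    rw [hSwcard] at h2 ⊢
    omega
  have h4 : s.image f = Sw := Finset.eq_of_subset_of_card_le himg (le_of_eq h3.symm)
  have hx : x ∈ Sw := Finset.mem_filter.mpr ⟨Finset.mem_univ _, hxa, hxb⟩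
  rw [← h4] at hx
  obtain ⟨c, hc, rfl⟩ := Finset.mem_image.mp hx
  exact (hf c ((hs c).mp hc).1 ((hs c).mp hc).2).1

/-- In the case `n - 1 = 2|D|` every element swapping the two points inverts `D`. -/
theorem swap_inverts (hZ : Cfsg.IsZassenhausGroup G Ω) (hab : a ≠ b)
    (heven : Even (Nat.card ↥𝔇)) (heq : Fintype.card Ω - 2 = 2 * Nat.card ↥𝔇) {s : G}
    (hsa : s • a = b) (hsb : s • b = a) : ∀ h ∈ 𝔇, s * h * s⁻¹ = h⁻¹ := by
  intro h hh
  have hha : h • a = a := (Subgroup.mem_inf.mp hh).1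
  have hhb : h • b = b := (Subgroup.mem_inf.mp hh).2
  have h1 := swap_mul_self hZ hab heven heq hsa hsb
  have h2 : (s * h) * (s * h) = 1 :=
    swap_mul_self hZ hab heven heq (by rw [mul_smul, hha, hsa]) (by rw [mul_smul, hhb, hsb])
  have hsinv : s⁻¹ = s := inv_eq_of_mul_eq_one_right h1
  rw [hsinv]
  have h3 : s * h * s * h = 1 := by simpa [mul_assoc] using h2
  exact eq_inv_of_mul_eq_one_left h3

/-- In the case `n - 1 = 2|D|` the two-point stabiliser is commutative. -/
theorem D_comm (hZ : Cfsg.IsZassenhausGroup G Ω) (hab : a ≠ b)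
    (heven : Even (Nat.card ↥𝔇)) (heq : Fintype.card Ω - 2 = 2 * Nat.card ↥𝔇) :
    ∀ x ∈ 𝔇, ∀ y ∈ 𝔇, x * y = y * x := by
  intro x hx y hy
  obtain ⟨s, hsa, hsb⟩ := ZassH.two_trans' hZ.2.1 hab hab.symm
  have h1 := swap_inverts hZ hab heven heq hsa hsb x hx
  have h2 := swap_inverts hZ hab heven heq hsa hsb y hy
  have h3 := swap_inverts hZ hab heven heq hsa hsb (x * y) ((𝔇).mul_mem hx hy)
  have h4 : s * (x * y) * s⁻¹ = (s * x * s⁻¹) * (s * y * s⁻¹) := by group
  rw [h4, h1, h2] at h3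
  have h5 : (x⁻¹ * y⁻¹)⁻¹ = ((x * y)⁻¹)⁻¹ := congrArg (fun z => z⁻¹) h3
  simpa using h5.symm

/-- A commutative two-point stabiliser of a Zassenhaus group is cyclic. -/
theorem cyclic_of_comm (hZ : Cfsg.IsZassenhausGroup G Ω) (hab : a ≠ b)
    (hcomm : ∀ x ∈ 𝔇, ∀ y ∈ 𝔇, x * y = y * x) : IsCyclic ↥𝔇 := by
  obtain ⟨H, hHa, hHcard, hHfix⟩ := ZassD.exists_kernel hZ a
  haveI := ZassD.H_normal hZ hHa hHcard hHfix
  have hc := ZassD.isComplement' (b := b) hHa hHcard hHfix hab
  have h3 := Cfsg.Agent.S0878.card_ge_three hZ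
  have hK : H.subgroupOf (stabilizer G a) ≠ ⊥ := by
    intro h
    have h1 : 1 < Nat.card H := by omega
    haveI : Nontrivial H := (Finite.one_lt_card_iff_nontrivial).mp h1
    obtain ⟨u, hu⟩ := exists_ne (1 : H)
    apply hu
    have hmem : (⟨(u : G), hHa u.2⟩ : stabilizer G a) ∈ H.subgroupOf (stabilizer G a) :=
      Subgroup.mem_subgroupOf.mpr u.2
    rw [h, Subgroup.mem_bot] at hmem
    apply Subtype.ext
    have h5 : ((⟨(u : G), hHa u.2⟩ : stabilizer G a) : G) = ((1 : stabilizer G a) : G) :=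
      congrArg Subtype.val hmem
    simpa using h5
  have hfpf : ∀ h ∈ (𝔇).subgroupOf (stabilizer G a), h ≠ 1 →
      H.subgroupOf (stabilizer G a) ⊓ Subgroup.centralizer {h} = ⊥ := by
    intro h hh hh1
    rw [Subgroup.eq_bot_iff_forall]
    intro x hx
    obtain ⟨hx1, hx2⟩ := Subgroup.mem_inf.mp hx
    rw [Subgroup.mem_subgroupOf] at hx1 hh
    by_contra hxne
    have hx1' : (x : G) ≠ 1 := fun h' => hxne (Subtype.ext h')
    have hcomm' : (h : G) * (x : G) = (x : G) * (h : G) := by
      have := (Subgroup.mem_centralizer_iff.mp hx2) h (Set.mem_singleton h)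
      exact congrArg Subtype.val this
    have hha : (h : G) • a = a := (Subgroup.mem_inf.mp hh).1
    have hhb : (h : G) • b = b := (Subgroup.mem_inf.mp hh).2
    have hxa : (x : G) • a = a := hHa hx1
    have hxb : (x : G) • b ≠ b := fun h' => hab.symm (hHfix _ hx1 hx1' b h')
    have hxb' : (x : G) • b ≠ a := fun h' =>
      hab.symm (smul_left_cancel (x : G) (h'.trans hxa.symm))
    have hfix : (h : G) • ((x : G) • b) = (x : G) • b := by
      rw [← mul_smul, hcomm', mul_smul, hhb]
    apply hh1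
    apply Subtype.ext
    exact hZ.2.2.1 (h : G) a b ((x : G) • b) hab (Ne.symm hxb) (Ne.symm hxb') hha hhb hfix
  have hle : 𝔇 ≤ stabilizer G a := inf_le_left
  have hScomm : ∀ x y : ↥((𝔇).subgroupOf (stabilizer G a)), x * y = y * x := by
    intro x y
    apply Subtype.ext
    apply Subtype.ext
    have := hcomm _ (Subgroup.mem_subgroupOf.mp x.2) _ (Subgroup.mem_subgroupOf.mp y.2)
    simpa using this
  have hZs : IsZGroup ↥((𝔇).subgroupOf (stabilizer G a)) := by
    refine ⟨fun p hp P => ?_⟩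
    haveI := Fact.mk hp
    rcases Cfsg.Agent.S0040.result _ _ hc hK hfpf p P with h | ⟨n, ⟨e⟩⟩
    · exact h
    · have hPcomm : ∀ x y : P, x * y = y * x := fun x y => Subtype.ext (hScomm x y)
      have hq : (QuaternionGroup.a 1 : QuaternionGroup (2 ^ n)) * QuaternionGroup.xa 0 =
          QuaternionGroup.xa 0 * QuaternionGroup.a 1 := by
        have h1 := hPcomm (e.symm (QuaternionGroup.a 1)) (e.symm (QuaternionGroup.xa 0))
        have h2 := congrArg e h1
        simpa using h2
      rw [QuaternionGroup.a_mul_xa, QuaternionGroup.xa_mul_a] at hq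
      have hq' : (0 - 1 : ZMod (2 * 2 ^ n)) = 0 + 1 := QuaternionGroup.xa.inj hq
      have h2 : ((2 : ℕ) : ZMod (2 * 2 ^ n)) = 0 := by
        have : (1 : ZMod (2 * 2 ^ n)) + 1 = 0 := by
          have := congrArg (fun z => z + 1) hq'
          simp only [zero_sub, neg_add_cancel, zero_add] at this
          exact this.symm
        rw [← this]; norm_num
      rw [ZMod.natCast_eq_zero_iff] at h2
      have h4 : 2 ^ n = 1 := by
        have h5 : 2 * 2 ^ n ≤ 2 := Nat.le_of_dvd (by norm_num) h2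
        have h6 : 0 < 2 ^ n := by positivity
        omega
      have hcyc : IsCyclic (QuaternionGroup (2 ^ n)) := by
        rw [h4]; exact QuaternionGroup.quaternionGroup_one_isCyclic
      exact isCyclic_of_surjective e.symm.toMonoidHom e.symm.surjective
  haveI hZD : IsZGroup ↥𝔇 :=
    IsZGroup.of_injective (f := (Subgroup.subgroupOfEquivOfLe hle).symm.toMonoidHom)
      (Subgroup.subgroupOfEquivOfLe hle).symm.injective
  haveI : Group.IsNilpotent ↥𝔇 := by
    rw [Subgroup.nilpotent_iff_lowerCentralSeries]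
    refine ⟨2, ?_⟩
    rw [show (2 : ℕ) = 1 + 1 from rfl, Subgroup.lowerCentralSeries_succ,
      Subgroup.top_lowerCentralSeries_one, Subgroup.commutator_eq_bot_iff_le_centralizer]
    intro c _
    rw [Subgroup.mem_centralizer_iff]
    intro x _
    exact Subtype.ext (hcomm _ x.2 _ c.2)
  infer_instance

end Cfsg.Agent.Helper19.ZassEven
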