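import Mathlib

set_option autoImplicit false
set_option linter.style.haveILetI false
set_option linter.unusedSimpArgs false
set_option linter.unusedSectionVars false
set_option linter.unusedVariables false

/-! The Möbius action of `GL₂(K)` on `OnePoint K` transported to a set `α` along a bijection;
a sharply 3-transitive group inside its image is all of it, hence isomorphic to `PGL₂(K)`. -/

namespace Cfsg.Agent.Helper19.Moebius

open Matrix OnePoint MulAction

variable {K : Type*} [Field K] [DecidableEq K]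

/-- The permutation representation of `GL₂(K)` on `α`, transported along `ψ : α ≃ OnePoint K`. -/
noncomputable def glHom {α : Type*} (ψ : α ≃ OnePoint K) : GL (Fin 2) K →* Equiv.Perm α :=
  (ψ.symm.permCongrHom.toMonoidHom).comp (MulAction.toPermHom (GL (Fin 2) K) (OnePoint K))

lemma glHom_apply {α : Type*} (ψ : α ≃ OnePoint K) (m : GL (Fin 2) K) (a : α) :
    glHom ψ m a = ψ.symm (m • ψ a) := rfl

lemma scalar_smul (u : Kˣ) (z : OnePoint K) :
    (Matrix.GeneralLinearGroup.scalar (Fin 2) u) • z = z := by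
  cases z with
  | infty =>
    rw [OnePoint.smul_infty_eq_self_iff]
    simp
  | coe k =>
    rw [OnePoint.smul_some_eq_ite]
    simp

lemma mem_center_of_smul_eq (m : GL (Fin 2) K) (h : ∀ z : OnePoint K, m • z = z) :
    m ∈ Subgroup.center (GL (Fin 2) K) := by
  have h10 : m 1 0 = 0 := OnePoint.smul_infty_eq_self_iff.mp (h ∞)
  have h0 := h ((0 : K) : OnePoint K)
  rw [OnePoint.smul_some_eq_ite] at h0
  simp only [h10, mul_zero, zero_add, add_zero, zero_mul] at h0
  have h11 : m 1 1 ≠ 0 := by
    intro e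
    rw [if_pos e] at h0
    exact OnePoint.infty_ne_coe _ h0
  rw [if_neg h11] at h0
  have h01 : m 0 1 = 0 := by
    have := OnePoint.coe_injective h0
    rcases div_eq_zero_iff.mp this with h | h
    · exact h
    · exact absurd h h11
  have h1 := h ((1 : K) : OnePoint K)
  rw [OnePoint.smul_some_eq_ite] at h1
  simp only [h10, h01, mul_one, zero_add, add_zero] at h1
  rw [if_neg h11] at h1
  have h00 : m 0 0 = m 1 1 := by
    have := OnePoint.coe_injective h1
    rwa [div_eq_one_iff_eq h11] at this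
  rw [Matrix.GeneralLinearGroup.center_eq_range_scalar]
  have hu : m 0 0 ≠ 0 := by rw [h00]; exact h11
  refine ⟨Units.mk0 (m 0 0) hu, ?_⟩
  ext i j
  fin_cases i <;> fin_cases j <;> simp [h10, h01, h00, Matrix.GeneralLinearGroup.coe_scalar]

/-- The induced hom from `PGL₂(K)`. -/
noncomputable def pglHom {α : Type*} (ψ : α ≃ OnePoint K) :
    Matrix.ProjGenLinGroup (Fin 2) K →* Equiv.Perm α :=
  Matrix.ProjGenLinGroup.lift (glHom ψ) (by
    ext u a
    rw [MonoidHom.comp_apply, glHom_apply, scalar_smul, Equiv.symm_apply_apply]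
    rfl)

lemma pglHom_mk {α : Type*} (ψ : α ≃ OnePoint K) (m : GL (Fin 2) K) :
    pglHom ψ (Matrix.ProjGenLinGroup.mk m) = glHom ψ m := rfl

lemma pglHom_injective {α : Type*} (ψ : α ≃ OnePoint K) : Function.Injective (pglHom ψ) := by
  rw [injective_iff_map_eq_one]
  intro g hg
  induction g using Matrix.ProjGenLinGroup.induction_on with
  | mk m =>
    rw [pglHom_mk] at hg
    rw [Matrix.ProjGenLinGroup.mk_eq_one]
    apply mem_center_of_smul_eq
    intro z
    have := congrArg (fun σ : Equiv.Perm α => σ (ψ.symm z)) hg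
    simp only [glHom_apply, Equiv.apply_symm_apply, Equiv.Perm.coe_one, id_eq] at this
    exact ψ.symm.injective this

lemma range_pglHom {α : Type*} (ψ : α ≃ OnePoint K) : (pglHom ψ).range = (glHom ψ).range := by
  ext σ
  constructor
  · rintro ⟨g, rfl⟩
    induction g using Matrix.ProjGenLinGroup.induction_on with
    | mk m => exact ⟨m, rfl⟩
  · rintro ⟨m, rfl⟩
    exact ⟨Matrix.ProjGenLinGroup.mk m, rfl⟩

/-- The affine matrix. -/
noncomputable def affMat (a b : K) (ha : a ≠ 0) : GL (Fin 2) K :=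
  Matrix.GeneralLinearGroup.mkOfDetNeZero !![a, b; 0, 1] (by simp [Matrix.det_fin_two, ha])

lemma affMat_smul_infty (a b : K) (ha : a ≠ 0) : affMat a b ha • (∞ : OnePoint K) = ∞ := by
  rw [OnePoint.smul_infty_eq_self_iff]
  simp [affMat, Matrix.GeneralLinearGroup.mkOfDetNeZero]

lemma affMat_smul_coe (a b : K) (ha : a ≠ 0) (x : K) :
    affMat a b ha • (x : OnePoint K) = ((b + a * x : K) : OnePoint K) := by
  rw [OnePoint.smul_some_eq_ite]
  simp [affMat, Matrix.GeneralLinearGroup.mkOfDetNeZero, add_comm]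

/-- The inversion matrix. -/
noncomputable def invMat : GL (Fin 2) K :=
  Matrix.GeneralLinearGroup.mkOfDetNeZero !![0, 1; 1, 0] (by simp [Matrix.det_fin_two])

lemma invMat_smul_infty : (invMat : GL (Fin 2) K) • (∞ : OnePoint K) = ((0 : K) : OnePoint K) := by
  rw [OnePoint.smul_infty_eq_ite]
  simp [invMat, Matrix.GeneralLinearGroup.mkOfDetNeZero]

lemma invMat_smul_zero : (invMat : GL (Fin 2) K) • ((0 : K) : OnePoint K) = ∞ := by
  rw [OnePoint.smul_some_eq_ite]
  simp [invMat, Matrix.GeneralLinearGroup.mkOfDetNeZero]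

lemma invMat_smul_coe {x : K} (hx : x ≠ 0) :
    (invMat : GL (Fin 2) K) • (x : OnePoint K) = ((x⁻¹ : K) : OnePoint K) := by
  rw [OnePoint.smul_some_eq_ite]
  simp [invMat, Matrix.GeneralLinearGroup.mkOfDetNeZero, hx]

lemma card_pgl2 [Fintype K] (k : ℕ) (hk : Fintype.card K = k + 1) :
    Nat.card (Matrix.ProjGenLinGroup (Fin 2) K) = k * (k + 1) * (k + 2) := by
  have h1 : Nat.card (GL (Fin 2) K) =
      (Fintype.card K ^ 2 - 1) * (Fintype.card K ^ 2 - Fintype.card K) := by
    rw [Matrix.card_GL_field, Fin.prod_univ_two]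
    simp
  have h2 := Subgroup.card_eq_card_quotient_mul_card_subgroup (Subgroup.center (GL (Fin 2) K))
  have hinj : Function.Injective (Matrix.GeneralLinearGroup.scalar (Fin 2) : Kˣ →* GL (Fin 2) K) := by
    intro u v huv
    have := congrArg (fun g : GL (Fin 2) K => (g : Matrix (Fin 2) (Fin 2) K) 0 0) huv
    simp at this
    exact Units.ext this
  have h3 : Nat.card (Subgroup.center (GL (Fin 2) K)) = Fintype.card K - 1 := by
    rw [Matrix.GeneralLinearGroup.center_eq_range_scalar,
      ← Nat.card_congr (MonoidHom.ofInjective hinj).toEquiv, Nat.card_units,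
      Nat.card_eq_fintype_card]
  have h4 : Nat.card (Matrix.ProjGenLinGroup (Fin 2) K) * (Fintype.card K - 1)
      = (Fintype.card K ^ 2 - 1) * (Fintype.card K ^ 2 - Fintype.card K) := by
    rw [← h1, h2, h3]
    rfl
  rw [hk] at h4
  have e1 : (k + 1) ^ 2 - 1 = k * (k + 2) := by
    have : (k + 1) ^ 2 = k * (k + 2) + 1 := by ring
    omega
  have e2 : (k + 1) ^ 2 - (k + 1) = k * (k + 1) := by
    have : (k + 1) ^ 2 = k * (k + 1) + (k + 1) := by ring
    omega
  rw [e1, e2, Nat.add_sub_cancel] at h4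
  have hkpos : 0 < k := by
    have := Fintype.one_lt_card (α := K)
    omega
  have h5 : Nat.card (Matrix.ProjGenLinGroup (Fin 2) K) * k = (k * (k + 1) * (k + 2)) * k := by
    rw [h4]; ring
  exact Nat.eq_of_mul_eq_mul_right hkpos h5

/-- A sharply 3-transitive group inside the Möbius group is isomorphic to `PGL₂(K)`. -/
theorem nonempty_mulEquiv_pgl {α : Type*} [Fintype α] [DecidableEq α]
    (G : Subgroup (Equiv.Perm α))
    (h3 : MulAction.IsMultiplyPretransitive G α 3)
    (hsharp : ∀ x : Fin 3 ↪ α, MulAction.stabilizer G x = ⊥)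
    (ψ : α ≃ OnePoint K)
    (haff : ∀ g : G, ψ (g • ψ.symm ∞) = ∞ →
      ∃ a b : K, a ≠ 0 ∧ ∀ x : K,
        ψ (g • ψ.symm (x : OnePoint K)) = ((b + a * x : K) : OnePoint K))
    (htr : ∀ c : K, ∃ g : G, ψ (g • ψ.symm ∞) = ∞ ∧
      ψ (g • ψ.symm ((0 : K) : OnePoint K)) = (c : OnePoint K))
    (ht : ∃ t : G, ψ (t • ψ.symm ∞) = ((0 : K) : OnePoint K) ∧
      ψ (t • ψ.symm ((0 : K) : OnePoint K)) = ∞ ∧
      ∀ x : K, x ≠ 0 → ψ (t • ψ.symm (x : OnePoint K)) = ((x⁻¹ : K) : OnePoint K)) :
    Nonempty (G ≃* Matrix.ProjGenLinGroup (Fin 2) K) := by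
  classical
  have hsm : ∀ (g : G) (a : α), g • a = (g : Equiv.Perm α) a := fun g a => rfl
  -- Claim A
  have hA : ∀ g : G, ψ (g • ψ.symm ∞) = ∞ → (g : Equiv.Perm α) ∈ (glHom ψ).range := by
    intro g hg
    obtain ⟨a, b, ha, hab⟩ := haff g hg
    refine ⟨affMat a b ha, ?_⟩
    ext p
    rw [glHom_apply]
    obtain ⟨z, rfl⟩ := ψ.symm.surjective p
    rw [Equiv.apply_symm_apply]
    cases z with
    | infty =>
      rw [affMat_smul_infty]
      exact ψ.symm_apply_eq.mpr hg.symm
    | coe x =>
      rw [affMat_smul_coe, ← hsm, ← hab x, Equiv.symm_apply_apply]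
  obtain ⟨t, ht1, ht2, ht3⟩ := ht
  have hB : (t : Equiv.Perm α) ∈ (glHom ψ).range := by
    refine ⟨invMat, ?_⟩
    ext p
    rw [glHom_apply]
    obtain ⟨z, rfl⟩ := ψ.symm.surjective p
    rw [Equiv.apply_symm_apply]
    cases z with
    | infty =>
      rw [invMat_smul_infty]
      exact ψ.symm_apply_eq.mpr ht1.symm
    | coe x =>
      by_cases hx : x = 0
      · subst hx
        rw [invMat_smul_zero]
        exact ψ.symm_apply_eq.mpr ht2.symm
      · rw [invMat_smul_coe hx, ← hsm, ← ht3 x hx, Equiv.symm_apply_apply]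
  have hle : G ≤ (glHom ψ).range := by
    intro σ hσ
    let g : G := ⟨σ, hσ⟩
    change (g : Equiv.Perm α) ∈ _
    rcases hz : ψ (g • ψ.symm ∞) with _ | c
    · exact hA g hz
    · obtain ⟨g₁, hg₁a, hg₁b⟩ := htr c
      have hfix : ψ ((((g₁ * t)⁻¹ * g : G)) • ψ.symm ∞) = ∞ := by
        rw [mul_smul, inv_smul_eq_iff.mpr, Equiv.apply_symm_apply]
        rw [mul_smul]
        have e1 : t • ψ.symm ∞ = ψ.symm ((0 : K) : OnePoint K) := by
          rw [← ht1, Equiv.symm_apply_apply]
        have e2 : g₁ • ψ.symm ((0 : K) : OnePoint K) = ψ.symm (c : OnePoint K) := by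
          rw [← hg₁b, Equiv.symm_apply_apply]
        have e3 : g • ψ.symm ∞ = ψ.symm (c : OnePoint K) := by
          rw [← Equiv.symm_apply_apply ψ (g • ψ.symm ∞), hz]
          rfl
        rw [e1, e2, e3]
      have h1 := hA g₁ hg₁a
      have h2 := hA _ hfix
      have h3' := (glHom ψ).range.mul_mem ((glHom ψ).range.mul_mem h1 hB) h2
      have : (g : Equiv.Perm α) = (g₁ : Equiv.Perm α) * (t : Equiv.Perm α) *
          (((g₁ * t)⁻¹ * g : G) : Equiv.Perm α) := by
        rw [← Subgroup.coe_mul, ← Subgroup.coe_mul]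
        congr 1
        group
      rw [this]
      exact h3'
  -- cardinalities
  haveI : Fintype K := Fintype.ofInjective (fun x : K => ψ.symm (x : OnePoint K))
    (fun x y hxy => OnePoint.coe_injective (ψ.symm.injective hxy))
  obtain ⟨k, hk⟩ : ∃ k, Fintype.card K = k + 1 :=
    ⟨Fintype.card K - 1, by have := Fintype.card_pos (α := K); omega⟩
  have hα : Fintype.card α = k + 2 := by
    rw [Fintype.card_congr ψ]
    change Fintype.card (Option K) = _
    rw [Fintype.card_option, hk]
  have hpgl := card_pgl2 (K := K) k hk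
  have hG : Nat.card G = k * (k + 1) * (k + 2) := by
    have hne1 : ψ.symm ∞ ≠ ψ.symm ((0 : K) : OnePoint K) := by
      intro e; exact OnePoint.infty_ne_coe _ (ψ.symm.injective e)
    have hne2 : ψ.symm ∞ ≠ ψ.symm ((1 : K) : OnePoint K) := by
      intro e; exact OnePoint.infty_ne_coe _ (ψ.symm.injective e)
    have hne3 : ψ.symm ((0 : K) : OnePoint K) ≠ ψ.symm ((1 : K) : OnePoint K) := by
      intro e; exact zero_ne_one (OnePoint.coe_injective (ψ.symm.injective e))
    let x₀ : Fin 3 ↪ α := ⟨![ψ.symm ∞, ψ.symm ((0 : K) : OnePoint K), ψ.symm ((1 : K) : OnePoint K)],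
      by
        intro i j hij
        fin_cases i <;> fin_cases j <;> simp_all⟩
    have hbij : Function.Bijective (fun g : G => g • x₀) := by
      constructor
      · intro g g' hgg0
        have hgg' : g • x₀ = g' • x₀ := hgg0
        have : g'⁻¹ * g ∈ MulAction.stabilizer G x₀ := by
          rw [MulAction.mem_stabilizer_iff, mul_smul]
          exact inv_smul_eq_iff.mpr hgg'
        rw [hsharp, Subgroup.mem_bot] at this
        calc g = g' * (g'⁻¹ * g) := by group
          _ = g' := by rw [this, mul_one]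
      · intro y
        exact h3.exists_smul_eq x₀ y
    rw [Nat.card_eq_of_bijective _ hbij, Nat.card_eq_fintype_card, Fintype.card_embedding_eq, hα,
      Fintype.card_fin]
    simp [Nat.descFactorial]
    ring
  have hEq : G = (pglHom ψ).range := by
    rw [range_pglHom]
    apply Subgroup.eq_of_le_of_card_ge hle
    rw [← range_pglHom, Nat.card_congr (MonoidHom.ofInjective (pglHom_injective ψ)).toEquiv.symm,
      hpgl, hG]
  exact ⟨(MulEquiv.subgroupCongr hEq).trans (MonoidHom.ofInjective (pglHom_injective ψ)).symm⟩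

end Cfsg.Agent.Helper19.Moebius
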