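import Mathlib
import Cfsg.Agent.Lib.Helper19.MoebiusPGL

set_option autoImplicit false
set_option linter.unusedSectionVars false
set_option linter.style.haveILetI false

/-! The Möbius action of `PSL₂(K)` on a set identified with `OnePoint K`: a group of the same
order acting faithfully through Möbius maps with square determinant is isomorphic to `PSL₂(K)`. -/

namespace Cfsg.Agent.Helper19.MoebiusPSL

open Matrix OnePoint MulAction Cfsg.Agent.Helper19.Moebius

variable {K : Type*} [Field K] [DecidableEq K]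

/-- The permutation representation of `PSL₂(K)` on `α`. -/
noncomputable def pslHom {α : Type*} (ψ : α ≃ OnePoint K) :
    Matrix.ProjectiveSpecialLinearGroup (Fin 2) K →* Equiv.Perm α :=
  (pglHom ψ).comp Matrix.ProjectiveSpecialLinearGroup.toPGL

lemma pslHom_injective {α : Type*} (ψ : α ≃ OnePoint K) : Function.Injective (pslHom ψ) :=
  (pglHom_injective ψ).comp Matrix.ProjectiveSpecialLinearGroup.toPGL_injective

lemma glHom_mem_range {α : Type*} (ψ : α ≃ OnePoint K) (M : GL (Fin 2) K)
    (h : IsSquare (M : Matrix (Fin 2) (Fin 2) K).det) : glHom ψ M ∈ (pslHom ψ).range := by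
  obtain ⟨r, hr⟩ := h
  have hdet : (M : Matrix (Fin 2) (Fin 2) K).det ≠ 0 := by
    have := Matrix.GeneralLinearGroup.det_ne_zero M
    exact this
  have hr0 : r ≠ 0 := by
    rintro rfl
    rw [mul_zero] at hr
    exact hdet hr
  let A : Matrix.SpecialLinearGroup (Fin 2) K := ⟨r⁻¹ • (M : Matrix (Fin 2) (Fin 2) K), by
    rw [Matrix.det_smul, Fintype.card_fin, hr]
    field_simp⟩
  have hA : Matrix.SpecialLinearGroup.toGL A =
      Matrix.GeneralLinearGroup.scalar (Fin 2) (Units.mk0 r⁻¹ (inv_ne_zero hr0)) * M := by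
    apply Matrix.GeneralLinearGroup.ext
    intro i j
    have h1 : (Matrix.SpecialLinearGroup.toGL A : Matrix (Fin 2) (Fin 2) K) i j =
        (r⁻¹ • (M : Matrix (Fin 2) (Fin 2) K)) i j := rfl
    rw [h1]
    simp [Matrix.GeneralLinearGroup.coe_scalar]
  refine ⟨((A : Matrix.SpecialLinearGroup (Fin 2) K) :
    Matrix.ProjectiveSpecialLinearGroup (Fin 2) K), ?_⟩
  change pglHom ψ (Matrix.ProjectiveSpecialLinearGroup.toPGL
    ((A : Matrix.SpecialLinearGroup (Fin 2) K) : Matrix.ProjectiveSpecialLinearGroup (Fin 2) K)) = _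
  rw [Matrix.ProjectiveSpecialLinearGroup.toPGL_mk, pglHom_mk, hA, map_mul]
  ext a
  rw [Equiv.Perm.mul_apply, glHom_apply, glHom_apply, Equiv.apply_symm_apply,
    scalar_smul]

theorem nonempty_mulEquiv_psl {G α : Type*} [Group G] [Finite G] [Finite α] [MulAction G α]
    [FaithfulSMul G α] (ψ : α ≃ OnePoint K)
    (hsub : ∀ g : G, MulAction.toPermHom G α g ∈ (pslHom ψ).range)
    (hcard : Nat.card G = Nat.card (Matrix.ProjectiveSpecialLinearGroup (Fin 2) K)) :
    Nonempty (G ≃* Matrix.ProjectiveSpecialLinearGroup (Fin 2) K) := by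
  have hΦ : Function.Injective (MulAction.toPermHom G α) := MulAction.toPerm_injective
  have hle : (MulAction.toPermHom G α).range ≤ (pslHom ψ).range := by
    rintro _ ⟨g, rfl⟩
    exact hsub g
  have hcard' : Nat.card (pslHom ψ).range ≤ Nat.card (MulAction.toPermHom G α).range := by
    rw [Nat.card_congr (MonoidHom.ofInjective hΦ).symm.toEquiv,
      Nat.card_congr (MonoidHom.ofInjective (pslHom_injective ψ)).symm.toEquiv, hcard]
  have heq : (MulAction.toPermHom G α).range = (pslHom ψ).range :=
    Subgroup.eq_of_le_of_card_ge hle hcard'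
  exact ⟨(MonoidHom.ofInjective hΦ).trans ((MulEquiv.subgroupCongr heq).trans
    (MonoidHom.ofInjective (pslHom_injective ψ)).symm)⟩

end Cfsg.Agent.Helper19.MoebiusPSL
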