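import Mathlib

set_option autoImplicit false
set_option linter.unusedSectionVars false
set_option linter.style.haveILetI false

/-! The functional equation satisfied by the action of an involution of a Zassenhaus group of
degree `q + 1` with two-point stabiliser of order `(q - 1) / 2`: it is `x ↦ α / x`. -/

namespace Cfsg.Agent.Helper19.InvFunc

variable {E : Type*} [Field E] [Fintype E] [DecidableEq E]

theorem inversion_formula (h2 : (2 : E) ≠ 0) {ι : E} (hι : ι * ι = -1) (φ : E → E)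
    (h0 : ∀ x, x ≠ 0 → φ x ≠ 0) (hinv : ∀ x, x ≠ 0 → φ (φ x) = x)
    (hmul : ∀ m x : E, m ≠ 0 → IsSquare m → x ≠ 0 → φ (m * x) = m⁻¹ * φ x)
    (hrel : ∀ c : E, c ≠ 0 → ∃ m c2 : E, m ≠ 0 ∧ IsSquare m ∧ c2 ≠ 0 ∧ φ c + φ c2 = 0 ∧
      ∀ x : E, x ≠ 0 → (c + φ x = 0 → c2 + m * x = 0) ∧
        (c + φ x ≠ 0 → c2 + m * x ≠ 0 ∧ φ (c + φ x) = φ c + φ (c2 + m * x))) :
    ∃ α : E, α ≠ 0 ∧ IsSquare (-α) ∧ ∀ x, x ≠ 0 → φ x = α / x := by
  have hsqneg : IsSquare (-1 : E) := ⟨ι, hι.symm⟩
  have hchar : ringChar E ≠ 2 := by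
    intro h
    apply h2
    have := CharP.cast_eq_zero E (ringChar E)
    rw [h] at this
    exact_mod_cast this
  have hneg : ∀ x, x ≠ 0 → φ (-x) = -φ x := by
    intro x hx
    have := hmul (-1) x (by norm_num) hsqneg hx
    simpa [inv_neg] using this
  have hinj : ∀ x y, x ≠ 0 → y ≠ 0 → φ x = φ y → x = y := by
    intro x y hx hy h
    rw [← hinv x hx, ← hinv y hy, h]
  have hrel' : ∀ c : E, c ≠ 0 → IsSquare (-c / φ c) ∧ ∀ x : E, x ≠ 0 → c + φ x ≠ 0 →
      -c + (-c / φ c) * x ≠ 0 ∧ φ (c + φ x) = φ c + φ (-c + (-c / φ c) * x) := by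
    intro c hc
    obtain ⟨m, c2, hm0, hmsq, hc20, hc2, hx⟩ := hrel c hc
    have hc2eq : c2 = -c := by
      apply hinj c2 (-c) hc20 (neg_ne_zero.mpr hc)
      rw [hneg c hc]
      linear_combination hc2
    have hφc : φ c ≠ 0 := h0 c hc
    have hm : m = -c / φ c := by
      have hx0 : -φ c ≠ 0 := neg_ne_zero.mpr hφc
      have h1 : φ (-φ c) = -c := by rw [hneg _ hφc, hinv c hc]
      have h2' := (hx (-φ c) hx0).1 (by rw [h1]; ring)
      rw [hc2eq] at h2'
      rw [eq_div_iff hφc]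
      linear_combination (-1 : E) * h2'
    rw [hc2eq, hm] at hx
    rw [hm] at hmsq
    exact ⟨hmsq, fun x hx0 hne => (hx x hx0).2 hne⟩
  have hγ : ∀ m x : E, m ≠ 0 → IsSquare m → x ≠ 0 → (m * x) * φ (m * x) = x * φ x := by
    intro m x hm hsq hx
    rw [hmul m x hm hsq hx]
    field_simp
  obtain ⟨α, hα⟩ : ∃ α : E, α = φ 1 := ⟨_, rfl⟩
  have hα0 : α ≠ 0 := by rw [hα]; exact h0 1 one_ne_zero
  have hsqα : IsSquare (-α) := by
    have h1 := (hrel' 1 one_ne_zero).1
    have h3 : -α = (-1 / φ 1)⁻¹ := by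
      rw [← hα]
      field_simp
    rw [h3]
    exact h1.inv
  have hsq_γ : ∀ x, x ≠ 0 → IsSquare x → x * φ x = α := by
    intro x hx hsq
    have := hγ x 1 hx hsq one_ne_zero
    rw [mul_one, one_mul] at this
    rw [hα]
    exact this
  have hkey : ∀ c y : E, c ≠ 0 → y ≠ 0 → IsSquare (y / c) → c + y ≠ 0 →
      (c + y) * φ (c + y) = c * φ c := by
    intro c y hc hy hsq hcy
    have hφc := h0 c hc
    have hφy := h0 y hy
    obtain ⟨-, hx⟩ := hrel' c hc
    have h1 := hx (φ y) hφy (by rw [hinv y hy]; exact hcy)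
    rw [hinv y hy] at h1
    obtain ⟨hw0, hw⟩ := h1
    have hγy : y * φ y = c * φ c := by
      have := hγ (y / c) c (div_ne_zero hy hc) hsq hc
      rwa [div_mul_cancel₀ y hc] at this
    have hφy' : φ y = c * φ c / y := by
      rw [eq_div_iff hy]
      linear_combination hγy
    have hw_eq : -c + (-c / φ c) * φ y = (-c / y) * (c + y) := by
      rw [hφy']
      field_simp
      ring
    have hsq' : IsSquare (-c / y) := by
      have : -c / y = (-1) * (y / c)⁻¹ := by
        field_simp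
      rw [this]
      exact hsqneg.mul hsq.inv
    have hγw := hγ (-c / y) (c + y) (div_ne_zero (neg_ne_zero.mpr hc) hy) hsq' hcy
    rw [← hw_eq] at hγw
    obtain ⟨Q, hQ⟩ : ∃ Q : E, Q = φ (-c + (-c / φ c) * φ y) := ⟨_, rfl⟩
    obtain ⟨P, hP⟩ : ∃ P : E, P = φ (c + y) := ⟨_, rfl⟩
    rw [← hQ, ← hP] at hw
    rw [← hQ, ← hP, hw_eq] at hγw
    rw [← hP]
    have hQ1 : (c + y) * ((-c / y) * Q) = (c + y) * P := by linear_combination hγw
    have hQ2 : (-c / y) * Q = P := mul_left_cancel₀ hcy hQ1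
    have hQ3 : -c * Q = y * P := by
      rw [← hQ2]
      field_simp
    linear_combination c * hw - hQ3
  by_cases hall : ∀ x, x ≠ 0 → x * φ x = α
  · refine ⟨α, hα0, hsqα, fun x hx => ?_⟩
    rw [eq_div_iff hx, mul_comm]
    exact hall x hx
  · exfalso
    push Not at hall
    obtain ⟨ν, hν0, hνα⟩ := hall
    have hνns : ¬ IsSquare ν := fun h => hνα (hsq_γ ν hν0 h)
    have hnsq : ∀ x, x ≠ 0 → ¬ IsSquare x → x * φ x ≠ α := by
      intro x hx hns
      have hsq : IsSquare (x / ν) := by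
        rw [FiniteField.isSquare_iff hchar (div_ne_zero hx hν0), div_pow]
        have h1 := (FiniteField.pow_dichotomy hchar hx).resolve_left
          (fun h => hns ((FiniteField.isSquare_iff hchar hx).mpr h))
        have h2 := (FiniteField.pow_dichotomy hchar hν0).resolve_left
          (fun h => hνns ((FiniteField.isSquare_iff hchar hν0).mpr h))
        rw [h1, h2]
        norm_num
      have := hγ (x / ν) ν (div_ne_zero hx hν0) hsq hν0
      rw [div_mul_cancel₀ x hν0] at this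
      rw [this]
      exact hνα
    have hiff : ∀ x, x ≠ 0 → x * φ x = α → IsSquare x := by
      intro x hx h
      by_contra hns
      exact hnsq x hx hns h
    have hadd : ∀ c y : E, IsSquare c → IsSquare y → IsSquare (c + y) := by
      intro c y hc hy
      by_cases hc0 : c = 0
      · rw [hc0, zero_add]; exact hy
      by_cases hy0 : y = 0
      · rw [hy0, add_zero]; exact hc
      by_cases hcy : c + y = 0
      · rw [hcy]; exact IsSquare.zero
      apply hiff _ hcy
      rw [hkey c y hc0 hy0 (hy.div hc) hcy]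
      exact hsq_γ c hc0 hc
    obtain ⟨z, hz⟩ := FiniteField.exists_nonsquare hchar
    apply hz
    have h3 : (ι * ((z - 1) / 2)) * (ι * ((z - 1) / 2)) = -(((z - 1) / 2) * ((z - 1) / 2)) := by
      calc (ι * ((z - 1) / 2)) * (ι * ((z - 1) / 2))
          = (ι * ι) * (((z - 1) / 2) * ((z - 1) / 2)) := by ring
        _ = -(((z - 1) / 2) * ((z - 1) / 2)) := by rw [hι]; ring
    have h4 : z = ((z + 1) / 2) * ((z + 1) / 2) + (ι * ((z - 1) / 2)) * (ι * ((z - 1) / 2)) := by
      rw [h3]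
      field_simp
      ring
    rw [h4]
    exact hadd _ _ ⟨_, rfl⟩ ⟨_, rfl⟩

end Cfsg.Agent.Helper19.InvFunc
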