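import Mathlib
import Cfsg.Prelude.Def_LieExceptional
import Cfsg.Agent.Lib.Helper5.PSL2Small
import Cfsg.Agent.Lib.Helper19.ZassCoord
import Cfsg.Agent.Lib.Helper19.InvFunc
import Cfsg.Agent.Lib.Helper19.MoebiusPSL

set_option autoImplicit false
set_option linter.unusedSectionVars false
set_option linter.style.haveILetI false
set_option linter.unusedVariables false

/-! Zassenhaus groups of degree `q + 1` with two-point stabiliser of even order `(q - 1) / 2` are
isomorphic to `PSL₂(q)`. -/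

namespace Cfsg.Agent.Helper19.ZassPSL

open MulAction Matrix OnePoint Cfsg.Agent.Helper19.Moebius Cfsg.Agent.Helper19.MoebiusPSL

variable {G Ω : Type*} [Group G] [MulAction G Ω] [Finite G] [Fintype Ω] {a b : Ω} {H : Subgroup G}

local notation "𝔇" => (MulAction.stabilizer G a ⊓ MulAction.stabilizer G b : Subgroup G)

lemma det_affMat {K : Type*} [Field K] [DecidableEq K] (m c : K) (hm : m ≠ 0) :
    ((affMat m c hm : GL (Fin 2) K) : Matrix (Fin 2) (Fin 2) K).det = m := by
  simp [affMat, Matrix.GeneralLinearGroup.mkOfDetNeZero, Matrix.det_fin_two]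

lemma det_invMat {K : Type*} [Field K] [DecidableEq K] :
    ((invMat : GL (Fin 2) K) : Matrix (Fin 2) (Fin 2) K).det = -1 := by
  simp [invMat, Matrix.GeneralLinearGroup.mkOfDetNeZero, Matrix.det_fin_two]

theorem nonempty_mulEquiv_psl (hZ : Cfsg.IsZassenhausGroup G Ω) (hab : a ≠ b)
    (hHa : H ≤ stabilizer G a) (hHcard : Nat.card H + 1 = Fintype.card Ω)
    (hHfix : ∀ u ∈ H, u ≠ 1 → ∀ c : Ω, u • c = c → c = a)
    (heven : Even (Nat.card ↥𝔇)) (heq : Fintype.card Ω - 2 = 2 * Nat.card ↥𝔇) :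
    ∃ (E : Type) (_ : Field E) (_ : Fintype E), Fintype.card E + 1 = Fintype.card Ω ∧
      Nonempty (G ≃* Matrix.ProjectiveSpecialLinearGroup (Fin 2) E) := by
  classical
  obtain ⟨E, iF, iT, τ, hτH, hτsurj, hτinj, hτadd, hM1, hM2, hcardE⟩ :=
    ZassCoord.exists_coordinates hZ hab hHa hHcard hHfix heven heq
  have h3fix := hZ.2.2.1
  haveI : FaithfulSMul G Ω := hZ.1
  have hn3 := Cfsg.Agent.S0878.card_ge_three hZ
  have hDpos : 0 < Nat.card ↥𝔇 := Nat.card_pos
  have hτ0 : τ 0 = 1 := by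
    have h1 := hτadd 0 0
    rw [add_zero] at h1
    exact (mul_eq_left.mp h1.symm)
  have hτa : ∀ x, τ x • a = a := fun x => hHa (hτH x)
  have hτb_inj : ∀ x y, τ x • b = τ y • b → x = y := by
    intro x y h
    have h1 : ((τ y)⁻¹ * τ x) • b = b := by rw [mul_smul, h, inv_smul_smul]
    have h2 := ZassH.H_inf_stab hHfix hab.symm (H.mul_mem (H.inv_mem (hτH y)) (hτH x)) h1
    apply hτinj
    have := congrArg (fun w => τ y * w) h2
    simpa using this
  have hτb_ne : ∀ x, τ x • b ≠ a := fun x h =>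
    hab.symm (smul_left_cancel (τ x) (h.trans (hτa x).symm))
  have hτb_surj : ∀ c, c ≠ a → ∃ x, τ x • b = c := by
    intro c hc
    obtain ⟨u, hu, huc⟩ := ZassH.exists_H_smul hHa hHcard hHfix hab.symm hc
    obtain ⟨x, rfl⟩ := hτsurj u hu
    exact ⟨x, huc⟩
  have hτ0b : τ 0 • b = b := by rw [hτ0, one_smul]
  have hτb0 : ∀ x, τ x • b = b → x = 0 := fun x h => hτb_inj x 0 (by rw [hτ0b]; exact h)
  have hτ_pt : ∀ c x, τ c • (τ x • b) = τ (c + x) • b := fun c x => by
    rw [← mul_smul, ← hτadd]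
  have hconj_pt : ∀ d ∈ 𝔇, ∀ m : E, (∀ x, d * τ x * d⁻¹ = τ (m * x)) →
      ∀ x, d • (τ x • b) = τ (m * x) • b := by
    intro d hd m hm x
    have hdb : d • b = b := (Subgroup.mem_inf.mp hd).2
    have hdb' : d⁻¹ • b = b := by rw [inv_smul_eq_iff, hdb]
    rw [← hm x, mul_smul, mul_smul, hdb']
  -- field facts
  have hcardE' : Fintype.card E = 2 * Nat.card ↥𝔇 + 1 := by omega
  have hchar : ringChar E ≠ 2 := by
    intro h
    have := FiniteField.even_card_of_char_two h
    omega
  have h2 : (2 : E) ≠ 0 := Ring.two_ne_zero hchar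
  have hsqneg : IsSquare (-1 : E) := by
    rw [FiniteField.isSquare_neg_one_iff]
    obtain ⟨k, hk⟩ := heven
    omega
  obtain ⟨ι, hι⟩ := hsqneg
  -- an element swapping `a` and `b`
  obtain ⟨s, hsa, hsb⟩ := ZassH.two_trans' hZ.2.1 hab hab.symm
  have hs2 : s * s = 1 := ZassEven.swap_mul_self hZ hab heven heq hsa hsb
  have hsinv : s⁻¹ = s := inv_eq_of_mul_eq_one_right hs2
  have hss : ∀ c : Ω, s • (s • c) = c := fun c => by rw [← mul_smul, hs2, one_smul]
  have hsD := ZassEven.swap_inverts hZ hab heven heq hsa hsb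
  have hex : ∀ x : E, ∃ y : E, x ≠ 0 → s • (τ x • b) = τ y • b := by
    intro x
    by_cases hx : x = 0
    · exact ⟨0, fun h => absurd hx h⟩
    · have hne : s • (τ x • b) ≠ a := by
        intro h
        rw [← hsb] at h
        exact hx (hτb0 x (smul_left_cancel s h))
      obtain ⟨y, hy⟩ := hτb_surj _ hne
      exact ⟨y, fun _ => hy.symm⟩
  choose φ hφ using hex
  have h0 : ∀ x, x ≠ 0 → φ x ≠ 0 := by
    intro x hx h
    have h1 := hφ x hx
    rw [h, hτ0b] at h1
    have h2' : τ x • b = a := by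
      have := congrArg (fun c => s • c) h1
      simp only [hss] at this
      rw [this, hsb]
    exact hτb_ne x h2'
  have hinv : ∀ x, x ≠ 0 → φ (φ x) = x := by
    intro x hx
    have h1 := hφ x hx
    have h2' := hφ (φ x) (h0 x hx)
    rw [← h1, hss] at h2'
    exact (hτb_inj _ _ h2').symm
  have hmul : ∀ m x : E, m ≠ 0 → IsSquare m → x ≠ 0 → φ (m * x) = m⁻¹ * φ x := by
    intro m x hm hsq hx
    obtain ⟨d, hd, hdm⟩ := hM2 m hm hsq
    have hdinv : ∀ y, d⁻¹ * τ y * d = τ (m⁻¹ * y) := by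
      intro y
      have := hdm (m⁻¹ * y)
      rw [mul_inv_cancel_left₀ hm] at this
      rw [← this]
      group
    have hdb : d • b = b := (Subgroup.mem_inf.mp hd).2
    have hsd : s * d = d⁻¹ * s := by
      have := hsD d hd
      calc s * d = (s * d * s⁻¹) * s := by group
        _ = d⁻¹ * s := by rw [this]
    apply hτb_inj
    rw [← hφ (m * x) (mul_ne_zero hm hx), ← hconj_pt d hd m hdm x, ← mul_smul, hsd, mul_smul,
      hφ x hx, ← hdinv (φ x), mul_smul, mul_smul, hdb]
  have hrel : ∀ c : E, c ≠ 0 → ∃ m c2 : E, m ≠ 0 ∧ IsSquare m ∧ c2 ≠ 0 ∧ φ c + φ c2 = 0 ∧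
      ∀ x : E, x ≠ 0 → (c + φ x = 0 → c2 + m * x = 0) ∧
        (c + φ x ≠ 0 → c2 + m * x ≠ 0 ∧ φ (c + φ x) = φ c + φ (c2 + m * x)) := by
    intro c hc
    obtain ⟨h, hh⟩ : ∃ h : G, h = (τ (φ c) * s)⁻¹ * (s * τ c * s) := ⟨_, rfl⟩
    have hha : h • a = a := by
      rw [hh, mul_smul, mul_smul, mul_smul, hsa, hφ c hc, inv_smul_eq_iff, mul_smul, hsa]
    obtain ⟨u, hu, d, hd, hud⟩ :=
      ZassH.stab_decomp hHa hHcard hHfix hab.symm (mem_stabilizer_iff.mpr hha)
    obtain ⟨c2, rfl⟩ := hτsurj u hu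
    obtain ⟨m, hm0, hmsq, hdm⟩ := hM1 d hd
    have hrelG : s * τ c * s = τ (φ c) * s * (τ c2 * d) := by
      rw [← hud, hh]
      group
    have hact : ∀ x : E,
        s • (τ c • (s • (τ x • b))) = τ (φ c) • (s • (τ (c2 + m * x) • b)) := by
      intro x
      have := congrArg (fun g => g • (τ x • b)) hrelG
      simp only [mul_smul] at this
      rw [this, hconj_pt d hd m hdm x, hτ_pt]
    have hc20 : c2 ≠ 0 := by
      intro hc2
      have h1 := hact 0
      rw [hτ0b, hsb, hτa, hsa, mul_zero, add_zero, hc2, hτ0b, hsb, hτa] at h1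
      exact hab h1.symm
    refine ⟨m, c2, hm0, hmsq, hc20, ?_, ?_⟩
    · have h1 := hact 0
      rw [hτ0b, hsb, hτa, hsa, mul_zero, add_zero, hφ c2 hc20, hτ_pt] at h1
      exact hτb0 _ h1.symm
    · intro x hx
      have h1 := hact x
      rw [hφ x hx, hτ_pt] at h1
      constructor
      · intro hcx
        rw [hcx, hτ0b, hsb] at h1
        -- `a = τ (φ c) • s • τ (c2 + m x) • b`
        by_contra hne
        rw [hφ _ hne, hτ_pt] at h1
        exact hτb_ne _ h1.symm
      · intro hcx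
        rw [hφ _ hcx] at h1
        have hne : c2 + m * x ≠ 0 := by
          intro h0'
          rw [h0', hτ0b, hsb, hτa] at h1
          exact hτb_ne _ h1
        refine ⟨hne, ?_⟩
        rw [hφ _ hne, hτ_pt] at h1
        exact hτb_inj _ _ h1
  obtain ⟨α, hα0, hαsq, hαφ⟩ := InvFunc.inversion_formula h2 hι.symm φ h0 hinv hmul hrel
  -- the identification of `Ω` with the projective line
  let ptf : OnePoint E → Ω := fun z => z.elim a (fun x => τ x • b)
  have hptf_inf : ptf ∞ = a := rfl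
  have hptf_coe : ∀ x : E, ptf (x : OnePoint E) = τ x • b := fun x => rfl
  have hbij : Function.Bijective ptf := by
    constructor
    · intro z w hzw
      induction z using OnePoint.rec with
      | infty =>
        induction w using OnePoint.rec with
        | infty => rfl
        | coe y =>
          rw [hptf_inf, hptf_coe] at hzw
          exact absurd hzw.symm (hτb_ne y)
      | coe x =>
        induction w using OnePoint.rec with
        | infty =>
          rw [hptf_inf, hptf_coe] at hzw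
          exact absurd hzw (hτb_ne x)
        | coe y =>
          rw [hptf_coe, hptf_coe] at hzw
          rw [hτb_inj x y hzw]
    · intro c
      by_cases hc : c = a
      · exact ⟨∞, by rw [hptf_inf, hc]⟩
      · obtain ⟨x, hx⟩ := hτb_surj c hc
        exact ⟨(x : OnePoint E), by rw [hptf_coe, hx]⟩
  let ψ : Ω ≃ OnePoint E := (Equiv.ofBijective ptf hbij).symm
  have hψsymm : ∀ z, ψ.symm z = ptf z := fun z => rfl
  have hrep : ∀ (g : G) (M : GL (Fin 2) E), (∀ z, g • ptf z = ptf (M • z)) →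
      MulAction.toPermHom G Ω g = glHom ψ M := by
    intro g M hgM
    ext c
    rw [glHom_apply, hψsymm, ← hgM, ← hψsymm, Equiv.symm_apply_apply]
    rfl
  -- the generators act through `PSL₂`
  have hP_H : ∀ u ∈ H, MulAction.toPermHom G Ω u ∈ (pslHom ψ).range := by
    intro u hu
    obtain ⟨c, rfl⟩ := hτsurj u hu
    rw [hrep (τ c) (affMat 1 c one_ne_zero) (by
      intro z
      induction z using OnePoint.rec with
      | infty => rw [affMat_smul_infty, hptf_inf, hτa]
      | coe x => rw [affMat_smul_coe, hptf_coe, hptf_coe, hτ_pt, one_mul])]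
    apply glHom_mem_range
    rw [det_affMat]
    exact ⟨1, (mul_one 1).symm⟩
  have hP_D : ∀ d ∈ 𝔇, MulAction.toPermHom G Ω d ∈ (pslHom ψ).range := by
    intro d hd
    obtain ⟨m, hm0, hmsq, hdm⟩ := hM1 d hd
    rw [hrep d (affMat m 0 hm0) (by
      intro z
      induction z using OnePoint.rec with
      | infty => rw [affMat_smul_infty, hptf_inf]; exact (Subgroup.mem_inf.mp hd).1
      | coe x => rw [affMat_smul_coe, hptf_coe, hptf_coe, hconj_pt d hd m hdm, zero_add])]
    apply glHom_mem_range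
    rw [det_affMat]
    exact hmsq
  have hP_Ga : ∀ g ∈ stabilizer G a, MulAction.toPermHom G Ω g ∈ (pslHom ψ).range := by
    intro g hg
    obtain ⟨u, hu, d, hd, rfl⟩ := ZassH.stab_decomp hHa hHcard hHfix hab.symm hg
    rw [map_mul]
    exact Subgroup.mul_mem _ (hP_H u hu) (hP_D d hd)
  have hP_s : MulAction.toPermHom G Ω s ∈ (pslHom ψ).range := by
    rw [hrep s (affMat α 0 hα0 * invMat) (by
      intro z
      rw [mul_smul]
      induction z using OnePoint.rec with
      | infty =>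
        rw [invMat_smul_infty, affMat_smul_coe, hptf_inf, hptf_coe, hsa, mul_zero, add_zero, hτ0b]
      | coe x =>
        by_cases hx : x = 0
        · rw [hx, invMat_smul_zero, affMat_smul_infty, hptf_inf, hptf_coe, hτ0b, hsb]
        · rw [invMat_smul_coe hx, affMat_smul_coe, hptf_coe, hptf_coe, hφ x hx, hαφ x hx, zero_add,
            div_eq_mul_inv])]
    apply glHom_mem_range
    rw [Matrix.GeneralLinearGroup.coe_mul, Matrix.det_mul, det_affMat, det_invMat, mul_neg, mul_one]
    exact hαsq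
  have hsub : ∀ g : G, MulAction.toPermHom G Ω g ∈ (pslHom ψ).range := by
    intro g
    by_cases hg : g • a = a
    · exact hP_Ga g (mem_stabilizer_iff.mpr hg)
    · obtain ⟨x, hx⟩ := hτb_surj _ hg
      have hg' : (τ x * s)⁻¹ * g ∈ stabilizer G a := by
        rw [mem_stabilizer_iff, mul_smul, inv_smul_eq_iff, mul_smul, hsa, hx]
      have hgeq : g = τ x * s * ((τ x * s)⁻¹ * g) := by group
      rw [hgeq, map_mul, map_mul]
      exact Subgroup.mul_mem _ (Subgroup.mul_mem _ (hP_H _ (hτH x)) hP_s) (hP_Ga _ hg')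
  -- orders
  have hcardG := ZassD.card_G hZ hHa hHcard hHfix hab
  have hcardP := Cfsg.Agent.Helper5.card_PSL2_mul (F := E) (q := 2 * Nat.card ↥𝔇 + 1) hcardE'
  obtain ⟨e, he⟩ : ∃ e : ℕ, e = Nat.card ↥𝔇 := ⟨_, rfl⟩
  rw [← he] at hcardG hcardP hDpos
  have hHe : Nat.card ↥H = 2 * e + 1 := by omega
  rw [hHe] at hcardG
  have hq1 : (2 * e + 1) ^ 2 - 1 = 4 * e * (e + 1) := by
    have : (2 * e + 1) ^ 2 = 4 * e * (e + 1) + 1 := by ring
    omega
  have hq2 : (2 * e + 1) ^ 2 - (2 * e + 1) = 2 * e * (2 * e + 1) := by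
    have : (2 * e + 1) ^ 2 = 2 * e * (2 * e + 1) + (2 * e + 1) := by ring
    omega
  have hq3 : 2 * e + 1 - 1 = 2 * e := by omega
  have hgcd : Nat.gcd 2 (2 * e) = 2 := Nat.gcd_eq_left (Dvd.intro e rfl)
  rw [hq1, hq2, hq3, hgcd] at hcardP
  have hcard : Nat.card G = Nat.card (Matrix.ProjectiveSpecialLinearGroup (Fin 2) E) := by
    have h4e : 0 < 2 * (2 * e) := by omega
    apply Nat.eq_of_mul_eq_mul_right h4e
    rw [hcardG]
    have : Nat.card (Matrix.ProjectiveSpecialLinearGroup (Fin 2) E) * (2 * (2 * e)) =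
        Nat.card (Matrix.ProjectiveSpecialLinearGroup (Fin 2) E) * 2 * (2 * e) := by ring
    rw [this, hcardP]
    ring
  exact ⟨E, iF, iT, hcardE, MoebiusPSL.nonempty_mulEquiv_psl ψ hsub hcard⟩

end Cfsg.Agent.Helper19.ZassPSL
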