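import Mathlib

set_option autoImplicit false

/-! Sharply 3-transitive permutation groups: elementary tools. -/

namespace Cfsg.Agent.Helper19.Sharp3

open MulAction

variable {α : Type*}

/-- The embedding `Fin 3 ↪ α` given by three distinct points. -/
def emb3 (p q r : α) (hpq : p ≠ q) (hpr : p ≠ r) (hqr : q ≠ r) : Fin 3 ↪ α :=
  ⟨![p, q, r], by
    intro i j hij
    fin_cases i <;> fin_cases j <;> simp_all⟩

@[simp] lemma emb3_zero (p q r : α) (hpq : p ≠ q) (hpr : p ≠ r) (hqr : q ≠ r) :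
    emb3 p q r hpq hpr hqr 0 = p := rfl
@[simp] lemma emb3_one (p q r : α) (hpq : p ≠ q) (hpr : p ≠ r) (hqr : q ≠ r) :
    emb3 p q r hpq hpr hqr 1 = q := rfl
@[simp] lemma emb3_two (p q r : α) (hpq : p ≠ q) (hpr : p ≠ r) (hqr : q ≠ r) :
    emb3 p q r hpq hpr hqr 2 = r := rfl

variable (G : Subgroup (Equiv.Perm α))

/-- In a sharply 3-transitive group, an element fixing three distinct points is trivial. -/
lemma eq_one_of_fix3 (hsharp : ∀ x : Fin 3 ↪ α, MulAction.stabilizer G x = ⊥)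
    {g : G} {p q r : α} (hpq : p ≠ q) (hpr : p ≠ r) (hqr : q ≠ r)
    (hp : g • p = p) (hq : g • q = q) (hr : g • r = r) : g = 1 := by
  have hmem : g ∈ MulAction.stabilizer G (emb3 p q r hpq hpr hqr) := by
    rw [MulAction.mem_stabilizer_iff]
    ext i
    change g • (emb3 p q r hpq hpr hqr i) = _
    fin_cases i
    · exact hp
    · exact hq
    · exact hr
  rw [hsharp] at hmem
  exact Subgroup.mem_bot.mp hmem

/-- Two elements agreeing on three distinct points are equal. -/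
lemma eq_of_agree3 (hsharp : ∀ x : Fin 3 ↪ α, MulAction.stabilizer G x = ⊥)
    {g h : G} {p q r : α} (hpq : p ≠ q) (hpr : p ≠ r) (hqr : q ≠ r)
    (hp : g • p = h • p) (hq : g • q = h • q) (hr : g • r = h • r) : g = h := by
  have : h⁻¹ * g = 1 := by
    apply eq_one_of_fix3 G hsharp hpq hpr hqr
    · rw [mul_smul, hp, inv_smul_smul]
    · rw [mul_smul, hq, inv_smul_smul]
    · rw [mul_smul, hr, inv_smul_smul]
  calc g = h * (h⁻¹ * g) := by group
    _ = h := by rw [this, mul_one]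

/-- 3-transitivity on points. -/
lemma exists_map3 (h3 : MulAction.IsMultiplyPretransitive G α 3)
    {p q r p' q' r' : α} (hpq : p ≠ q) (hpr : p ≠ r) (hqr : q ≠ r)
    (hpq' : p' ≠ q') (hpr' : p' ≠ r') (hqr' : q' ≠ r') :
    ∃ g : G, g • p = p' ∧ g • q = q' ∧ g • r = r' := by
  obtain ⟨g, hg⟩ := h3.exists_smul_eq (emb3 p q r hpq hpr hqr) (emb3 p' q' r' hpq' hpr' hqr')
  refine ⟨g, ?_, ?_, ?_⟩
  · have := congrArg (fun e : Fin 3 ↪ α => e 0) hg
    simpa using this
  · have := congrArg (fun e : Fin 3 ↪ α => e 1) hg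
    simpa using this
  · have := congrArg (fun e : Fin 3 ↪ α => e 2) hg
    simpa using this

/-- An element of order dividing 3 moving `c` gives three distinct points `c, g c, g² c`. -/
lemma distinct3 {g : G} (hg3 : g ^ 3 = 1) {c : α} (hgc : g • c ≠ c) :
    c ≠ g • c ∧ c ≠ g • g • c ∧ g • c ≠ g • g • c := by
  have h3c : g • g • g • c = c := by
    have : (g ^ 3) • c = c := by rw [hg3, one_smul]
    rwa [pow_succ, pow_succ, pow_one, mul_smul, mul_smul] at this
  refine ⟨fun h => hgc h.symm, ?_, ?_⟩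
  · intro h
    apply hgc
    have := congrArg (fun z => g • z) h
    simp only [h3c] at this
    exact this
  · intro h
    apply hgc
    have h1 : g⁻¹ • (g • c) = g⁻¹ • (g • g • c) := congrArg (fun z => g⁻¹ • z) h
    rw [inv_smul_smul, inv_smul_smul] at h1
    exact h1.symm

lemma conj_fix {w x z : G} (h : w * x * w⁻¹ = z) {p : α} (hp : z • p = p) :
    x • (w⁻¹ • p) = w⁻¹ • p := by
  have : x = w⁻¹ * z * w := by rw [← h]; group
  rw [this, mul_smul, mul_smul, smul_inv_smul, hp]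

/-- Key lemma: in a sharply 3-transitive group, two nontrivial elements of order 3 with the same
two fixed points `a, b` are equal or inverse to each other. -/
lemma eq_or_eq_inv (h3 : MulAction.IsMultiplyPretransitive G α 3)
    (hsharp : ∀ x : Fin 3 ↪ α, MulAction.stabilizer G x = ⊥)
    {a b c : α} (hab : a ≠ b) (hac : a ≠ c) (hbc : b ≠ c) {x y : G}
    (hx3 : x ^ 3 = 1) (hy3 : y ^ 3 = 1) (hxa : x • a = a) (hxb : x • b = b)
    (hya : y • a = a) (hyb : y • b = b) (hx1 : x ≠ 1) (hy1 : y ≠ 1) :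
    y = x ∨ y = x⁻¹ := by
  have hxc : x • c ≠ c := fun h => hx1 (eq_one_of_fix3 G hsharp hab hac hbc hxa hxb h)
  have hyc : y • c ≠ c := fun h => hy1 (eq_one_of_fix3 G hsharp hab hac hbc hya hyb h)
  obtain ⟨dx1, dx2, dx3⟩ := distinct3 G hx3 hxc
  obtain ⟨dy1, dy2, dy3⟩ := distinct3 G hy3 hyc
  have hx3c : x • x • x • c = c := by
    have : (x ^ 3) • c = c := by rw [hx3, one_smul]
    rwa [pow_succ, pow_succ, pow_one, mul_smul, mul_smul] at this
  have hy3c : y • y • y • c = c := by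
    have : (y ^ 3) • c = c := by rw [hy3, one_smul]
    rwa [pow_succ, pow_succ, pow_one, mul_smul, mul_smul] at this
  -- fixed points of x are a, b only
  have hfix : ∀ p : α, x • p = p → p = a ∨ p = b := by
    intro p hp
    by_contra hcon
    rw [not_or] at hcon
    exact hx1 (eq_one_of_fix3 G hsharp hab (Ne.symm hcon.1) (Ne.symm hcon.2) hxa hxb hp)
  obtain ⟨γ, hγ0, hγ1, hγ2⟩ := exists_map3 G h3 dx1 dx2 dx3 dy1 dy2 dy3
  have hγi0 : γ⁻¹ • c = c := by rw [inv_smul_eq_iff, hγ0]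
  have hγi1 : γ⁻¹ • (y • c) = x • c := by rw [inv_smul_eq_iff, hγ1]
  have hγi2 : γ⁻¹ • (y • y • c) = x • x • c := by rw [inv_smul_eq_iff, hγ2]
  have hconj : γ * x * γ⁻¹ = y := by
    apply eq_of_agree3 G hsharp dy1 dy2 dy3
    · rw [mul_smul, mul_smul, hγi0, hγ1]
    · rw [mul_smul, mul_smul, hγi1, hγ2]
    · rw [mul_smul, mul_smul, hγi2, hx3c, hγ0, hy3c]
  obtain ⟨u, hu0, hu1, hu2⟩ := exists_map3 G h3 dx1 dx2 dx3 dx2 dx1 (Ne.symm dx3)
  have hui0 : u⁻¹ • c = c := by rw [inv_smul_eq_iff, hu0]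
  have hui1 : u⁻¹ • (x • x • c) = x • c := by rw [inv_smul_eq_iff, hu1]
  have hui2 : u⁻¹ • (x • c) = x • x • c := by rw [inv_smul_eq_iff, hu2]
  have hxi0 : x⁻¹ • c = x • x • c := by rw [inv_smul_eq_iff, hx3c]
  have hxi1 : x⁻¹ • (x • c) = c := inv_smul_smul _ _
  have hxi2 : x⁻¹ • (x • x • c) = x • c := inv_smul_smul _ _
  have hu : u * x * u⁻¹ = x⁻¹ := by
    apply eq_of_agree3 G hsharp dx1 dx2 dx3
    · rw [mul_smul, mul_smul, hui0, hu1, hxi0]
    · rw [mul_smul, mul_smul, hui2, hx3c, hu0, hxi1]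
    · rw [mul_smul, mul_smul, hui1, hu2, hxi2]
  -- γ⁻¹ and u⁻¹ permute {a, b}
  have hγa := conj_fix G hconj hya
  have hγb := conj_fix G hconj hyb
  have hxia : x⁻¹ • a = a := by rw [inv_smul_eq_iff, hxa]
  have hxib : x⁻¹ • b = b := by rw [inv_smul_eq_iff, hxb]
  have hua := conj_fix G hu hxia
  have hub := conj_fix G hu hxib
  have hne : ∀ w : G, w⁻¹ • a ≠ w⁻¹ • b := fun w h => hab (MulAction.injective w⁻¹ h)
  have hone : ∀ w : G, w⁻¹ • c = c → w⁻¹ • a = a → w⁻¹ • b = b → w = 1 := by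
    intro w h0 h1 h2
    have := eq_one_of_fix3 G hsharp hab hac hbc h1 h2 h0
    exact inv_eq_one.mp this
  rcases hfix _ hγa with ha' | ha' <;> rcases hfix _ hγb with hb' | hb'
  · exact absurd (ha'.trans hb'.symm) (hne γ)
  · left
    have h1 := hone γ hγi0 ha' hb'
    rw [← hconj, h1]; group
  · right
    rcases hfix _ hua with hua' | hua' <;> rcases hfix _ hub with hub' | hub'
    · exact absurd (hua'.trans hub'.symm) (hne u)
    · exfalso
      have h1 := hone u hui0 hua' hub'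
      rw [h1, one_smul] at hu1
      exact dx3 hu1
    · have hγu : γ⁻¹ = u⁻¹ := by
        apply eq_of_agree3 G hsharp hab hac hbc
        · rw [ha', hua']
        · rw [hb', hub']
        · rw [hγi0, hui0]
      have : γ = u := inv_injective hγu
      rw [← hconj, this, hu]
    · exact absurd (hua'.trans hub'.symm) (hne u)
  · exact absurd (ha'.trans hb'.symm) (hne γ)

end Cfsg.Agent.Helper19.Sharp3
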