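import Mathlib
import Cfsg.Agent.S0729
import Cfsg.Agent.Lib.Helper19.Sharp3

set_option autoImplicit false
set_option linter.unusedSectionVars false
set_option linter.style.haveILetI false

/-! A sharply 3-transitive group of even degree at least 6 is not simple: the transfer into the
quotient of order 2 of the setwise stabiliser of two points is non-trivial. -/

namespace Cfsg.Agent.Helper19.Sharp3Transfer

open MulAction Cfsg.Agent.Helper19.Sharp3

universe u

variable {α : Type u} [Fintype α] [DecidableEq α]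

theorem not_isSimpleGroup (heven : Even (Fintype.card α)) (h6 : 6 ≤ Fintype.card α)
    (G : Subgroup (Equiv.Perm α)) (h3 : MulAction.IsMultiplyPretransitive G α 3)
    (hsharp : ∀ x : Fin 3 ↪ α, MulAction.stabilizer G x = ⊥) : ¬ IsSimpleGroup G := by
  classical
  intro hsimple
  obtain ⟨a, b, c, hab, hac, hbc⟩ : ∃ a b c : α, a ≠ b ∧ a ≠ c ∧ b ≠ c :=
    Fintype.two_lt_card_iff.mp (by omega)
  obtain ⟨s, hsa, hsb, hsc⟩ := exists_map3 G h3 hab hac hbc hab.symm hbc hac
  obtain ⟨H0, hH0le, hH0n, hH0idx, hH0s⟩ :=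
    Cfsg.Agent.S0729.result heven h6 G h3 hsharp hab hac hbc s hsa hsb hsc
  set H : Subgroup G := stabilizer G a ⊓ stabilizer G b with hH
  have hmemH : ∀ g : G, g ∈ H ↔ g • a = a ∧ g • b = b := by
    intro g
    simp only [hH, Subgroup.mem_inf, MulAction.mem_stabilizer_iff]
  have hss : s * s = 1 := by
    apply eq_one_of_fix3 G hsharp hab hac hbc
    · rw [mul_smul, hsa, hsb]
    · rw [mul_smul, hsb, hsa]
    · rw [mul_smul, hsc, hsc]
  have hsinv : s⁻¹ = s := inv_eq_of_mul_eq_one_right hss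
  -- index two calculus in `H`
  have hP : ∀ x ∈ H, ∀ y ∈ H, (x * y ∈ H0 ↔ (x ∈ H0 ↔ y ∈ H0)) := by
    intro x hx y hy
    have hidx : (H0.subgroupOf H).index = 2 := hH0idx
    have := Subgroup.mul_mem_iff_of_index_two hidx (a := ⟨x, hx⟩) (b := ⟨y, hy⟩)
    simpa [Subgroup.mem_subgroupOf] using this
  have hσH : ∀ x ∈ H, s * x * s⁻¹ ∈ H := by
    intro x hx
    rw [hmemH] at hx ⊢
    rw [hsinv]
    constructor
    · rw [mul_smul, mul_smul, hsa, hx.2, hsb]
    · rw [mul_smul, mul_smul, hsb, hx.1, hsa]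
  have hσ0 : ∀ x : G, (s * x * s⁻¹ ∈ H0 ↔ x ∈ H0) := by
    intro x
    constructor
    · intro h
      have := hH0s _ h
      have e : s * (s * x * s⁻¹) * s⁻¹ = x := by
        rw [hsinv]
        calc s * (s * x * s) * s = (s * s) * x * (s * s) := by group
          _ = x := by rw [hss, one_mul, mul_one]
      rwa [e] at this
    · exact hH0s x
  -- some element of `H` outside `H0`
  obtain ⟨d0, hd0H, hd0⟩ : ∃ d0 ∈ H, d0 ∉ H0 := by
    by_contra hcon
    push Not at hcon
    have hle : H ≤ H0 := hcon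
    have : H0.relIndex H = 1 := Subgroup.relIndex_eq_one.mpr hle
    omega
  -- the setwise stabiliser
  let N : Subgroup G :=
    { carrier := {g | (g • a = a ∧ g • b = b) ∨ (g • a = b ∧ g • b = a)}
      one_mem' := Or.inl ⟨one_smul _ _, one_smul _ _⟩
      mul_mem' := by
        rintro x y (⟨hx1, hx2⟩ | ⟨hx1, hx2⟩) (⟨hy1, hy2⟩ | ⟨hy1, hy2⟩)
        · left; constructor <;> simp only [mul_smul, hx1, hx2, hy1, hy2]
        · right; constructor <;> simp only [mul_smul, hx1, hx2, hy1, hy2]
        · right; constructor <;> simp only [mul_smul, hx1, hx2, hy1, hy2]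
        · left; constructor <;> simp only [mul_smul, hx1, hx2, hy1, hy2]
      inv_mem' := by
        rintro x (⟨hx1, hx2⟩ | ⟨hx1, hx2⟩)
        · left; exact ⟨by rw [inv_smul_eq_iff, hx1], by rw [inv_smul_eq_iff, hx2]⟩
        · right; exact ⟨by rw [inv_smul_eq_iff, hx2], by rw [inv_smul_eq_iff, hx1]⟩ }
  have hmemN : ∀ g : G, g ∈ N ↔ (g • a = a ∧ g • b = b) ∨ (g • a = b ∧ g • b = a) :=
    fun g => Iff.rfl
  have hHN : ∀ g ∈ H, g ∈ N := fun g hg => Or.inl ((hmemH g).mp hg)
  have hswapH : ∀ g : G, g • a = b → g • b = a → g * s ∈ H := by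
    intro g h1 h2
    rw [hmemH]
    constructor
    · rw [mul_smul, hsa, h2]
    · rw [mul_smul, hsb, h1]
  have hswap_not : ∀ g : G, g • a = b → g ∉ H := by
    intro g h1 hg
    rw [hmemH] at hg
    exact hab (hg.1.symm.trans h1)
  have hH0H : ∀ g ∈ H0, g ∈ H := fun g hg => hH0le hg
  -- the subgroup `M = H0 ∪ H0 s`
  let M : Subgroup G :=
    { carrier := {g | g ∈ H0 ∨ g * s ∈ H0}
      one_mem' := Or.inl H0.one_mem
      mul_mem' := by
        rintro x y (hx | hx) (hy | hy)
        · exact Or.inl (H0.mul_mem hx hy)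
        · right
          have : x * y * s = x * (y * s) := by group
          rw [this]
          exact H0.mul_mem hx hy
        · right
          have : x * y * s = (x * s) * (s * y * s⁻¹) := by
            rw [hsinv]
            calc x * y * s = x * (s * s) * y * s := by rw [hss, mul_one]
              _ = (x * s) * (s * y * s) := by group
          rw [this]
          exact H0.mul_mem hx ((hσ0 y).mpr hy)
        · left
          have : x * y = (x * s) * (s * (y * s) * s⁻¹) := by
            rw [hsinv]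
            calc x * y = x * (s * s) * y * (s * s) := by rw [hss, mul_one, mul_one]
              _ = (x * s) * (s * (y * s) * s) := by group
          rw [this]
          exact H0.mul_mem hx ((hσ0 _).mpr hy)
      inv_mem' := by
        rintro x (hx | hx)
        · exact Or.inl (H0.inv_mem hx)
        · right
          have : x⁻¹ * s = s * (x * s)⁻¹ * s⁻¹ := by
            rw [hsinv]
            calc x⁻¹ * s = (s * s) * x⁻¹ * s := by rw [hss, one_mul]
              _ = s * (x * s)⁻¹ * s := by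
                rw [mul_inv_rev, hsinv]; group
          rw [this]
          exact (hσ0 _).mpr (H0.inv_mem hx) }
  have hmemM : ∀ g : G, g ∈ M ↔ g ∈ H0 ∨ g * s ∈ H0 := fun g => Iff.rfl
  have hMN : M ≤ N := by
    intro g hg
    rcases hg with hg | hg
    · exact hHN g (hH0H g hg)
    · have h1 := (hmemH _).mp (hH0H _ hg)
      right
      constructor
      · have := h1.2
        rw [mul_smul, hsb] at this
        exact this
      · have := h1.1
        rw [mul_smul, hsa] at this
        exact this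
  -- membership in `M` for elements of `N`
  have hM_fix : ∀ g ∈ H, (g ∈ M ↔ g ∈ H0) := by
    intro g hg
    constructor
    · rintro (h | h)
      · exact h
      · exfalso
        have h1 := (hmemH _).mp (hH0H _ h)
        have h2 := (hmemH _).mp hg
        have := h1.1
        rw [mul_smul, hsa, h2.2] at this
        exact hab this.symm
    · exact fun h => Or.inl h
  have hM_swap : ∀ g : G, g • a = b → (g ∈ M ↔ g * s ∈ H0) := by
    intro g h1
    constructor
    · rintro (h | h)
      · exact absurd (hH0H _ h) (hswap_not g h1)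
      · exact h
    · exact fun h => Or.inr h
  let M' : Subgroup N := M.subgroupOf N
  have hd0N : d0 ∈ N := hHN d0 hd0H
  have hσd0 : s * d0 * s⁻¹ ∉ H0 := fun h => hd0 ((hσ0 d0).mp h)
  have hidxM : M'.index = 2 := by
    rw [Subgroup.index_eq_two_iff]
    refine ⟨⟨d0, hd0N⟩, ?_⟩
    rintro ⟨g, hg⟩
    have e1 : (⟨g, hg⟩ * ⟨d0, hd0N⟩ : N) ∈ M' ↔ g * d0 ∈ M := Subgroup.mem_subgroupOf
    have e2 : (⟨g, hg⟩ : N) ∈ M' ↔ g ∈ M := Subgroup.mem_subgroupOf
    rw [e1, e2]
    rcases hg with ⟨h1, h2⟩ | ⟨h1, h2⟩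
    · have hgH : g ∈ H := (hmemH g).mpr ⟨h1, h2⟩
      have hgdH : g * d0 ∈ H := H.mul_mem hgH hd0H
      rw [hM_fix _ hgdH, hM_fix _ hgH, hP g hgH d0 hd0H]
      by_cases hg0 : g ∈ H0
      · right
        exact ⟨hg0, fun h => hd0 (h.mp hg0)⟩
      · left
        exact ⟨⟨fun h => absurd h hg0, fun h => absurd h hd0⟩, hg0⟩
    · have hgs : g * s ∈ H := hswapH g h1 h2
      have h1' : (g * d0) • a = b := by
        rw [mul_smul, ((hmemH d0).mp hd0H).1, h1]
      rw [hM_swap _ h1', hM_swap _ h1]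
      have e3 : g * d0 * s = (g * s) * (s * d0 * s⁻¹) := by
        rw [hsinv]
        calc g * d0 * s = g * (s * s) * d0 * s := by rw [hss, mul_one]
          _ = (g * s) * (s * d0 * s) := by group
      rw [e3, hP _ hgs _ (hσH d0 hd0H)]
      by_cases hg0 : g * s ∈ H0
      · right
        exact ⟨hg0, fun h => hσd0 (h.mp hg0)⟩
      · left
        exact ⟨⟨fun h => absurd h hg0, fun h => absurd h hσd0⟩, hg0⟩
  haveI hM'n : M'.Normal := Subgroup.normal_of_index_eq_two hidxM
  haveI : Fact (Nat.Prime 2) := ⟨Nat.prime_two⟩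
  have hcardQ : Nat.card (N ⧸ M') = 2 := by
    rw [← Subgroup.index_eq_card]; exact hidxM
  haveI : IsCyclic (N ⧸ M') := isCyclic_of_prime_card hcardQ
  letI : CommGroup (N ⧸ M') := IsCyclic.commGroup
  let ϕ : N →* N ⧸ M' := QuotientGroup.mk' M'
  have hϕ1 : ∀ (y : G) (hy : y ∈ N), ϕ ⟨y, hy⟩ = 1 ↔ y ∈ M := by
    intro y hy
    change (QuotientGroup.mk' M') ⟨y, hy⟩ = 1 ↔ _
    rw [QuotientGroup.mk'_apply, QuotientGroup.eq_one_iff]
    exact Subgroup.mem_subgroupOf
  let τ : G →* N ⧸ M' := MonoidHom.transfer ϕ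
  -- the conjugates of powers of `d0` falling into `N` from outside lie in `M`
  have hK : ∀ (x : G) (k : ℕ) (hmem : x⁻¹ * d0 ^ k * x ∈ N), x ∉ N →
      ϕ ⟨x⁻¹ * d0 ^ k * x, hmem⟩ = 1 := by
    intro x k hmem hx
    rw [hϕ1]
    by_cases hk : d0 ^ k = 1
    · rw [hk, mul_one, inv_mul_cancel]
      exact M.one_mem
    set w : G := d0 ^ k with hw
    have hwH : w ∈ H := H.pow_mem hd0H k
    set y : G := x⁻¹ * w * x with hy
    have hy1 : y ≠ 1 := by
      intro h
      apply hk
      have : w = x * y * x⁻¹ := by rw [hy]; group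
      rw [this, h]; group
    have hwa := ((hmemH w).mp hwH).1
    have hwb := ((hmemH w).mp hwH).2
    have hyp : y • (x⁻¹ • a) = x⁻¹ • a := by
      rw [hy, mul_smul, mul_smul, smul_inv_smul, hwa]
    have hyq : y • (x⁻¹ • b) = x⁻¹ • b := by
      rw [hy, mul_smul, mul_smul, smul_inv_smul, hwb]
    have hpq : x⁻¹ • a ≠ x⁻¹ • b := fun h => hab (smul_left_cancel _ h)
    rcases hmem with ⟨h1, h2⟩ | ⟨h1, h2⟩
    · exfalso
      -- `y` fixes `a`, `b`, `x⁻¹ a`, `x⁻¹ b`
      have hpa : x⁻¹ • a = a ∨ x⁻¹ • a = b := by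
        by_contra hcon
        rw [not_or] at hcon
        exact hy1 (eq_one_of_fix3 G hsharp hab (Ne.symm hcon.1) (Ne.symm hcon.2) h1 h2 hyp)
      have hqa : x⁻¹ • b = a ∨ x⁻¹ • b = b := by
        by_contra hcon
        rw [not_or] at hcon
        exact hy1 (eq_one_of_fix3 G hsharp hab (Ne.symm hcon.1) (Ne.symm hcon.2) h1 h2 hyq)
      apply hx
      have hxi : x⁻¹ ∈ N := by
        rcases hpa with hpa | hpa
        · rcases hqa with hqa | hqa
          · exact absurd (hpa.trans hqa.symm) hpq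
          · exact Or.inl ⟨hpa, hqa⟩
        · rcases hqa with hqa | hqa
          · exact Or.inr ⟨hpa, hqa⟩
          · exact absurd (hpa.trans hqa.symm) hpq
      have := N.inv_mem hxi
      rwa [inv_inv] at this
    · -- `y` swaps `a`, `b` and fixes `p = x⁻¹ a`
      have hpa : x⁻¹ • a ≠ a := by
        intro h
        rw [h, h1] at hyp
        exact hab hyp.symm
      have hpb : x⁻¹ • a ≠ b := by
        intro h
        rw [h, h2] at hyp
        exact hab hyp
      obtain ⟨h, hha, hhb, hhc⟩ := exists_map3 G h3 hab hac hbc hab (Ne.symm hpa) (Ne.symm hpb)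
      have hhH : h ∈ H := (hmemH h).mpr ⟨hha, hhb⟩
      have hyeq : y = h * s * h⁻¹ := by
        apply eq_of_agree3 G hsharp hab (Ne.symm hpa) (Ne.symm hpb)
        · rw [h1, mul_smul, mul_smul, inv_smul_eq_iff.mpr hha.symm, hsa, hhb]
        · rw [h2, mul_smul, mul_smul, inv_smul_eq_iff.mpr hhb.symm, hsb, hha]
        · rw [hyp, mul_smul, mul_smul, inv_smul_eq_iff.mpr hhc.symm, hsc, hhc]
      rw [hM_swap _ h1]
      have e4 : y * s = h * (s * h⁻¹ * s⁻¹) := by
        rw [hyeq, hsinv]; group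
      rw [e4, hP h hhH _ (hσH _ (H.inv_mem hhH)), hσ0, H0.inv_mem_iff]
  have hK0 : ∀ (x : G) (k : ℕ) (hmem : x⁻¹ * d0 ^ k * x ∈ N), x ∈ N → k = 1 →
      ϕ ⟨x⁻¹ * d0 ^ k * x, hmem⟩ = ϕ ⟨d0, hd0N⟩ := by
    intro x k hmem hx hk
    subst hk
    have : (⟨x⁻¹ * d0 ^ 1 * x, hmem⟩ : N) = (⟨x, hx⟩ : N)⁻¹ * ⟨d0, hd0N⟩ * ⟨x, hx⟩ := by
      apply Subtype.ext
      simp
    rw [this, map_mul, map_mul, map_inv, mul_comm, mul_inv_cancel_left]
  have hτ : τ d0 = ϕ ⟨d0, hd0N⟩ := by
    haveI : Fintype (Quotient (orbitRel (Subgroup.zpowers d0) (G ⧸ N))) := Fintype.ofFinite _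
    change MonoidHom.transfer ϕ d0 = _
    rw [MonoidHom.transfer_eq_prod_quotient_orbitRel_zpowers_quot]
    set q0 : Quotient (orbitRel (Subgroup.zpowers d0) (G ⧸ N)) :=
      Quotient.mk'' ((1 : G) : G ⧸ N) with hq0
    have hfixbase : ∀ z ∈ Subgroup.zpowers d0, z • (((1 : G) : G ⧸ N)) = ((1 : G) : G ⧸ N) := by
      intro z hz
      have hzN : z ∈ N := by
        obtain ⟨i, rfl⟩ := Subgroup.mem_zpowers_iff.mp hz
        exact N.zpow_mem hd0N i
      rw [MulAction.Quotient.smul_mk, QuotientGroup.eq]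
      simpa using hzN
    have hout0 : q0.out = ((1 : G) : G ⧸ N) := by
      have h1 : (Quotient.mk'' q0.out : Quotient (orbitRel (Subgroup.zpowers d0) (G ⧸ N))) =
          Quotient.mk'' ((1 : G) : G ⧸ N) := by rw [Quotient.out_eq']
      have h2 := Quotient.exact' h1
      change q0.out ∈ MulAction.orbit (Subgroup.zpowers d0) ((1 : G) : G ⧸ N) at h2
      obtain ⟨z, hz⟩ := h2
      rw [← hz]
      exact hfixbase z z.2
    rw [Finset.prod_eq_single q0]
    · apply hK0
      · have h1 : ((q0.out.out : G) : G ⧸ N) = ((1 : G) : G ⧸ N) := by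
          rw [QuotientGroup.out_eq', hout0]
        rw [QuotientGroup.eq] at h1
        have := N.inv_mem h1
        simpa using this
      · rw [Function.minimalPeriod_eq_one_iff_isFixedPt, hout0]
        exact hfixbase d0 (Subgroup.mem_zpowers d0)
    · intro q _ hq
      apply hK
      intro hxN
      apply hq
      have h1 : ((q.out.out : G) : G ⧸ N) = ((1 : G) : G ⧸ N) := by
        rw [QuotientGroup.eq]
        simpa using hxN
      rw [QuotientGroup.out_eq'] at h1
      rw [hq0, ← h1, Quotient.out_eq']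
    · intro h; exact absurd (Finset.mem_univ _) h
  have hτne : τ d0 ≠ 1 := by
    rw [hτ]
    intro h
    rw [hϕ1] at h
    exact hd0 ((hM_fix d0 hd0H).mp h)
  -- simplicity
  rcases hsimple.eq_bot_or_eq_top_of_normal τ.ker inferInstance with hker | hker
  · have hinj : Function.Injective τ := (MonoidHom.ker_eq_bot_iff τ).mp hker
    have hle := Nat.card_le_card_of_injective τ hinj
    rw [hcardQ] at hle
    have hd01 : d0 ≠ 1 := fun h => hd0 (h ▸ H0.one_mem)
    have hs1 : s ≠ 1 := by
      intro h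
      rw [h, one_smul] at hsa
      exact hab hsa
    have hsd : s ≠ d0 := fun h => hswap_not s hsa (h ▸ hd0H)
    have h3' : 2 < Fintype.card G :=
      Fintype.two_lt_card_iff.mpr ⟨1, s, d0, Ne.symm hs1, Ne.symm hd01, hsd⟩
    rw [Nat.card_eq_fintype_card] at hle
    omega
  · apply hτne
    have : d0 ∈ τ.ker := by rw [hker]; exact Subgroup.mem_top _
    exact MonoidHom.mem_ker.mp this

end Cfsg.Agent.Helper19.Sharp3Transfer
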