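import Mathlib
import Cfsg.Prelude.Def_LieExceptional
import Cfsg.Agent.Lib.Helper19.ZassEven
import Cfsg.Agent.Lib.Helper19.Sharp3Transfer

set_option autoImplicit false
set_option linter.unusedSectionVars false
set_option linter.style.haveILetI false

/-! A Zassenhaus group of degree `n + 1` whose two-point stabiliser has even order `n - 1` is
sharply 3-transitive of even degree, hence not simple. -/

namespace Cfsg.Agent.Helper19.ZassSharp3

open MulAction

variable {G Ω : Type*} [Group G] [MulAction G Ω] [Finite G] [Fintype Ω] {a b : Ω}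

local notation "𝔇" => (MulAction.stabilizer G a ⊓ MulAction.stabilizer G b : Subgroup G)

theorem card_compl_pair [DecidableEq Ω] {b1 b2 : Ω} (h : b1 ≠ b2) :
    Nat.card {x : Ω // x ≠ b1 ∧ x ≠ b2} = Fintype.card Ω - 2 := by
  rw [Nat.card_eq_fintype_card, Fintype.card_subtype]
  have h0 : (Finset.univ.filter fun x : Ω => x ≠ b1 ∧ x ≠ b2) = (Finset.univ.erase b1).erase b2 := by
    ext x
    simp only [Finset.mem_filter, Finset.mem_erase, Finset.mem_univ, and_true, true_and]
    tauto
  have h1 : b2 ∈ Finset.univ.erase b1 := Finset.mem_erase.mpr ⟨Ne.symm h, Finset.mem_univ _⟩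
  rw [h0, Finset.card_erase_of_mem h1, Finset.card_erase_of_mem (Finset.mem_univ b1),
    Finset.card_univ]
  omega

/-- If `|D| = n - 1` the group is 3-transitive. -/
theorem exists_map3 (hZ : Cfsg.IsZassenhausGroup G Ω) (hab : a ≠ b)
    (heq1 : Fintype.card Ω - 2 = Nat.card ↥𝔇) {a1 a2 a3 b1 b2 b3 : Ω}
    (h12 : a1 ≠ a2) (h13 : a1 ≠ a3) (h23 : a2 ≠ a3)
    (k12 : b1 ≠ b2) (k13 : b1 ≠ b3) (k23 : b2 ≠ b3) :
    ∃ g : G, g • a1 = b1 ∧ g • a2 = b2 ∧ g • a3 = b3 := by
  classical
  obtain ⟨g1, hg1, hg2⟩ := ZassH.two_trans' hZ.2.1 h12 k12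
  have hcard := ZassH.card_stab_inf_eq hZ.2.1 hab k12
  obtain ⟨c, hc⟩ : ∃ c : Ω, c = g1 • a3 := ⟨_, rfl⟩
  have hc1 : c ≠ b1 := by
    intro h
    rw [hc, ← hg1] at h
    exact h13 (smul_left_cancel g1 h).symm
  have hc2 : c ≠ b2 := by
    intro h
    rw [hc, ← hg2] at h
    exact h23 (smul_left_cancel g1 h).symm
  let f : ↥(stabilizer G b1 ⊓ stabilizer G b2) → {x : Ω // x ≠ b1 ∧ x ≠ b2} := fun d =>
    ⟨(d : G) • c, by
      have hd1 : (d : G) • b1 = b1 := (Subgroup.mem_inf.mp d.2).1
      have hd2 : (d : G) • b2 = b2 := (Subgroup.mem_inf.mp d.2).2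
      constructor
      · intro h
        exact hc1 (smul_left_cancel (d : G) (h.trans hd1.symm))
      · intro h
        exact hc2 (smul_left_cancel (d : G) (h.trans hd2.symm))⟩
  have hinj : Function.Injective f := by
    intro d d' hdd
    have h1 : (d : G) • c = (d' : G) • c := congrArg Subtype.val hdd
    have hd1 : (d : G) • b1 = b1 := (Subgroup.mem_inf.mp d.2).1
    have hd2 : (d : G) • b2 = b2 := (Subgroup.mem_inf.mp d.2).2
    have hd1' : (d' : G) • b1 = b1 := (Subgroup.mem_inf.mp d'.2).1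
    have hd2' : (d' : G) • b2 = b2 := (Subgroup.mem_inf.mp d'.2).2
    have h2 : (d' : G)⁻¹ * (d : G) = 1 := by
      apply hZ.2.2.1 _ b1 b2 c k12 (Ne.symm hc2) (Ne.symm hc1)
      · rw [mul_smul, hd1, inv_smul_eq_iff, hd1']
      · rw [mul_smul, hd2, inv_smul_eq_iff, hd2']
      · rw [mul_smul, h1, inv_smul_smul]
    apply Subtype.ext
    have := congrArg (fun y => (d' : G) * y) h2
    simpa using this
  have hbij : Function.Bijective f := by
    rw [Nat.bijective_iff_injective_and_card]
    refine ⟨hinj, ?_⟩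
    rw [card_compl_pair k12, hcard, heq1]
  obtain ⟨d, hd⟩ := hbij.2 ⟨b3, Ne.symm k13, Ne.symm k23⟩
  have hd3 : (d : G) • c = b3 := congrArg Subtype.val hd
  have hd1 : (d : G) • b1 = b1 := (Subgroup.mem_inf.mp d.2).1
  have hd2 : (d : G) • b2 = b2 := (Subgroup.mem_inf.mp d.2).2
  refine ⟨(d : G) * g1, ?_, ?_, ?_⟩
  · rw [mul_smul, hg1, hd1]
  · rw [mul_smul, hg2, hd2]
  · rw [mul_smul, ← hc, hd3]

/-- A Zassenhaus group with `|D| = n - 1` even is not simple. -/
theorem not_isSimpleGroup (hZ : Cfsg.IsZassenhausGroup G Ω) (hab : a ≠ b)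
    (heven : Even (Nat.card ↥𝔇)) (heq1 : Fintype.card Ω - 2 = Nat.card ↥𝔇) :
    ¬ IsSimpleGroup G := by
  classical
  intro hsimple
  have h3fix := hZ.2.2.1
  haveI : FaithfulSMul G Ω := hZ.1
  haveI := Fintype.ofFinite G
  have hn3 := Cfsg.Agent.S0878.card_ge_three hZ
  have hcard_even : Even (Fintype.card Ω) := by
    rw [← heq1] at heven
    obtain ⟨k, hk⟩ := heven
    exact ⟨k + 1, by omega⟩
  have hDpos : 0 < Nat.card ↥𝔇 := Nat.card_pos
  have hD2 : 2 ≤ Nat.card ↥𝔇 := by
    obtain ⟨k, hk⟩ := heven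
    omega
  have h4 : 4 ≤ Fintype.card Ω := by omega
  let φ : G →* Equiv.Perm Ω := MulAction.toPermHom G Ω
  have hφ : Function.Injective φ := MulAction.toPerm_injective
  by_cases h6 : 6 ≤ Fintype.card Ω
  · let G' : Subgroup (Equiv.Perm Ω) := φ.range
    let e : G ≃* G' := MonoidHom.ofInjective hφ
    have hsimple' : IsSimpleGroup G' := e.isSimpleGroup_congr.mp hsimple
    have hact : ∀ (g : G) (x : Ω), (e g : G') • x = g • x := fun g x => rfl
    have h3 : IsMultiplyPretransitive G' Ω 3 := by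
      refine ⟨fun x y => ?_⟩
      have hx : ∀ i j : Fin 3, i ≠ j → x i ≠ x j := fun i j hij h => hij (x.injective h)
      have hy : ∀ i j : Fin 3, i ≠ j → y i ≠ y j := fun i j hij h => hij (y.injective h)
      obtain ⟨g, h0, h1, h2⟩ := exists_map3 hZ hab heq1
        (hx 0 1 (by decide)) (hx 0 2 (by decide)) (hx 1 2 (by decide))
        (hy 0 1 (by decide)) (hy 0 2 (by decide)) (hy 1 2 (by decide))
      refine ⟨e g, ?_⟩
      ext i
      change (e g : G') • x i = y i
      rw [hact]
      fin_cases i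
      · exact h0
      · exact h1
      · exact h2
    have hsharp : ∀ x : Fin 3 ↪ Ω, stabilizer G' x = ⊥ := by
      intro x
      rw [Subgroup.eq_bot_iff_forall]
      intro g hg
      obtain ⟨g0, rfl⟩ := e.surjective g
      have hx : ∀ i j : Fin 3, i ≠ j → x i ≠ x j := fun i j hij h => hij (x.injective h)
      have hfix : ∀ i, g0 • x i = x i := fun i => by
        have := congrArg (fun y : Fin 3 ↪ Ω => y i) (mem_stabilizer_iff.mp hg)
        exact this
      have : g0 = 1 := h3fix g0 (x 0) (x 1) (x 2) (hx 0 1 (by decide)) (hx 1 2 (by decide))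
        (hx 0 2 (by decide)) (hfix 0) (hfix 1) (hfix 2)
      rw [this, map_one]
    exact Sharp3Transfer.not_isSimpleGroup hcard_even h6 G' h3 hsharp hsimple'
  · have hcard4 : Fintype.card Ω = 4 := by
      obtain ⟨k, hk⟩ := hcard_even
      omega
    obtain ⟨z', hz'⟩ := exists_prime_orderOf_dvd_card' (G := ↥𝔇) 2 heven.two_dvd
    obtain ⟨z, hzdef⟩ : ∃ z : G, z = (z' : G) := ⟨_, rfl⟩
    have hzo : orderOf z = 2 := by rw [hzdef, Subgroup.orderOf_coe, hz']
    have hz2 : z * z = 1 := by rw [← pow_two, ← hzo, pow_orderOf_eq_one]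
    have hz1 : z ≠ 1 := by
      intro h
      rw [h, orderOf_one] at hzo
      omega
    have hza : z • a = a := by rw [hzdef]; exact (Subgroup.mem_inf.mp z'.2).1
    have hzb : z • b = b := by rw [hzdef]; exact (Subgroup.mem_inf.mp z'.2).2
    obtain ⟨c, hca, hcb⟩ : ∃ c : Ω, c ≠ a ∧ c ≠ b := by
      have h1 : 0 < Nat.card {x : Ω // x ≠ a ∧ x ≠ b} := by
        rw [card_compl_pair hab]; omega
      obtain ⟨⟨c, hc⟩⟩ := (Nat.card_pos_iff.mp h1).1
      exact ⟨c, hc⟩
    have hzc : z • c ≠ c := fun h => hz1 (h3fix z a b c hab (Ne.symm hcb) (Ne.symm hca) hza hzb h)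
    have hzca : z • c ≠ a := fun h => hca (smul_left_cancel z (h.trans hza.symm))
    have hzcb : z • c ≠ b := fun h => hcb (smul_left_cancel z (h.trans hzb.symm))
    have hzzc : z • (z • c) = c := by rw [← mul_smul, hz2, one_smul]
    have hall : ∀ x : Ω, x = a ∨ x = b ∨ x = c ∨ x = z • c := by
      intro x
      by_contra hcon
      simp only [not_or] at hcon
      obtain ⟨hxa, hxb, hxc, hxz⟩ := hcon
      have hsub : ({a, b, c, z • c, x} : Finset Ω) ⊆ Finset.univ := Finset.subset_univ _
      have hcard5 : ({a, b, c, z • c, x} : Finset Ω).card = 5 := by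
        rw [Finset.card_insert_of_notMem, Finset.card_insert_of_notMem,
          Finset.card_insert_of_notMem, Finset.card_insert_of_notMem, Finset.card_singleton]
        · simp only [Finset.mem_singleton]; exact Ne.symm hxz
        · simp only [Finset.mem_insert, Finset.mem_singleton, not_or]
          exact ⟨Ne.symm hzc, Ne.symm hxc⟩
        · simp only [Finset.mem_insert, Finset.mem_singleton, not_or]
          exact ⟨Ne.symm hcb, Ne.symm hzcb, Ne.symm hxb⟩
        · simp only [Finset.mem_insert, Finset.mem_singleton, not_or]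
          exact ⟨hab, Ne.symm hca, Ne.symm hzca, Ne.symm hxa⟩
      have := Finset.card_le_card hsub
      rw [hcard5, Finset.card_univ, hcard4] at this
      omega
    have hperm : φ z = Equiv.swap c (z • c) := by
      ext x
      change z • x = _
      rcases hall x with rfl | rfl | rfl | rfl
      · rw [Equiv.swap_apply_of_ne_of_ne (Ne.symm hca) (Ne.symm hzca), hza]
      · rw [Equiv.swap_apply_of_ne_of_ne (Ne.symm hcb) (Ne.symm hzcb), hzb]
      · rw [Equiv.swap_apply_left]
      · rw [Equiv.swap_apply_right, hzzc]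
    let ψ : G →* ℤˣ := Equiv.Perm.sign.comp φ
    have hψz : ψ z = -1 := by
      change Equiv.Perm.sign (φ z) = -1
      rw [hperm, Equiv.Perm.sign_swap (Ne.symm hzc)]
    rcases (ψ.normal_ker).eq_bot_or_eq_top with hker | hker
    · -- injective: `G` commutative
      have hψinj : Function.Injective ψ := (MonoidHom.ker_eq_bot_iff ψ).mp hker
      obtain ⟨g, hga, -⟩ := ZassH.two_trans' hZ.2.1 hab (Ne.symm hca : a ≠ c).symm
      have hcomm : z * g = g * z := by
        apply hψinj
        rw [map_mul, map_mul, mul_comm]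
      apply hzc
      rw [← hga, ← mul_smul, hcomm, mul_smul, hza]
    · have : z ∈ ψ.ker := by rw [hker]; exact Subgroup.mem_top z
      rw [MonoidHom.mem_ker, hψz] at this
      exact absurd this (by decide)

end Cfsg.Agent.Helper19.ZassSharp3
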