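import Mathlib

set_option autoImplicit false
set_option linter.style.haveILetI false
set_option linter.unusedSimpArgs false
set_option linter.unusedSectionVars false

/-! Sharply 2-transitive finite groups of even degree: the involutions together with the identity
form a regular normal elementary abelian 2-subgroup. -/

namespace Cfsg.Agent.Helper19.Sharp2

open MulAction

/-- Sharply 2-transitive action (in the form: 2-transitive, and only the identity fixes two points). -/
structure IsSharp2 (Γ X : Type*) [Group Γ] [MulAction Γ X] : Prop where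
  trans : ∀ x y x' y' : X, x ≠ y → x' ≠ y' → ∃ g : Γ, g • x = x' ∧ g • y = y'
  sharp : ∀ (g : Γ) (x y : X), x ≠ y → g • x = x → g • y = y → g = 1

variable {Γ X : Type*} [Group Γ] [MulAction Γ X]

lemma IsSharp2.eq_of_agree (h : IsSharp2 Γ X) {g g' : Γ} {x y : X} (hxy : x ≠ y)
    (hx : g • x = g' • x) (hy : g • y = g' • y) : g = g' := by
  have : g'⁻¹ * g = 1 := by
    apply h.sharp _ x y hxy
    · rw [mul_smul, hx, inv_smul_smul]
    · rw [mul_smul, hy, inv_smul_smul]
  calc g = g' * (g'⁻¹ * g) := by group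
    _ = g' := by rw [this, mul_one]

/-- For distinct points there is an involution swapping them. -/
lemma IsSharp2.exists_swap (h : IsSharp2 Γ X) {x y : X} (hxy : x ≠ y) :
    ∃ s : Γ, s * s = 1 ∧ s ≠ 1 ∧ s • x = y ∧ s • y = x := by
  obtain ⟨s, hs1, hs2⟩ := h.trans x y y x hxy (Ne.symm hxy)
  refine ⟨s, ?_, ?_, hs1, hs2⟩
  · apply h.sharp _ x y hxy
    · rw [mul_smul, hs1, hs2]
    · rw [mul_smul, hs2, hs1]
  · rintro rfl
    rw [one_smul] at hs1
    exact hxy hs1

/-- An involution mapping `x` to `y ≠ x` is unique. -/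
lemma IsSharp2.invol_unique (h : IsSharp2 Γ X) {s s' : Γ} (hs : s * s = 1) (hs' : s' * s' = 1)
    {x y : X} (hxy : x ≠ y) (h1 : s • x = y) (h2 : s' • x = y) : s = s' := by
  have h3 : s • y = x := by
    rw [← h1, ← mul_smul, hs, one_smul]
  have h4 : s' • y = x := by
    rw [← h2, ← mul_smul, hs', one_smul]
  exact h.eq_of_agree hxy (h1.trans h2.symm) (h3.trans h4.symm)

section finite

variable [Finite X]

/-- In even degree, involutions are fixed-point-free. -/
lemma IsSharp2.invol_fpf (h : IsSharp2 Γ X) (heven : Even (Nat.card X)) {s : Γ} (hs : s * s = 1)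
    (hs1 : s ≠ 1) (x : X) : s • x ≠ x := by
  classical
  haveI := Fintype.ofFinite X
  intro hx
  let f : Function.End X := fun z => s • z
  have hf : f ^ 2 ^ 1 = 1 := by
    rw [pow_one, pow_two]
    funext z
    change s • s • z = z
    rw [← mul_smul, hs, one_smul]
  haveI : Fact (Nat.Prime 2) := ⟨Nat.prime_two⟩
  have hmod := Equiv.Perm.card_fixedPoints_modEq (f := f) hf
  rw [Nat.card_eq_fintype_card] at heven
  have hev2 : Even (Fintype.card (Function.fixedPoints f)) := by
    have h0 : Fintype.card X % 2 = 0 := Nat.even_iff.mp heven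
    have h1 : Fintype.card (Function.fixedPoints f) % 2 = 0 := by
      have := hmod
      unfold Nat.ModEq at this
      omega
    exact Nat.even_iff.mpr h1
  have hx' : x ∈ Function.fixedPoints f := hx
  -- at least two fixed points
  have hcard : 1 < Fintype.card (Function.fixedPoints f) := by
    have hpos : 0 < Fintype.card (Function.fixedPoints f) := Fintype.card_pos_iff.mpr ⟨⟨x, hx'⟩⟩
    rcases hev2 with ⟨k, hk⟩
    omega
  obtain ⟨⟨y, hy⟩, hne⟩ := Fintype.exists_ne_of_one_lt_card hcard ⟨x, hx'⟩
  have hyx : x ≠ y := fun e => hne (Subtype.ext e.symm)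
  exact hs1 (h.sharp s x y hyx hx hy)

lemma IsSharp2.isPretransitive (h : IsSharp2 Γ X) : MulAction.IsPretransitive Γ X := by
  refine ⟨fun x y => ?_⟩
  by_cases hxy : x = y
  · exact ⟨1, by rw [one_smul, hxy]⟩
  · obtain ⟨g, hg, _⟩ := h.trans x y y x hxy (Ne.symm hxy)
    exact ⟨g, hg⟩

/-- The number of fixed-point-free non-identity elements plus one is the degree. -/
lemma IsSharp2.card_fpf [Finite Γ] (h : IsSharp2 Γ X) (o : X) :
    Nat.card {g : Γ // g ≠ 1 ∧ ∀ x : X, g • x ≠ x} + 1 = Nat.card X := by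
  classical
  haveI := Fintype.ofFinite X
  haveI := Fintype.ofFinite Γ
  haveI := h.isPretransitive
  have hsub : Subsingleton (MulAction.orbitRel.Quotient Γ X) :=
    (MulAction.pretransitive_iff_subsingleton_quotient Γ X).1 inferInstance
  haveI : Nonempty (MulAction.orbitRel.Quotient Γ X) := ⟨Quotient.mk'' o⟩
  have hΩ : Fintype.card (MulAction.orbitRel.Quotient Γ X) = 1 :=
    Fintype.card_eq_one_iff.mpr ⟨Quotient.mk'' o, fun y => Subsingleton.elim _ _⟩
  have hB := MulAction.sum_card_fixedBy_eq_card_orbits_mul_card_group Γ X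
  rw [hΩ, one_mul] at hB
  have hn : 1 ≤ Fintype.card X := Fintype.card_pos_iff.mpr ⟨o⟩
  have key : ∀ g : Γ, Fintype.card (MulAction.fixedBy X g) +
      (if (g ≠ 1 ∧ ∀ x : X, g • x ≠ x) then 1 else 0) =
      1 + (if g = 1 then Fintype.card X - 1 else 0) := by
    intro g
    by_cases hg1 : g = 1
    · subst hg1
      have : Fintype.card (MulAction.fixedBy X (1 : Γ)) = Fintype.card X := by
        apply Fintype.card_of_subtype Finset.univ
        intro x
        simp [MulAction.mem_fixedBy]
      rw [this]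
      simp
      omega
    · by_cases hfpf : ∀ x : X, g • x ≠ x
      · have : Fintype.card (MulAction.fixedBy X g) = 0 := by
          rw [Fintype.card_eq_zero_iff]
          exact ⟨fun ⟨x, hx⟩ => hfpf x hx⟩
        rw [this]
        simp [hg1, hfpf]
      · have : Fintype.card (MulAction.fixedBy X g) = 1 := by
          rw [Fintype.card_eq_one_iff]
          push Not at hfpf
          obtain ⟨x, hx⟩ := hfpf
          refine ⟨⟨x, hx⟩, fun ⟨y, hy⟩ => ?_⟩
          by_contra hne
          have hxy : x ≠ y := fun e => hne (Subtype.ext e.symm)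
          exact hg1 (h.sharp g x y hxy hx hy)
        rw [this]
        simp [hg1, hfpf]
  have hsum := Finset.sum_congr (rfl : (Finset.univ : Finset Γ) = Finset.univ) (fun g _ => key g)
  rw [Finset.sum_add_distrib, Finset.sum_add_distrib, hB, Finset.sum_ite_eq' ] at hsum
  simp only [Finset.sum_const, smul_eq_mul, mul_one, Finset.mem_univ, if_true,
    Finset.card_univ] at hsum
  rw [Finset.sum_boole] at hsum
  rw [Nat.card_eq_fintype_card, Nat.card_eq_fintype_card, Fintype.card_subtype]
  simp only [Nat.cast_id] at hsum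
  omega

/-- In even degree, the fixed-point-free elements are exactly the involutions. -/
lemma IsSharp2.invol_of_fpf [Finite Γ] (h : IsSharp2 Γ X) (heven : Even (Nat.card X)) (o : X)
    {g : Γ} (hg1 : g ≠ 1) (hg : ∀ x : X, g • x ≠ x) : g * g = 1 := by
  classical
  haveI := Fintype.ofFinite X
  haveI := Fintype.ofFinite Γ
  let A : Finset Γ := Finset.univ.filter (fun s => s * s = 1 ∧ s ≠ 1)
  let B : Finset Γ := Finset.univ.filter (fun s => s ≠ 1 ∧ ∀ x : X, s • x ≠ x)
  have hAB : A ⊆ B := by
    intro s hs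
    simp only [A, B, Finset.mem_filter, Finset.mem_univ, true_and] at hs ⊢
    exact ⟨hs.2, fun x => h.invol_fpf heven hs.1 hs.2 x⟩
  have hBcard : B.card + 1 = Fintype.card X := by
    have := h.card_fpf o
    rw [Nat.card_eq_fintype_card, Nat.card_eq_fintype_card, Fintype.card_subtype] at this
    exact this
  -- choose swaps
  have hsw : ∀ y : X, ∃ s : Γ, y ≠ o → (s * s = 1 ∧ s ≠ 1 ∧ s • o = y) := by
    intro y
    by_cases hy : y = o
    · exact ⟨1, fun hh => absurd hy hh⟩
    · obtain ⟨s, hs1, hs2, hs3, _⟩ := h.exists_swap (Ne.symm hy)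
      exact ⟨s, fun _ => ⟨hs1, hs2, hs3⟩⟩
  choose f hf using hsw
  have hAcard : (Finset.univ.erase o).card ≤ A.card := by
    apply Finset.card_le_card_of_injOn f
    · intro y hy
      have hy' : y ≠ o := by simpa using hy
      obtain ⟨h1, h2, _⟩ := hf y hy'
      simp only [A, Finset.coe_filter, Finset.mem_univ, true_and, Set.mem_ofPred_eq]
      exact ⟨h1, h2⟩
    · intro y hy y' hy' hyy'
      have hy1 : y ≠ o := by simpa using hy
      have hy2 : y' ≠ o := by simpa using hy'
      rw [← (hf y hy1).2.2, ← (hf y' hy2).2.2, hyy']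
  rw [Finset.card_erase_of_mem (Finset.mem_univ o), Finset.card_univ] at hAcard
  have hEq : A = B := Finset.eq_of_subset_of_card_le hAB (by omega)
  have : g ∈ B := by
    simp only [B, Finset.mem_filter, Finset.mem_univ, true_and]
    exact ⟨hg1, hg⟩
  rw [← hEq] at this
  simp only [A, Finset.mem_filter, Finset.mem_univ, true_and] at this
  exact this.1

/-- The regular normal subgroup: all elements of square one. -/
def IsSharp2.kernel [Finite Γ] (h : IsSharp2 Γ X) (heven : Even (Nat.card X)) (o : X) :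
    Subgroup Γ where
  carrier := {g | g * g = 1}
  one_mem' := by simp
  inv_mem' := by
    intro g hg
    simp only [Set.mem_ofPred_eq] at hg ⊢
    rw [← mul_inv_rev, hg, inv_one]
  mul_mem' := by
    intro s t hs ht
    simp only [Set.mem_ofPred_eq] at hs ht ⊢
    by_cases hs1 : s = 1
    · rw [hs1, one_mul]; exact ht
    by_cases ht1 : t = 1
    · rw [ht1, mul_one]; exact hs
    by_cases hst : s = t
    · rw [hst, ht, one_mul]
    have hsinv : s⁻¹ = s := inv_eq_of_mul_eq_one_right hs
    apply h.invol_of_fpf heven o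
    · intro h1
      apply hst
      have h2 : t = s⁻¹ := eq_inv_of_mul_eq_one_right h1
      rw [h2, hsinv]
    · intro x hx
      rw [mul_smul] at hx
      have hx2 : t • x = s • x := by
        have h3 : s • (s • t • x) = s • x := congrArg (fun z => s • z) hx
        rw [← mul_smul, hs, one_smul] at h3
        exact h3
      have hne : x ≠ s • x := fun e => h.invol_fpf heven hs hs1 x e.symm
      exact hst (h.invol_unique hs ht hne rfl hx2)

lemma IsSharp2.mem_kernel [Finite Γ] (h : IsSharp2 Γ X) (heven : Even (Nat.card X)) (o : X)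
    {g : Γ} : g ∈ h.kernel heven o ↔ g * g = 1 := Iff.rfl

instance IsSharp2.kernel_normal [Finite Γ] (h : IsSharp2 Γ X) (heven : Even (Nat.card X)) (o : X) :
    (h.kernel heven o).Normal := by
  refine ⟨fun n hn g => ?_⟩
  rw [IsSharp2.mem_kernel] at hn ⊢
  calc g * n * g⁻¹ * (g * n * g⁻¹) = g * (n * n) * g⁻¹ := by group
    _ = 1 := by rw [hn, mul_one, mul_inv_cancel]

lemma IsSharp2.kernel_comm [Finite Γ] (h : IsSharp2 Γ X) (heven : Even (Nat.card X)) (o : X)
    {a b : Γ} (ha : a ∈ h.kernel heven o) (hb : b ∈ h.kernel heven o) : a * b = b * a := by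
  have hab := (h.kernel heven o).mul_mem ha hb
  rw [IsSharp2.mem_kernel] at ha hb hab
  have ha' : a⁻¹ = a := inv_eq_of_mul_eq_one_right ha
  have hb' : b⁻¹ = b := inv_eq_of_mul_eq_one_right hb
  have := inv_eq_of_mul_eq_one_right hab
  rw [mul_inv_rev, ha', hb'] at this
  exact this.symm

/-- The kernel is regular. -/
lemma IsSharp2.kernel_regular [Finite Γ] (h : IsSharp2 Γ X) (heven : Even (Nat.card X)) (o : X)
    (x y : X) : ∃! n : Γ, n ∈ h.kernel heven o ∧ n • x = y := by
  by_cases hxy : x = y
  · subst hxy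
    refine ⟨1, ⟨(h.kernel heven o).one_mem, one_smul _ _⟩, ?_⟩
    rintro n ⟨hn, hnx⟩
    by_contra hn1
    exact h.invol_fpf heven hn hn1 x hnx
  · obtain ⟨s, hs1, hs2, hs3, _⟩ := h.exists_swap hxy
    refine ⟨s, ⟨hs1, hs3⟩, ?_⟩
    rintro n ⟨hn, hnx⟩
    exact h.invol_unique hn hs1 hxy hnx hs3

end finite

end Cfsg.Agent.Helper19.Sharp2
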