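import Mathlib
import Cfsg.Agent.Lib.Helper19.Sharp2Even

set_option autoImplicit false
set_option linter.style.haveILetI false
set_option linter.unusedSimpArgs false
set_option linter.unusedSectionVars false
set_option linter.unusedVariables false
set_option warn.classDefReducibility false

/-! A sharply 2-transitive group with a regular normal abelian subgroup and abelian point
stabiliser: the points carry a field structure for which the group is the affine group. -/

namespace Cfsg.Agent.Helper19.Sharp2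

open MulAction

/-- Data for the construction of a field on the points. -/
structure FieldData (Γ X : Type*) [Group Γ] [MulAction Γ X] where
  h : IsSharp2 Γ X
  N : Subgroup Γ
  normal : N.Normal
  regular : ∀ x y : X, ∃! n : Γ, n ∈ N ∧ n • x = y
  commN : ∀ a b : Γ, a ∈ N → b ∈ N → a * b = b * a
  o : X
  i : X
  hoi : o ≠ i
  commH : ∀ a b : Γ, a • o = o → b • o = o → a * b = b * a

namespace FieldData

variable {Γ X : Type*} [Group Γ] [MulAction Γ X] (D : FieldData Γ X)

/-- The translation taking `o` to `x`. -/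
noncomputable def nu (x : X) : Γ := (D.regular D.o x).choose

lemma nu_mem (x : X) : D.nu x ∈ D.N := (D.regular D.o x).choose_spec.1.1

@[simp] lemma nu_smul (x : X) : D.nu x • D.o = x := (D.regular D.o x).choose_spec.1.2

lemma nu_unique {n : Γ} {x : X} (hn : n ∈ D.N) (hx : n • D.o = x) : n = D.nu x :=
  (D.regular D.o x).choose_spec.2 n ⟨hn, hx⟩

lemma nu_mul (x y : X) : D.nu x * D.nu y = D.nu (D.nu x • y) := by
  apply D.nu_unique (D.N.mul_mem (D.nu_mem x) (D.nu_mem y))
  rw [mul_smul, nu_smul]

lemma nu_o : D.nu D.o = 1 := (D.nu_unique D.N.one_mem (one_smul _ _)).symm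

lemma nu_inv (x : X) : (D.nu x)⁻¹ = D.nu ((D.nu x)⁻¹ • D.o) :=
  D.nu_unique (D.N.inv_mem (D.nu_mem x)) rfl

open scoped Classical in
/-- The dilation fixing `o` and taking `i` to `x ≠ o`. -/
noncomputable def eta (x : X) : Γ :=
  if hx : x = D.o then 1 else (D.h.trans D.o D.i D.o x D.hoi (Ne.symm hx)).choose

lemma eta_o' (x : X) : D.eta x • D.o = D.o := by
  unfold eta
  split_ifs with hx
  · exact one_smul _ _
  · exact (D.h.trans D.o D.i D.o x D.hoi (Ne.symm hx)).choose_spec.1

lemma eta_i {x : X} (hx : x ≠ D.o) : D.eta x • D.i = x := by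
  unfold eta
  rw [dif_neg hx]
  exact (D.h.trans D.o D.i D.o x D.hoi (Ne.symm hx)).choose_spec.2

lemma eta_unique {g : Γ} {x : X} (hg : g • D.o = D.o) (hx : g • D.i = x) : g = D.eta x := by
  have hxo : x ≠ D.o := by
    intro e
    rw [← hx, ← hg] at e
    exact D.hoi (MulAction.injective g e).symm
  apply D.h.eq_of_agree D.hoi
  · rw [hg, D.eta_o']
  · rw [hx, D.eta_i hxo]

lemma eta_ne {x y : X} (hy : y ≠ D.o) : D.eta x • y ≠ D.o := by
  intro e
  have := D.eta_o' x
  rw [← this] at e
  exact hy (MulAction.injective _ e)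

lemma eta_mul {x y : X} (hx : x ≠ D.o) (hy : y ≠ D.o) :
    D.eta x * D.eta y = D.eta (D.eta x • y) := by
  apply D.eta_unique
  · rw [mul_smul, D.eta_o', D.eta_o']
  · rw [mul_smul, D.eta_i hy]

lemma eta_one : D.eta D.i = 1 := (D.eta_unique (one_smul _ _) (one_smul _ _)).symm

lemma eta_conj (x y : X) : D.eta x * D.nu y * (D.eta x)⁻¹ = D.nu (D.eta x • y) := by
  apply D.nu_unique (D.normal.conj_mem _ (D.nu_mem y) _)
  rw [mul_smul, mul_smul]
  have : (D.eta x)⁻¹ • D.o = D.o := by rw [inv_smul_eq_iff, D.eta_o']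
  rw [this, nu_smul]

/-- Addition on points. -/
noncomputable def add (x y : X) : X := D.nu x • y
/-- Negation on points. -/
noncomputable def neg (x : X) : X := (D.nu x)⁻¹ • D.o
open scoped Classical in
/-- Multiplication on points. -/
noncomputable def mul (x y : X) : X := if x = D.o then D.o else D.eta x • y

lemma mul_of_ne {x : X} (hx : x ≠ D.o) (y : X) : D.mul x y = D.eta x • y := by
  unfold mul
  rw [if_neg hx]

lemma zero_mul' (y : X) : D.mul D.o y = D.o := by
  unfold mul
  rw [if_pos rfl]

lemma mul_zero' (x : X) : D.mul x D.o = D.o := by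
  classical
  unfold mul
  split_ifs
  · rfl
  · exact D.eta_o' x

lemma mul_comm' (a b : X) : D.mul a b = D.mul b a := by
  by_cases ha : a = D.o
  · rw [ha, zero_mul', mul_zero']
  by_cases hb : b = D.o
  · rw [hb, zero_mul', mul_zero']
  rw [mul_of_ne D ha, mul_of_ne D hb]
  have h1 : D.eta a • b = (D.eta a * D.eta b) • D.i := by
    rw [mul_smul, D.eta_i hb]
  have h2 : D.eta b • a = (D.eta b * D.eta a) • D.i := by
    rw [mul_smul, D.eta_i ha]
  rw [h1, h2, D.commH _ _ (D.eta_o' a) (D.eta_o' b)]

lemma add_assoc' (a b c : X) : D.add (D.add a b) c = D.add a (D.add b c) := by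
  unfold add
  rw [← D.nu_mul, mul_smul]

lemma zero_add' (a : X) : D.add D.o a = a := by
  unfold add
  rw [D.nu_o, one_smul]

lemma neg_add_cancel' (a : X) : D.add (D.neg a) a = D.o := by
  unfold add neg
  rw [← D.nu_inv, inv_smul_eq_iff, nu_smul]

lemma mul_assoc' (a b c : X) : D.mul (D.mul a b) c = D.mul a (D.mul b c) := by
  by_cases ha : a = D.o
  · rw [ha, zero_mul', zero_mul', zero_mul']
  by_cases hb : b = D.o
  · rw [hb, mul_zero', zero_mul', mul_zero']
  have hab : D.mul a b ≠ D.o := by
    rw [mul_of_ne D ha]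
    exact D.eta_ne hb
  rw [mul_of_ne D hab, mul_of_ne D ha, mul_of_ne D ha, mul_of_ne D hb, ← D.eta_mul ha hb,
    mul_smul]

lemma one_mul' (a : X) : D.mul D.i a = a := by
  rw [mul_of_ne D (Ne.symm D.hoi), D.eta_one, one_smul]

lemma left_distrib' (a b c : X) : D.mul a (D.add b c) = D.add (D.mul a b) (D.mul a c) := by
  by_cases ha : a = D.o
  · rw [ha, zero_mul', zero_mul', zero_mul']
    unfold add
    rw [nu_smul]
  rw [mul_of_ne D ha, mul_of_ne D ha, mul_of_ne D ha]
  unfold add
  rw [← D.eta_conj, mul_smul, mul_smul, inv_smul_smul]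

/-- The commutative ring structure on the points. -/
noncomputable def commRing : CommRing X :=
  @CommRing.ofMinimalAxioms X ⟨D.add⟩ ⟨D.mul⟩ ⟨D.neg⟩ ⟨D.o⟩ ⟨D.i⟩
    D.add_assoc' D.zero_add' D.neg_add_cancel' D.mul_assoc' D.mul_comm' D.one_mul' D.left_distrib'

lemma isField : letI := D.commRing; IsField X := by
  letI := D.commRing
  refine ⟨⟨D.o, D.i, D.hoi⟩, D.mul_comm', ?_⟩
  intro a ha
  refine ⟨(D.eta a)⁻¹ • D.i, ?_⟩
  have ha' : a ≠ D.o := ha
  change D.mul a ((D.eta a)⁻¹ • D.i) = D.i
  rw [mul_of_ne D ha', smul_inv_smul]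

/-- The field structure on the points. -/
noncomputable def field : Field X :=
  letI := D.commRing
  IsField.toField D.isField

lemma field_zero : @Zero.zero X D.field.toZero = D.o := rfl
lemma field_one : @One.one X D.field.toOne = D.i := rfl
lemma field_add (x y : X) : @HAdd.hAdd X X X (@instHAdd X D.field.toAdd) x y = D.add x y := rfl
lemma field_mul (x y : X) : @HMul.hMul X X X (@instHMul X D.field.toMul) x y = D.mul x y := rfl

/-- Every group element acts as an affine map. -/
lemma affine (g : Γ) : ∃ a b : X, a ≠ D.o ∧ ∀ x : X, g • x = D.add b (D.mul a x) := by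
  let b : X := g • D.o
  let g' : Γ := (D.nu b)⁻¹ * g
  have hg'o : g' • D.o = D.o := by
    change ((D.nu b)⁻¹ * g) • D.o = D.o
    rw [mul_smul, inv_smul_eq_iff, nu_smul]
  let a : X := g' • D.i
  have hao : a ≠ D.o := by
    intro e
    have : g' • D.i = g' • D.o := e.trans hg'o.symm
    exact D.hoi (MulAction.injective g' this).symm
  have hg' : g' = D.eta a := D.eta_unique hg'o rfl
  refine ⟨a, b, hao, fun x => ?_⟩
  have hg : g = D.nu b * D.eta a := by
    rw [← hg']
    change g = D.nu b * ((D.nu b)⁻¹ * g)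
    group
  rw [mul_of_ne D hao x]
  unfold add
  rw [← mul_smul, ← hg]

/-- Elements of the point stabiliser act as multiplications, and the inverse is the inverse. -/
lemma inv_smul_i {g : Γ} (hg : g • D.o = D.o) : D.mul (g • D.i) (g⁻¹ • D.i) = D.i := by
  have hne : (g • D.i : X) ≠ D.o := by
    intro e
    rw [← hg] at e
    exact D.hoi (MulAction.injective g e).symm
  have hg' : g = D.eta (g • D.i) := D.eta_unique hg rfl
  rw [mul_of_ne D hne, ← hg', smul_inv_smul]

/-- Summary: the field on the points and its relation to the action. -/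
theorem exists_field : ∃ _F : Field X, (0 : X) = D.o ∧ (1 : X) = D.i ∧
    (∀ g : Γ, ∃ a b : X, a ≠ 0 ∧ ∀ x : X, g • x = b + a * x) ∧
    (∀ g : Γ, g • D.o = D.o → (g • D.i) * (g⁻¹ • D.i) = 1) :=
  ⟨D.field, rfl, rfl, D.affine, fun _ hg => D.inv_smul_i hg⟩

end FieldData

end Cfsg.Agent.Helper19.Sharp2
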