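import Mathlib
import Cfsg.Agent.Lib.Helper19.Sharp3
import Cfsg.Agent.Lib.Helper19.Sharp2Field
import Cfsg.Agent.Lib.Helper19.MoebiusPGL

set_option autoImplicit false
set_option linter.style.haveILetI false
set_option linter.unusedSimpArgs false
set_option linter.unusedSectionVars false
set_option linter.unusedVariables false

/-! Zassenhaus: sharply 3-transitive groups of odd degree are `PGL₂(2^f)`. -/

namespace Cfsg.Agent.Helper19.Zass2

open MulAction Cfsg.Agent.Helper19.Sharp3 Cfsg.Agent.Helper19.Sharp2

universe u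

variable {α : Type u} [Fintype α] [DecidableEq α] (G : Subgroup (Equiv.Perm α))

/-- In odd degree a non-trivial involution of a sharply 3-transitive group has at most one
fixed point. -/
lemma invol_fix_unique (hsharp : ∀ x : Fin 3 ↪ α, MulAction.stabilizer G x = ⊥)
    (hodd : Odd (Fintype.card α)) {t : G} (ht : t * t = 1) (ht1 : t ≠ 1) {c d : α}
    (hc : t • c = c) (hd : t • d = d) : c = d := by
  by_contra hcd
  let f : Function.End α := fun z => t • z
  have hf : f ^ 2 ^ 1 = 1 := by
    rw [pow_one, pow_two]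
    funext z
    change t • t • z = z
    rw [← mul_smul, ht, one_smul]
  haveI : Fact (Nat.Prime 2) := ⟨Nat.prime_two⟩
  have hmod := Equiv.Perm.card_fixedPoints_modEq (f := f) hf
  have hodd2 : Fintype.card (Function.fixedPoints f) % 2 = 1 := by
    have h0 : Fintype.card α % 2 = 1 := Nat.odd_iff.mp hodd
    unfold Nat.ModEq at hmod
    omega
  have h1 : 1 < Fintype.card (Function.fixedPoints f) :=
    Fintype.one_lt_card_iff.mpr ⟨⟨c, hc⟩, ⟨d, hd⟩, fun e => hcd (congrArg Subtype.val e)⟩
  have h2 : 2 < Fintype.card (Function.fixedPoints f) := by omega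
  obtain ⟨⟨p, hp⟩, ⟨q, hq⟩, ⟨r, hr⟩, hpq, hpr, hqr⟩ := Fintype.two_lt_card_iff.mp h2
  have hpq' : p ≠ q := fun e => hpq (Subtype.ext e)
  have hpr' : p ≠ r := fun e => hpr (Subtype.ext e)
  have hqr' : q ≠ r := fun e => hqr (Subtype.ext e)
  exact ht1 (eq_one_of_fix3 G hsharp hpq' hpr' hqr' hp hq hr)

variable (inf : α)

/-- The point stabiliser acts sharply 2-transitively on the remaining points. -/
lemma isSharp2 (h3 : MulAction.IsMultiplyPretransitive G α 3)
    (hsharp : ∀ x : Fin 3 ↪ α, MulAction.stabilizer G x = ⊥) :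
    IsSharp2 (MulAction.stabilizer G inf) (SubMulAction.ofStabilizer G inf) := by
  constructor
  · rintro ⟨x, hx⟩ ⟨y, hy⟩ ⟨x', hx'⟩ ⟨y', hy'⟩ hxy hxy'
    have hx0 : x ≠ inf := hx
    have hy0 : y ≠ inf := hy
    have hx0' : x' ≠ inf := hx'
    have hy0' : y' ≠ inf := hy'
    have h1 : x ≠ y := fun e => hxy (Subtype.ext e)
    have h2 : x' ≠ y' := fun e => hxy' (Subtype.ext e)
    obtain ⟨g, hg1, hg2, hg3⟩ := exists_map3 G h3 (Ne.symm hx0) (Ne.symm hy0) h1
      (Ne.symm hx0') (Ne.symm hy0') h2
    refine ⟨⟨g, hg1⟩, Subtype.ext ?_, Subtype.ext ?_⟩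
    · exact hg2
    · exact hg3
  · rintro ⟨g, hg⟩ ⟨x, hx⟩ ⟨y, hy⟩ hxy hgx hgy
    have hx0 : x ≠ inf := hx
    have hy0 : y ≠ inf := hy
    have h1 : x ≠ y := fun e => hxy (Subtype.ext e)
    have hgx' : g • x = x := congrArg Subtype.val hgx
    have hgy' : g • y = y := congrArg Subtype.val hgy
    have := eq_one_of_fix3 G hsharp (Ne.symm hx0) (Ne.symm hy0) h1 hg hgx' hgy'
    exact Subtype.ext this

lemma even_card_pts (hodd : Odd (Fintype.card α)) :
    Even (Nat.card (SubMulAction.ofStabilizer G inf)) := by
  have := SubMulAction.nat_card_ofStabilizer_add_one_eq G inf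
  rw [Nat.card_eq_fintype_card (α := α)] at this
  rcases hodd with ⟨k, hk⟩
  exact ⟨k, by omega⟩

/-- An element swapping `inf` and `o` and fixing `i` inverts the stabiliser of `inf` and `o`. -/
lemma swap_inverts (hsharp : ∀ x : Fin 3 ↪ α, MulAction.stabilizer G x = ⊥)
    (hodd : Odd (Fintype.card α)) {o i : α} (hio : inf ≠ o) (hii : inf ≠ i) (hoi : o ≠ i)
    {t : G} (ht1 : t • inf = o) (ht2 : t • o = inf) (ht3 : t • i = i)
    {h : G} (hh1 : h • inf = inf) (hh2 : h • o = o) : t * h * t⁻¹ = h⁻¹ := by
  have htt : t * t = 1 := by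
    apply eq_one_of_fix3 G hsharp hio hii hoi
    · rw [mul_smul, ht1, ht2]
    · rw [mul_smul, ht2, ht1]
    · rw [mul_smul, ht3, ht3]
  have htne : t ≠ 1 := by
    rintro rfl
    rw [one_smul] at ht1
    exact hio ht1
  have htinv : t⁻¹ = t := inv_eq_of_mul_eq_one_right htt
  -- the subgroup H
  let H : Subgroup G := MulAction.stabilizer G inf ⊓ MulAction.stabilizer G o
  have hmemH : ∀ k : G, k ∈ H ↔ k • inf = inf ∧ k • o = o := by
    intro k
    simp only [H, Subgroup.mem_inf, MulAction.mem_stabilizer_iff]
  have hconjH : ∀ k : G, k ∈ H → t * k * t⁻¹ ∈ H := by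
    intro k hk
    rw [hmemH] at hk ⊢
    rw [htinv]
    constructor
    · rw [mul_smul, mul_smul, ht1, hk.2, ht2]
    · rw [mul_smul, mul_smul, ht2, hk.1, ht1]
  let f : H → H := fun k => ⟨(k : G)⁻¹ * (t * k * t⁻¹), H.mul_mem (H.inv_mem k.2) (hconjH k k.2)⟩
  have hcent : ∀ c : G, c ∈ H → t * c * t⁻¹ = c → c = 1 := by
    intro c hc hct
    rw [hmemH] at hc
    have hcomm : t * c = c * t := by
      calc t * c = (t * c * t⁻¹) * t := by group
        _ = c * t := by rw [hct]
    have hfix : t • (c • i) = c • i := by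
      rw [← mul_smul, hcomm, mul_smul, ht3]
    have hci : c • i = i := invol_fix_unique G hsharp hodd htt htne hfix ht3
    exact eq_one_of_fix3 G hsharp hio hii hoi hc.1 hc.2 hci
  have hinj : Function.Injective f := by
    intro a b hab
    have hab' : (a : G)⁻¹ * (t * a * t⁻¹) = (b : G)⁻¹ * (t * b * t⁻¹) := congrArg Subtype.val hab
    have hc : (b : G) * (a : G)⁻¹ ∈ H := H.mul_mem b.2 (H.inv_mem a.2)
    have hct : t * ((b : G) * (a : G)⁻¹) * t⁻¹ = (b : G) * (a : G)⁻¹ := by
      have e1 : t * ((b : G) * (a : G)⁻¹) * t⁻¹ = (t * b * t⁻¹) * (t * a * t⁻¹)⁻¹ := by group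
      have e2 : t * a * t⁻¹ = (a : G) * ((b : G)⁻¹ * (t * b * t⁻¹)) := by
        rw [← hab']; group
      rw [e1, e2]
      group
    have := hcent _ hc hct
    apply Subtype.ext
    have h2 : (b : G) = a := by
      calc (b : G) = ((b : G) * (a : G)⁻¹) * a := by group
        _ = a := by rw [this, one_mul]
    exact h2.symm
  have hsurj : Function.Surjective f := Finite.injective_iff_surjective.mp hinj
  obtain ⟨k, hk⟩ := hsurj ⟨h, (hmemH h).mpr ⟨hh1, hh2⟩⟩
  have hk' : (k : G)⁻¹ * (t * k * t⁻¹) = h := congrArg Subtype.val hk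
  rw [← hk']
  have e : t⁻¹ * t⁻¹ = 1 := by rw [← mul_inv_rev, htt, inv_one]
  calc t * ((k : G)⁻¹ * (t * k * t⁻¹)) * t⁻¹ = t * (k : G)⁻¹ * t * k * (t⁻¹ * t⁻¹) := by group
    _ = t * (k : G)⁻¹ * t * k := by rw [e, mul_one]
    _ = t * (k : G)⁻¹ * t⁻¹ * k := by rw [htinv]
    _ = ((k : G)⁻¹ * (t * k * t⁻¹))⁻¹ := by group

/-- A point different from `inf`, as a point of the complement. -/
def mkPt (a : α) (h : a ≠ inf) : SubMulAction.ofStabilizer G inf :=
  ⟨a, (SubMulAction.mem_ofStabilizer_iff G inf).mpr h⟩

@[simp] lemma mkPt_val (a : α) (h : a ≠ inf) : (mkPt G inf a h).val = a := rfl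

lemma mkPt_val' (x : SubMulAction.ofStabilizer G inf) (h : x.val ≠ inf) :
    mkPt G inf x.val h = x := Subtype.ext rfl

open OnePoint in
/-- The map from points to the projective line over the remaining points. -/
noncomputable def psiFun (a : α) : OnePoint (SubMulAction.ofStabilizer G inf) :=
  if h : a = inf then ∞ else ((mkPt G inf a h : SubMulAction.ofStabilizer G inf) : OnePoint _)

open OnePoint in
lemma psiFun_inf : psiFun G inf inf = ∞ := by
  unfold psiFun
  rw [dif_pos rfl]

lemma psiFun_val (x : SubMulAction.ofStabilizer G inf) :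
    psiFun G inf x.val = (x : OnePoint (SubMulAction.ofStabilizer G inf)) := by
  have hx : x.val ≠ inf := (SubMulAction.mem_ofStabilizer_iff G inf).mp x.2
  unfold psiFun
  rw [dif_neg hx, mkPt_val']

lemma psiFun_ne (a : α) (h : a ≠ inf) :
    psiFun G inf a = ((mkPt G inf a h : SubMulAction.ofStabilizer G inf) : OnePoint _) := by
  unfold psiFun
  rw [dif_neg h]

open OnePoint in
/-- The identification of the points with the projective line over the remaining points. -/
noncomputable def psi : α ≃ OnePoint (SubMulAction.ofStabilizer G inf) where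
  toFun := psiFun G inf
  invFun z := z.elim inf (fun x => x.val)
  left_inv a := by
    by_cases h : a = inf
    · subst h
      rw [psiFun_inf]
      rfl
    · rw [psiFun_ne G inf a h]
      rfl
  right_inv z := by
    cases z using OnePoint.rec with
    | infty => exact psiFun_inf G inf
    | coe x => exact psiFun_val G inf x

open OnePoint in
lemma psi_inf : psi G inf inf = ∞ := psiFun_inf G inf

lemma psi_val (x : SubMulAction.ofStabilizer G inf) :
    psi G inf x.val = (x : OnePoint (SubMulAction.ofStabilizer G inf)) := psiFun_val G inf x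

open OnePoint in
lemma psi_symm_infty : (psi G inf).symm ∞ = inf := rfl

lemma psi_symm_coe (x : SubMulAction.ofStabilizer G inf) :
    (psi G inf).symm (x : OnePoint (SubMulAction.ofStabilizer G inf)) = x.val := rfl

open OnePoint in
lemma psi_eq_infty {a : α} (h : psi G inf a = ∞) : a = inf := by
  by_contra hne
  have : psi G inf a = ((mkPt G inf a hne : SubMulAction.ofStabilizer G inf) :
      OnePoint (SubMulAction.ofStabilizer G inf)) := psiFun_ne G inf a hne
  rw [this] at h
  exact OnePoint.coe_ne_infty _ h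

/-- **Zassenhaus.** A sharply 3-transitive group of odd degree is `PGL₂` over a finite field
of even order (in the universe of the points). -/
theorem exists_field_mulEquiv (h3 : MulAction.IsMultiplyPretransitive G α 3)
    (hsharp : ∀ x : Fin 3 ↪ α, MulAction.stabilizer G x = ⊥)
    (hodd : Odd (Fintype.card α)) (hcard : 3 ≤ Fintype.card α) :
    ∃ (F : Type u) (_ : Field F) (_ : Fintype F), Fintype.card α = Fintype.card F + 1 ∧
      Nonempty (G ≃* Matrix.ProjGenLinGroup (Fin 2) F) := by
  classical
  obtain ⟨x⟩ : Nonempty (Fin 3 ↪ α) :=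
    Function.Embedding.nonempty_of_card_le (by rw [Fintype.card_fin]; exact hcard)
  obtain ⟨inf, o, i, hio, hii, hoi⟩ : ∃ inf o i : α, inf ≠ o ∧ inf ≠ i ∧ o ≠ i :=
    ⟨x 0, x 1, x 2, fun e => by simpa using x.injective e, fun e => by simpa using x.injective e,
      fun e => by simpa using x.injective e⟩
  have hS := isSharp2 G inf h3 hsharp
  have hev := even_card_pts G inf hodd
  let o' : SubMulAction.ofStabilizer G inf := mkPt G inf o (Ne.symm hio)
  let i' : SubMulAction.ofStabilizer G inf := mkPt G inf i (Ne.symm hii)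
  have hoi' : o' ≠ i' := fun e => hoi (congrArg Subtype.val e)
  obtain ⟨t, ht1, ht2, ht3⟩ := exists_map3 G h3 hio hii hoi (Ne.symm hio) hoi hii
  have hinv : ∀ a : MulAction.stabilizer G inf, a • o' = o' → t * (a : G) * t⁻¹ = (a : G)⁻¹ := by
    intro a ha
    have ha2 : (a : G) • o = o := congrArg Subtype.val ha
    exact swap_inverts G inf hsharp hodd hio hii hoi ht1 ht2 ht3 a.2 ha2
  let D : FieldData (MulAction.stabilizer G inf) (SubMulAction.ofStabilizer G inf) :=
    { h := hS
      N := hS.kernel hev o'
      normal := hS.kernel_normal hev o'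
      regular := hS.kernel_regular hev o'
      commN := fun a b ha hb => hS.kernel_comm hev o' ha hb
      o := o'
      i := i'
      hoi := hoi'
      commH := by
        intro a b ha hb
        have hab : (a * b) • o' = o' := by rw [mul_smul, hb, ha]
        have e1 := hinv a ha
        have e2 := hinv b hb
        have e3 := hinv (a * b) hab
        apply Subtype.ext
        rw [Subgroup.coe_mul, Subgroup.coe_mul]
        rw [Subgroup.coe_mul] at e3
        have e4 : t * ((a : G) * (b : G)) * t⁻¹ = (t * a * t⁻¹) * (t * b * t⁻¹) := by group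
        rw [e4, e1, e2, mul_inv_rev] at e3
        have := congrArg (fun z => z⁻¹) e3
        simp only [mul_inv_rev, inv_inv] at this
        exact this.symm }
  letI : Field (SubMulAction.ofStabilizer G inf) := D.field
  haveI : Fintype (SubMulAction.ofStabilizer G inf) := Fintype.ofFinite _
  refine ⟨SubMulAction.ofStabilizer G inf, D.field, inferInstance, ?_, ?_⟩
  · have := SubMulAction.nat_card_ofStabilizer_add_one_eq G inf
    rw [Nat.card_eq_fintype_card, Nat.card_eq_fintype_card] at this
    exact this.symm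
  · apply Moebius.nonempty_mulEquiv_pgl G h3 hsharp (psi G inf)
    · -- affine
      intro g hg
      rw [psi_symm_infty] at hg
      have hginf : g • inf = inf := psi_eq_infty G inf hg
      obtain ⟨a, b, ha, hab⟩ := D.affine ⟨g, hginf⟩
      refine ⟨a, b, ha, fun x => ?_⟩
      rw [psi_symm_coe]
      have e : g • x.val = ((⟨g, hginf⟩ : MulAction.stabilizer G inf) • x).val := rfl
      rw [e, psi_val, hab x]
      rfl
    · -- transitivity
      intro c
      refine ⟨(D.nu c : G), ?_, ?_⟩
      · rw [psi_symm_infty]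
        have : (D.nu c : G) • inf = inf := (D.nu c).2
        rw [this, psi_inf]
      · have e0 : ((0 : SubMulAction.ofStabilizer G inf) :
            OnePoint (SubMulAction.ofStabilizer G inf)) = (o' : OnePoint _) := rfl
        rw [e0, psi_symm_coe]
        have e : (D.nu c : G) • o'.val = (D.nu c • o').val := rfl
        rw [e, psi_val]
        congr 1
        exact D.nu_smul c
    · -- inversion
      refine ⟨t, ?_, ?_, ?_⟩
      · rw [psi_symm_infty, ht1]
        exact psi_val G inf o'
      · have e0 : ((0 : SubMulAction.ofStabilizer G inf) :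
            OnePoint (SubMulAction.ofStabilizer G inf)) = (o' : OnePoint _) := rfl
        rw [e0, psi_symm_coe]
        change psi G inf (t • o) = _
        rw [ht2, psi_inf]
      · intro x hx
        have hx' : x ≠ D.o := hx
        rw [psi_symm_coe]
        set γ := D.eta x with hγ
        have hγo : γ • o' = o' := D.eta_o' x
        have hγi : γ • i' = x := D.eta_i hx'
        have hmul : x * (γ⁻¹ • i') = 1 := by
          have := D.inv_smul_i hγo
          rw [hγi] at this
          exact this
        have hxinv : x⁻¹ = γ⁻¹ • i' := (eq_inv_of_mul_eq_one_right hmul).symm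
        have e1 : t • x.val = ((γ⁻¹ • i' : SubMulAction.ofStabilizer G inf)).val := by
          rw [← hγi]
          change t • ((γ : G) • i) = (γ : G)⁻¹ • i
          have hti : t⁻¹ • i = i := by rw [inv_smul_eq_iff, ht3]
          rw [← hinv γ hγo, mul_smul, mul_smul, hti]
        rw [e1, psi_val, hxinv]

end Cfsg.Agent.Helper19.Zass2
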