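import Mathlib
import Cfsg.Agent.Lib.Helper19.Zass2
import Cfsg.Agent.Lib.Helper53.SL2Card

set_option autoImplicit false
set_option linter.style.haveILetI false
set_option linter.unusedSimpArgs false
set_option linter.unusedSectionVars false
set_option linter.unusedVariables false

/-! Zassenhaus in characteristic 2: final form with the field in `Type` and `SL₂ ≃ PGL₂`. -/

namespace Cfsg.Agent.Helper19.Zass2

open Matrix

/-- `PGL_n` is functorial for ring isomorphisms. -/
noncomputable def pglCongr {n : Type*} [Fintype n] [DecidableEq n] {R S : Type*} [CommRing R]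
    [CommRing S] (e : R ≃+* S) :
    Matrix.ProjGenLinGroup n R ≃* Matrix.ProjGenLinGroup n S :=
  MonoidHom.toMulEquiv (Matrix.ProjGenLinGroup.map (e : R →+* S))
    (Matrix.ProjGenLinGroup.map (e.symm : S →+* R))
    (by
      rw [← Matrix.ProjGenLinGroup.map_comp]
      simp)
    (by
      rw [← Matrix.ProjGenLinGroup.map_comp]
      simp)

/-- In characteristic 2, over a finite field, `SL₂ ≃ PGL₂`. -/
theorem nonempty_sl2_mulEquiv_pgl2 (F : Type*) [Field F] [Fintype F] [CharP F 2] :
    Nonempty (Matrix.SpecialLinearGroup (Fin 2) F ≃* Matrix.ProjGenLinGroup (Fin 2) F) := by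
  classical
  let φ : Matrix.SpecialLinearGroup (Fin 2) F →* Matrix.ProjGenLinGroup (Fin 2) F :=
    Matrix.SpecialLinearGroup.toPGL
  have hinj : Function.Injective φ := by
    rw [injective_iff_map_eq_one]
    intro A hA
    have hA' : A ∈ φ.ker := hA
    rw [Matrix.SpecialLinearGroup.toPGL_ker, Matrix.SpecialLinearGroup.mem_center_iff] at hA'
    obtain ⟨r, hr, hrA⟩ := hA'
    rw [Fintype.card_fin] at hr
    haveI : Fact (Nat.Prime 2) := ⟨Nat.prime_two⟩
    have h1 : (r - 1) ^ 2 = 0 := by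
      rw [sub_pow_char r 1, hr, one_pow, sub_self]
    have h2 : r = 1 := by
      have := pow_eq_zero_iff (two_ne_zero) |>.mp h1
      exact sub_eq_zero.mp this
    apply Subtype.ext
    rw [← hrA, h2]
    simp
  obtain ⟨k, hk⟩ : ∃ k, Fintype.card F = k + 1 :=
    ⟨Fintype.card F - 1, by have := Fintype.card_pos (α := F); omega⟩
  have hc1 := Cfsg.Agent.Helper53.card_SL2_succ (F := F) k hk
  have hc2 := Moebius.card_pgl2 (K := F) k hk
  haveI : Finite (Matrix.ProjGenLinGroup (Fin 2) F) :=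
    Finite.of_surjective _ Matrix.ProjGenLinGroup.mk_surjective
  have hbij : Function.Bijective φ :=
    hinj.bijective_of_nat_card_le (by rw [hc1, hc2])
  exact ⟨MulEquiv.ofBijective φ hbij⟩

universe u

variable {α : Type u} [Fintype α] [DecidableEq α] (G : Subgroup (Equiv.Perm α))

/-- **Zassenhaus, characteristic 2.** -/
theorem zassenhaus_char_two (h3 : MulAction.IsMultiplyPretransitive G α 3)
    (hsharp : ∀ x : Fin 3 ↪ α, MulAction.stabilizer G x = ⊥)
    (hodd : Odd (Fintype.card α)) (hcard : 3 ≤ Fintype.card α) :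
    ∃ a : ℕ, 1 ≤ a ∧ Fintype.card α = 2 ^ a + 1 ∧
      ∃ (F : Type) (_ : Field F) (_ : Fintype F), Fintype.card F = 2 ^ a ∧
        Nonempty (G ≃* Matrix.ProjGenLinGroup (Fin 2) F) ∧
        Nonempty (G ≃* Matrix.SpecialLinearGroup (Fin 2) F) := by
  classical
  obtain ⟨F, hF, hFin, hcardF, ⟨e⟩⟩ := exists_field_mulEquiv G h3 hsharp hodd hcard
  obtain ⟨p, hchar, n, hp, hpn⟩ := FiniteField.card' F
  have hevenF : Even (Fintype.card F) := by
    rcases hodd with ⟨m, hm⟩
    exact ⟨m, by omega⟩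
  have hp2 : p = 2 := by
    rw [hpn] at hevenF
    have := (Nat.even_pow.mp hevenF).1
    exact (Nat.Prime.even_iff hp).mp this
  subst hp2
  haveI : Fact (Nat.Prime 2) := ⟨Nat.prime_two⟩
  have hn0 : (n : ℕ) ≠ 0 := n.ne_zero
  let F₀ := GaloisField 2 n
  haveI : Fintype F₀ := Fintype.ofFinite _
  have hF₀ : Fintype.card F₀ = 2 ^ (n : ℕ) := by
    rw [← Nat.card_eq_fintype_card]
    exact GaloisField.card 2 n hn0
  have r : F ≃+* F₀ := FiniteField.ringEquivOfCardEq (by rw [hpn, hF₀])
  haveI : CharP F₀ 2 := inferInstance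
  obtain ⟨e2⟩ := nonempty_sl2_mulEquiv_pgl2 F₀
  refine ⟨n, n.pos, by rw [hcardF, hpn], F₀, inferInstance, inferInstance, hF₀, ⟨e.trans (pglCongr r)⟩,
    ⟨(e.trans (pglCongr r)).trans e2.symm⟩⟩

end Cfsg.Agent.Helper19.Zass2
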