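import Mathlib
import Cfsg.Prelude.Def_LieRecognition
import Cfsg.Agent.Lib.Helper19.RankOneFPF

set_option autoImplicit false

namespace Cfsg.Agent.Helper19

open MulAction
open scoped Pointwise

/-- Involutions whose product has odd order are conjugate by an involution. -/
theorem invol_conj_of_odd_order {M : Type*} [Group M] {u v : M} (hu2 : u * u = 1) (hv2 : v * v = 1)
    (h : Odd (orderOf (u * v))) : ∃ w : M, w * w = 1 ∧ w * u * w = v := by
  obtain ⟨k, hk⟩ := h
  have huinv : u⁻¹ = u := inv_eq_self_of_mul_self hu2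
  have hvinv : v⁻¹ = v := inv_eq_self_of_mul_self hv2
  set g := (u * v) ^ k with hg
  -- `u g u⁻¹ = g⁻¹`
  have h1 : u * g * u⁻¹ = g⁻¹ := by
    rw [hg, ← conj_pow, ← inv_pow]
    congr 1
    rw [mul_inv_rev, huinv, hvinv]
    have : u * (u * v) * u = (u * u) * v * u := by group
    rw [this, hu2, one_mul]
  rw [huinv] at h1
  -- `g u g⁻¹ = v`
  have h4 : (u * v) ^ (k + k) * (u * v) = 1 := by
    rw [← pow_succ]
    have : k + k + 1 = orderOf (u * v) := by omega
    rw [this, pow_orderOf_eq_one]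
  have h5 : g * g = (u * v)⁻¹ := by
    rw [hg, ← pow_add]
    exact eq_inv_of_mul_eq_one_left h4
  refine ⟨g * u, ?_, ?_⟩
  · have : g * u * (g * u) = g * (u * g * u) := by group
    rw [this, h1, mul_inv_cancel]
  · have e1 : g * u * u * (g * u) = g * (u * u) * g * u := by group
    rw [e1, hu2, mul_one, h5, mul_inv_rev, huinv, hvinv, mul_assoc, hu2, mul_one]

variable {G Ω : Type*} [Group G] [MulAction G Ω] {a : Ω} {t : G} {Q : Subgroup G}

theorem mem_involutionsIn {M : Type*} [Group M] {S : Set M} {x : M} :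
    x ∈ Cfsg.involutionsIn S ↔ x ∈ S ∧ x ≠ 1 ∧ x * x = 1 := Iff.rfl

/-- If `u` is an involution swapping `a` and `t • a` then `t u ∈ D` is inverted by `t`. -/
theorem swap_invol_mem (hS : Cfsg.IsRankOneSetup G Ω a t Q) {u : G} (hu2 : u * u = 1)
    (hua : u • a = t • a) :
    t * u ∈ Cfsg.invertedBy (stabilizer G a ⊓ stabilizer G (t • a)) t := by
  have ht2 := hS.mul_self
  have htinv : t⁻¹ = t := inv_eq_self_of_mul_self ht2
  have huinv : u⁻¹ = u := inv_eq_self_of_mul_self hu2
  have hub : u • (t • a) = a := by rw [← hua, ← mul_smul, hu2, one_smul]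
  refine ⟨Subgroup.mem_inf.mpr ⟨?_, ?_⟩, ?_⟩
  · rw [mem_stabilizer_iff, mul_smul, hua, t_smul_ta hS]
  · rw [mem_stabilizer_iff, mul_smul, hub]
  · rw [mul_inv_rev, huinv, htinv]
    have : t * (t * u) * t = (t * t) * u * t := by group
    rw [this, ht2, one_mul]

/-- The elements of `D` inverted by `t` act transitively by conjugation on the involutions
of `G_a`. -/
theorem inverted_trans [Finite G] (hS : Cfsg.IsRankOneSetup G Ω a t Q) {s s' : G}
    (hs : s ∈ Cfsg.involutionsIn (stabilizer G a : Set G))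
    (hs' : s' ∈ Cfsg.involutionsIn (stabilizer G a : Set G)) :
    ∃ k ∈ Cfsg.invertedBy (stabilizer G a ⊓ stabilizer G (t • a)) t, k⁻¹ * s * k = s' := by
  have ht2 := hS.mul_self
  have htinv : t⁻¹ = t := inv_eq_self_of_mul_self ht2
  obtain ⟨hsa, hs1, hs2⟩ := hs
  obtain ⟨hs'a, hs'1, hs'2⟩ := hs'
  have hsa' : s • a = a := hsa
  have hs'a' : s' • a = a := hs'a
  have hsb2 : (t * s * t) * (t * s * t) = 1 := by
    have : (t * s * t) * (t * s * t) = t * s * (t * t) * s * t := by group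
    rw [this, ht2, mul_one, mul_assoc t, hs2, mul_one, ht2]
  have hsb1 : t * s * t ≠ 1 := by
    intro e
    apply hs1
    have : s = t * (t * s * t) * t := by
      have : t * (t * s * t) * t = (t * t) * s * (t * t) := by group
      rw [this, ht2, one_mul, mul_one]
    rw [this, e, mul_one, ht2]
  have hsbfix : (t * s * t) • (t • a) = t • a := by
    simp only [mul_smul]
    rw [t_smul_ta hS, hsa']
  obtain ⟨w, hw2, hw⟩ := invol_conj_of_odd_order hsb2 hs'2
    (odd_order_mul hS hsb1 hsb2 hs'1 hs'2 hsbfix hs'a' (ta_ne hS))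
  -- `w` maps `t • a` to `a`
  have hwb : w • (t • a) = a := by
    have h1 : s' • (w • (t • a)) = w • (t • a) := by
      rw [← hw]
      simp only [mul_smul]
      rw [← mul_smul w w, hw2, one_smul]
      have := hsbfix
      simp only [mul_smul] at this
      rw [this]
    exact invol_fix_unique hS hs'1 hs'2 h1 hs'a'
  have hwa : w • a = t • a := by
    have h1 : w • (w • (t • a)) = w • a := by rw [hwb]
    rw [← mul_smul, hw2, one_smul] at h1
    exact h1.symm
  refine ⟨t * w, swap_invol_mem hS hw2 hwa, ?_⟩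
  have hwinv : w⁻¹ = w := inv_eq_self_of_mul_self hw2
  rw [mul_inv_rev, htinv, hwinv, ← hw]
  group

section count

variable (a t Q)

/-- The involutions of `G` moving `a`. -/
def movingInvols : Set G := {u | u ≠ 1 ∧ u * u = 1 ∧ u • a ≠ a}

variable {a t Q}

theorem x_ta_ne (hS : Cfsg.IsRankOneSetup G Ω a t Q) {x : G} (hx : x ∈ Q) : x • (t • a) ≠ a := by
  intro e
  have e' : x • (t • a) = x • a := by rw [e, Q_fix_a hS hx]
  exact ta_ne hS (smul_left_cancel _ e')

theorem x_inv_a (hS : Cfsg.IsRankOneSetup G Ω a t Q) {x : G} (hx : x ∈ Q) : x⁻¹ • a = a := by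
  rw [inv_smul_eq_iff, Q_fix_a hS hx]

theorem card_movingInvols_K [Finite G] (hS : Cfsg.IsRankOneSetup G Ω a t Q) :
    Nat.card (movingInvols (G := G) a) =
      Nat.card Q * Nat.card (Cfsg.invertedBy (stabilizer G a ⊓ stabilizer G (t • a)) t) := by
  have ht2 := hS.mul_self
  have htinv : t⁻¹ = t := inv_eq_self_of_mul_self ht2
  rw [← Nat.card_prod]
  symm
  have hwd : ∀ p : Q × (Cfsg.invertedBy (stabilizer G a ⊓ stabilizer G (t • a)) t),
      (p.1 : G) * t * (p.2 : G) * (p.1 : G)⁻¹ ∈ movingInvols (G := G) a := by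
    rintro ⟨⟨x, hx⟩, ⟨k, hk⟩⟩
    have hka : k • a = a := hk.1.1
    have htk2 : (t * k) * (t * k) = 1 := by
      have h := hk.2
      rw [htinv] at h
      have : (t * k) * (t * k) = (t * k * t) * k := by group
      rw [this, h, inv_mul_cancel]
    have hmove : (x * t * k * x⁻¹) • a ≠ a := by
      simp only [mul_smul]
      rw [x_inv_a hS hx, hka]
      exact x_ta_ne hS hx
    refine ⟨?_, ?_, hmove⟩
    · intro e
      apply hmove
      rw [e, one_smul]
    · have : (x * t * k * x⁻¹) * (x * t * k * x⁻¹) = x * ((t * k) * (t * k)) * x⁻¹ := by group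
      rw [this, htk2]; group
  let f : Q × (Cfsg.invertedBy (stabilizer G a ⊓ stabilizer G (t • a)) t) →
      movingInvols (G := G) a := fun p => ⟨_, hwd p⟩
  apply Nat.card_congr (Equiv.ofBijective f ⟨?_, ?_⟩)
  · rintro ⟨⟨x, hx⟩, ⟨k, hk⟩⟩ ⟨⟨x', hx'⟩, ⟨k', hk'⟩⟩ h
    have h1 : x * t * k * x⁻¹ = x' * t * k' * x'⁻¹ := congrArg Subtype.val h
    have hka : k • a = a := hk.1.1
    have hk'a : k' • a = a := hk'.1.1
    have h2 : x • (t • a) = x' • (t • a) := by
      have := congrArg (fun g : G => g • a) h1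
      simp only [mul_smul] at this
      rwa [x_inv_a hS hx, x_inv_a hS hx', hka, hk'a] at this
    have h3 : x = x' := Q_smul_unique hS (ta_ne hS) hx hx' h2
    subst h3
    have h4 : k = k' := by
      have e1 : k = t⁻¹ * x⁻¹ * (x * t * k * x⁻¹) * x := by group
      rw [e1, h1]; group
    subst h4
    rfl
  · rintro ⟨u, hu1, hu2, hua⟩
    obtain ⟨x, hx, hxb⟩ := exists_Q_smul hS (ta_ne hS) hua
    have huinv : u⁻¹ = u := inv_eq_self_of_mul_self hu2
    have hxinv : x⁻¹ • (u • a) = t • a := by rw [← hxb, inv_smul_smul]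
    have huu : u • (u • a) = a := by rw [← mul_smul, hu2, one_smul]
    have hk : t * x⁻¹ * u * x ∈ Cfsg.invertedBy (stabilizer G a ⊓ stabilizer G (t • a)) t := by
      refine ⟨Subgroup.mem_inf.mpr ⟨?_, ?_⟩, ?_⟩
      · rw [mem_stabilizer_iff]
        simp only [mul_smul]
        rw [Q_fix_a hS hx, hxinv, t_smul_ta hS]
      · rw [mem_stabilizer_iff]
        simp only [mul_smul]
        rw [hxb, huu, x_inv_a hS hx]
      · rw [htinv]
        have e1 : t * (t * x⁻¹ * u * x) * t = (t * t) * x⁻¹ * u * x * t := by group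
        rw [e1, ht2, one_mul]
        have e2 : (t * x⁻¹ * u * x)⁻¹ = x⁻¹ * u⁻¹ * x * t⁻¹ := by group
        rw [e2, huinv, htinv]
    refine ⟨(⟨x, hx⟩, ⟨_, hk⟩), ?_⟩
    apply Subtype.ext
    show x * t * (t * x⁻¹ * u * x) * x⁻¹ = u
    have : x * t * (t * x⁻¹ * u * x) * x⁻¹ = x * (t * t) * x⁻¹ * u := by group
    rw [this, ht2]; group

theorem card_movingInvols_I [Finite G] (hS : Cfsg.IsRankOneSetup G Ω a t Q) :
    Nat.card (movingInvols (G := G) a) =
      Nat.card Q * Nat.card (Cfsg.involutionsIn (stabilizer G a : Set G)) := by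
  have ht2 := hS.mul_self
  have htinv : t⁻¹ = t := inv_eq_self_of_mul_self ht2
  rw [← Nat.card_prod]
  symm
  have hfixpt : ∀ (x s : G), s • a = a → ((x * t) * s * (x * t)⁻¹) • (x • (t • a)) = x • (t • a) := by
    intro x s hsa
    have : ((x * t) * s * (x * t)⁻¹) = x * t * s * t⁻¹ * x⁻¹ := by group
    rw [this]
    simp only [mul_smul]
    rw [inv_smul_smul, inv_smul_smul, hsa]
  have hwd : ∀ p : Q × (Cfsg.involutionsIn (stabilizer G a : Set G)),
      ((p.1 : G) * t) * (p.2 : G) * ((p.1 : G) * t)⁻¹ ∈ movingInvols (G := G) a := by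
    rintro ⟨⟨x, hx⟩, ⟨s, hsa, hs1, hs2⟩⟩
    have hsa' : s • a = a := hsa
    have hu2 : ((x * t) * s * (x * t)⁻¹) * ((x * t) * s * (x * t)⁻¹) = 1 := by
      have : ((x * t) * s * (x * t)⁻¹) * ((x * t) * s * (x * t)⁻¹) =
          (x * t) * (s * s) * (x * t)⁻¹ := by group
      rw [this, hs2]; group
    have hu1 : (x * t) * s * (x * t)⁻¹ ≠ 1 := by
      intro e
      apply hs1
      have : s = (x * t)⁻¹ * ((x * t) * s * (x * t)⁻¹) * (x * t) := by group
      rw [this, e]; group
    refine ⟨hu1, hu2, ?_⟩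
    intro e
    exact x_ta_ne hS hx (invol_fix_unique hS hu1 hu2 (hfixpt x s hsa') e)
  let f : Q × (Cfsg.involutionsIn (stabilizer G a : Set G)) →
      movingInvols (G := G) a := fun p => ⟨_, hwd p⟩
  apply Nat.card_congr (Equiv.ofBijective f ⟨?_, ?_⟩)
  · rintro ⟨⟨x, hx⟩, ⟨s, hs⟩⟩ ⟨⟨x', hx'⟩, ⟨s', hs'⟩⟩ h
    have h1 : (x * t) * s * (x * t)⁻¹ = (x' * t) * s' * (x' * t)⁻¹ := congrArg Subtype.val h
    have hu := hwd (⟨x, hx⟩, ⟨s, hs⟩)
    have hf1 := hfixpt x s hs.1
    have hf2 := hfixpt x' s' hs'.1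
    rw [← h1] at hf2
    have h2 : x • (t • a) = x' • (t • a) := invol_fix_unique hS hu.1 hu.2.1 hf1 hf2
    have h3 : x = x' := Q_smul_unique hS (ta_ne hS) hx hx' h2
    subst h3
    have h4 : s = s' := by
      have e1 : s = (x * t)⁻¹ * ((x * t) * s * (x * t)⁻¹) * (x * t) := by group
      rw [e1, h1]; group
    subst h4
    rfl
  · rintro ⟨u, hu1, hu2, hua⟩
    obtain ⟨p, hp⟩ := invol_exists_fix hS hu2
    have hpa : p ≠ a := by
      intro e
      rw [e] at hp
      exact hua hp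
    obtain ⟨x, hx, hxb⟩ := exists_Q_smul hS (ta_ne hS) hpa
    have hs : (x * t)⁻¹ * u * (x * t) ∈ Cfsg.involutionsIn (stabilizer G a : Set G) := by
      refine ⟨?_, ?_, ?_⟩
      · show (x * t)⁻¹ * u * (x * t) ∈ stabilizer G a
        rw [mem_stabilizer_iff]
        have : (x * t)⁻¹ * u * (x * t) = t⁻¹ * x⁻¹ * u * x * t := by group
        rw [this]
        simp only [mul_smul]
        rw [hxb, hp, ← hxb, inv_smul_smul, inv_smul_smul]
      · intro e
        apply hu1
        have : u = (x * t) * ((x * t)⁻¹ * u * (x * t)) * (x * t)⁻¹ := by group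
        rw [this, e]; group
      · have : ((x * t)⁻¹ * u * (x * t)) * ((x * t)⁻¹ * u * (x * t)) =
            (x * t)⁻¹ * (u * u) * (x * t) := by group
        rw [this, hu2]; group
    refine ⟨(⟨x, hx⟩, ⟨_, hs⟩), ?_⟩
    apply Subtype.ext
    show (x * t) * ((x * t)⁻¹ * u * (x * t)) * (x * t)⁻¹ = u
    group

theorem card_inverted_eq [Finite G] (hS : Cfsg.IsRankOneSetup G Ω a t Q) :
    Nat.card (Cfsg.invertedBy (stabilizer G a ⊓ stabilizer G (t • a)) t) =
      Nat.card (Cfsg.involutionsIn (stabilizer G a : Set G)) := by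
  have h1 := card_movingInvols_K hS
  have h2 := card_movingInvols_I hS
  rw [h1] at h2
  exact Nat.eq_of_mul_eq_mul_left Nat.card_pos h2

end count

end Cfsg.Agent.Helper19
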