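import Mathlib
import Cfsg.Prelude.Def_LieExceptional
import Cfsg.Agent.S0883
import Cfsg.Agent.Lib.Helper19.ZassInvol

set_option autoImplicit false

/-! Counting pairs of involutions by the conjugacy class of their product (for Feit's lemma on the
classes of a simple Zassenhaus group missing the Frobenius kernel of a point stabiliser). -/

namespace Cfsg.Agent.Helper19.ZassClasses

open MulAction

theorem orderOf_conj' {M : Type*} [Group M] (c x : M) : orderOf (c * x * c⁻¹) = orderOf x := by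
  rw [← MulAut.conj_apply]
  exact MulEquiv.orderOf_eq _ _

theorem mul_self_of_orderOf_two {M : Type*} [Group M] {x : M} (hx : orderOf x = 2) : x * x = 1 := by
  rw [← pow_two, ← hx, pow_orderOf_eq_one]

theorem ne_one_of_orderOf_two {M : Type*} [Group M] {x : M} (hx : orderOf x = 2) : x ≠ 1 := by
  rintro rfl
  simp at hx

/-- The pairs of involutions whose product lies in a given conjugacy class number at most `|G|`. -/
theorem card_pairs_class_le {M : Type*} [Group M] [Fintype M] [DecidableEq M]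
    (K : ConjClasses M) (S : Finset (M × M))
    (hS : ∀ p ∈ S, p.1 * p.1 = 1 ∧ p.2 * p.2 = 1 ∧ ConjClasses.mk (p.1 * p.2) = K) :
    S.card ≤ Fintype.card M := by
  obtain ⟨g₀, rfl⟩ := ConjClasses.mk_surjective K
  have hex : ∀ g : M, ∃ t : M, ConjClasses.mk g = ConjClasses.mk g₀ → t * g * t⁻¹ = g₀ := by
    intro g
    by_cases hg : ConjClasses.mk g = ConjClasses.mk g₀
    · have hg' := hg
      rw [ConjClasses.mk_eq_mk_iff_isConj, isConj_iff] at hg'
      obtain ⟨t, ht⟩ := hg'
      exact ⟨t, fun _ => ht⟩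
    · exact ⟨1, fun h => absurd h hg⟩
  choose t ht using hex
  have key : ∀ r : M × M, r.1 * r.1 = 1 → r.2 * r.2 = 1 →
      ConjClasses.mk (r.1 * r.2) = ConjClasses.mk g₀ →
      (r.1 * (t (r.1 * r.2))⁻¹) * g₀ * (r.1 * (t (r.1 * r.2))⁻¹)⁻¹ = (r.1 * r.2)⁻¹ := by
    intro r h1 h2 hK
    have h3 := ht (r.1 * r.2) hK
    have hx : r.1⁻¹ = r.1 := inv_eq_of_mul_eq_one_left h1
    have hy : r.2⁻¹ = r.2 := inv_eq_of_mul_eq_one_left h2
    rw [← h3]
    calc r.1 * (t (r.1 * r.2))⁻¹ * (t (r.1 * r.2) * (r.1 * r.2) * (t (r.1 * r.2))⁻¹) *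
          (r.1 * (t (r.1 * r.2))⁻¹)⁻¹ = r.1 * (r.1 * r.2) * r.1⁻¹ := by group
      _ = r.2 * r.1 := by rw [hx, ← mul_assoc r.1, h1, one_mul]
      _ = (r.1 * r.2)⁻¹ := by rw [mul_inv_rev, hx, hy]
  rw [← Finset.card_univ]
  apply Finset.card_le_card_of_injOn (fun p => p.1 * (t (p.1 * p.2))⁻¹)
  · intro p _
    exact Finset.mem_coe.mpr (Finset.mem_univ _)
  · intro p hp q hq hpq
    obtain ⟨hp1, hp2, hpK⟩ := hS p (Finset.mem_coe.mp hp)
    obtain ⟨hq1, hq2, hqK⟩ := hS q (Finset.mem_coe.mp hq)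
    have hpq' : p.1 * (t (p.1 * p.2))⁻¹ = q.1 * (t (q.1 * q.2))⁻¹ := hpq
    have hg : p.1 * p.2 = q.1 * q.2 := by
      have e1 := key p hp1 hp2 hpK
      have e2 := key q hq1 hq2 hqK
      rw [hpq'] at e1
      exact inv_injective (e1.symm.trans e2)
    rw [hg] at hpq'
    have h1 : p.1 = q.1 := mul_right_cancel hpq'
    have h2 : p.2 = q.2 := by
      rw [h1] at hg
      exact mul_left_cancel hg
    exact Prod.ext h1 h2

variable {G Ω : Type*} [Group G] [MulAction G Ω] [Finite G] [Fintype Ω]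

/-- The number of fixed points of an involution. -/
theorem card_fix_involution [DecidableEq Ω] {h : ℕ} (hh : Fintype.card Ω = h + 1)
    (hodd' : ∀ c d : Ω, c ≠ d → Odd (Nat.card ↥(stabilizer G c ⊓ stabilizer G d))) {x : G}
    (hx2 : orderOf x = 2) :
    (Finset.univ.filter (fun c : Ω => x • c = c)).card = if Even h then 1 else 0 := by
  have hle : (Finset.univ.filter (fun c : Ω => x • c = c)).card ≤ 1 := by
    rw [Finset.card_le_one]
    intro c hc d hd
    exact ZassInvol.fix_unique hodd' hx2 (Finset.mem_filter.mp hc).2 (Finset.mem_filter.mp hd).2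
  have hpar := Cfsg.Agent.S0740.fixedBy_parity (Ω := Ω) x hx2
  rw [Cfsg.Agent.S0740.card_fixedBy_eq, hh] at hpar
  unfold Nat.ModEq at hpar
  split_ifs with hev
  · have := Nat.even_iff.mp hev
    omega
  · have := Nat.odd_iff.mp (Nat.not_even_iff_odd.mp hev)
    omega

section Main

variable [IsSimpleGroup G] {a b : Ω}

/-- A product of two distinct involutions that is conjugate into `H` is an involution. -/
theorem prod_invol (hZ : Cfsg.IsZassenhausGroup G Ω) (hab : a ≠ b) (h e : ℕ)
    (hh : Fintype.card Ω = h + 1)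
    (he : Nat.card ↥(MulAction.stabilizer G a ⊓ MulAction.stabilizer G b : Subgroup G) = e)
    (hodd : Odd e) (hlt : 2 * e < h - 1) (H : Subgroup G) (hHa : H ≤ MulAction.stabilizer G a)
    (hHcard : Nat.card H + 1 = Fintype.card Ω)
    (hHfix : ∀ u ∈ H, u ≠ 1 → ∀ c : Ω, u • c = c → c = a)
    {x y t : G} (hx : orderOf x = 2) (hy : orderOf y = 2) (hxy : x ≠ y)
    (hmem : t * (x * y) * t⁻¹ ∈ H) : orderOf (x * y) = 2 := by
  have hxx := mul_self_of_orderOf_two hx
  have hu1 : t * (x * y) * t⁻¹ ≠ 1 := by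
    intro h1
    have h2 : x * y = 1 := by
      have : x * y = t⁻¹ * (t * (x * y) * t⁻¹) * t := by group
      rw [this, h1]; group
    exact hxy (mul_left_cancel (h2.trans hxx.symm)).symm
  have := Cfsg.Agent.S0883.result hZ hab h e hh he hodd hlt H hHa hHcard hHfix
    (t * (x * y) * t⁻¹) hmem hu1 (t * x * t⁻¹) (t * y * t⁻¹) (by rw [orderOf_conj', hx])
    (by rw [orderOf_conj', hy]) (by group)
  rwa [orderOf_conj'] at this

omit [IsSimpleGroup G] in
/-- For `h` even, an involution `x` has at most `h - 2` involutions `y ≠ x` with `x y` an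
involution. -/
theorem card_commuting_le [Fintype G] [DecidableEq G] (hZ : Cfsg.IsZassenhausGroup G Ω) (h e : ℕ)
    (hh : Fintype.card Ω = h + 1)
    (hcard : ∀ c d : Ω, c ≠ d → Nat.card ↥(stabilizer G c ⊓ stabilizer G d) = e) (hodd : Odd e)
    (hev : Even h) {x : G} (hx : orderOf x = 2) (S : Finset (G × G))
    (hS : ∀ p ∈ S, p.1 = x ∧ orderOf p.2 = 2 ∧ p.2 ≠ x ∧ orderOf (x * p.2) = 2) :
    S.card ≤ h - 2 := by
  classical
  have hodd' : ∀ c d : Ω, c ≠ d → Odd (Nat.card ↥(stabilizer G c ⊓ stabilizer G d)) :=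
    fun c d hcd => by rw [hcard c d hcd]; exact hodd
  have hfixcard := card_fix_involution hh hodd' hx
  rw [if_pos hev] at hfixcard
  obtain ⟨c, hc⟩ := Finset.card_eq_one.mp hfixcard
  have hxc : x • c = c := by
    have : c ∈ Finset.univ.filter (fun c : Ω => x • c = c) := by
      rw [hc]; exact Finset.mem_singleton_self c
    exact (Finset.mem_filter.mp this).2
  obtain ⟨Hc, hHca, hHccard, hHcfix⟩ := ZassD.exists_kernel hZ c
  obtain ⟨c', hc'⟩ := Cfsg.Agent.Helper96.zass_exists_ne hZ c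
  have hmemH : ∀ z : G, z • c = c → z * z = 1 → z ∈ Hc := fun z hz hzz =>
    ZassH.invol_mem_H hZ hHca hHccard hHcfix hc' (hodd' c c' hc'.symm) hz hzz
  have hxx := mul_self_of_orderOf_two hx
  have hx1 := ne_one_of_orderOf_two hx
  have hxH : x ∈ Hc := hmemH x hxc hxx
  have hTcard : (((Finset.univ.filter (fun z : G => z ∈ Hc)).erase 1).erase x).card = h - 2 := by
    rw [Finset.card_erase_of_mem, Finset.card_erase_of_mem, ← Fintype.card_subtype,
      ← Nat.card_eq_fintype_card]
    · have : Nat.card Hc = h := by omega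
      have h2 : Nat.card {z : G // z ∈ Hc} = h := this
      rw [h2]; omega
    · simp [Hc.one_mem]
    · simp [hx1, hxH]
  rw [← hTcard]
  apply Finset.card_le_card_of_injOn (fun p => x * p.2)
  · intro p hp
    obtain ⟨hp1, hp2, hp3, hp4⟩ := hS p (Finset.mem_coe.mp hp)
    have hyy := mul_self_of_orderOf_two hp2
    have hzz := mul_self_of_orderOf_two hp4
    have hcomm : x * p.2 = p.2 * x := by
      have h1 : x * p.2 = (x * p.2)⁻¹ := (inv_eq_of_mul_eq_one_left hzz).symm
      rw [mul_inv_rev, inv_eq_of_mul_eq_one_left hxx, inv_eq_of_mul_eq_one_left hyy] at h1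
      exact h1
    have hzc : (x * p.2) • c = c := by
      have h5 : x • ((x * p.2) • c) = (x * p.2) • c := by
        rw [← mul_smul, ← mul_assoc, hxx, one_mul, hcomm, mul_smul, hxc]
      exact ZassInvol.fix_unique hodd' hx h5 hxc
    have hzH : x * p.2 ∈ Hc := hmemH _ hzc hzz
    rw [Finset.mem_coe, Finset.mem_erase, Finset.mem_erase, Finset.mem_filter]
    refine ⟨?_, ?_, Finset.mem_univ _, hzH⟩
    · intro h1
      have : p.2 = 1 := by
        have h6 : x * p.2 = x * 1 := by rw [mul_one]; exact h1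
        exact mul_left_cancel h6
      exact ne_one_of_orderOf_two hp2 this
    · intro h1
      exact hp3 (mul_left_cancel (h1.trans hxx.symm))
  · intro p hp q hq hpq
    obtain ⟨hp1, -, -, -⟩ := hS p (Finset.mem_coe.mp hp)
    obtain ⟨hq1, -, -, -⟩ := hS q (Finset.mem_coe.mp hq)
    have h2 : p.2 = q.2 := mul_left_cancel (show x * p.2 = x * q.2 from hpq)
    exact Prod.ext (hp1.trans hq1.symm) h2

/-- Feit: at least `e` conjugacy classes of a simple Zassenhaus group (with `e` odd,
`2e < h - 1`) contain no element of the Frobenius kernel `H` of a point stabiliser. -/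
theorem classes_avoiding_kernel (hZ : Cfsg.IsZassenhausGroup G Ω) (hab : a ≠ b) (h e : ℕ)
    (hh : Fintype.card Ω = h + 1)
    (he : Nat.card ↥(MulAction.stabilizer G a ⊓ MulAction.stabilizer G b : Subgroup G) = e)
    (hodd : Odd e) (hlt : 2 * e < h - 1) (H : Subgroup G) (hHa : H ≤ MulAction.stabilizer G a)
    (hHcard : Nat.card H + 1 = Fintype.card Ω)
    (hHfix : ∀ u ∈ H, u ≠ 1 → ∀ c : Ω, u • c = c → c = a) :
    e ≤ Nat.card {C : ConjClasses G // ∀ g : G, ConjClasses.mk g = C → g ∉ H} := by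
  classical
  haveI := Fintype.ofFinite G
  have hcard : ∀ c d : Ω, c ≠ d →
      Nat.card ↥(MulAction.stabilizer G c ⊓ MulAction.stabilizer G d) = e := fun c d hcd =>
    (ZassH.card_stab_inf_eq hZ.2.1 hab hcd).trans he
  have hodd' : ∀ c d : Ω, c ≠ d →
      Odd (Nat.card ↥(MulAction.stabilizer G c ⊓ MulAction.stabilizer G d)) :=
    fun c d hcd => by rw [hcard c d hcd]; exact hodd
  have hnil : ∀ c d : Ω, c ≠ d → ∀ q : ℕ, q.Prime →
      q ∣ Nat.card ↥(MulAction.stabilizer G c ⊓ MulAction.stabilizer G d) →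
      ¬ ∃ N : Subgroup G, N.Normal ∧ N.index = q ^ (Nat.card G).factorization q :=
    fun c d hcd => ZassInvol.hnil_of_simple hZ hcd (hodd' c d hcd)
  have h3 := Cfsg.Agent.S0878.card_ge_three hZ
  have hHh : Nat.card H = h := by omega
  have hG : Fintype.card G = (h + 1) * (h * e) := by
    have := ZassD.card_G hZ hHa hHcard hHfix hab
    rw [hHh, he, Nat.card_eq_fintype_card] at this
    exact this
  have hIcard : (Finset.univ.filter (fun x : G => orderOf x = 2)).card =
      if Even h then e * (h + 1) else e * h := by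
    rw [← ZassInvol.card_involutions hZ hh hcard hodd hnil, Nat.card_eq_fintype_card,
      Fintype.card_subtype]
  generalize hInv : Finset.univ.filter (fun x : G => orderOf x = 2) = Inv at hIcard
  have hInvmem : ∀ x, x ∈ Inv ↔ orderOf x = 2 := by
    intro x
    rw [← hInv]
    simp
  have hAcard : Nat.card {C : ConjClasses G // ∀ g : G, ConjClasses.mk g = C → g ∉ H} =
      (Finset.univ.filter
        (fun C : ConjClasses G => ∀ g : G, ConjClasses.mk g = C → g ∉ H)).card := by
    rw [Nat.card_eq_fintype_card, Fintype.card_subtype]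
  rw [hAcard]
  generalize hA : Finset.univ.filter
    (fun C : ConjClasses G => ∀ g : G, ConjClasses.mk g = C → g ∉ H) = A
  have hAmem : ∀ C, C ∈ A ↔ ∀ g : G, ConjClasses.mk g = C → g ∉ H := by
    intro C
    rw [← hA]
    simp
  have hP := Finset.offDiag_card Inv
  have hsplit := Finset.card_filter_add_card_filter_not (s := Inv.offDiag)
    (fun p : G × G => ConjClasses.mk (p.1 * p.2) ∈ A)
  have hP1 : (Inv.offDiag.filter (fun p : G × G => ConjClasses.mk (p.1 * p.2) ∈ A)).card ≤
      A.card * Fintype.card G := by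
    rw [Finset.card_eq_sum_card_fiberwise (f := fun p : G × G => ConjClasses.mk (p.1 * p.2))
      (t := A)]
    · refine (Finset.sum_le_card_nsmul _ _ _ (fun K _ => ?_)).trans_eq (by rw [smul_eq_mul])
      apply card_pairs_class_le K
      intro p hp
      obtain ⟨hp1, hpK⟩ := Finset.mem_filter.mp hp
      obtain ⟨hp2, -⟩ := Finset.mem_filter.mp hp1
      obtain ⟨hpx, hpy, -⟩ := Finset.mem_offDiag.mp hp2
      exact ⟨mul_self_of_orderOf_two ((hInvmem _).mp hpx),
        mul_self_of_orderOf_two ((hInvmem _).mp hpy), hpK⟩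
    · intro p hp
      exact Finset.mem_coe.mpr (Finset.mem_filter.mp (Finset.mem_coe.mp hp)).2
  have hkey : ∀ p ∈ Inv.offDiag.filter (fun p : G × G => ¬ ConjClasses.mk (p.1 * p.2) ∈ A),
      orderOf p.1 = 2 ∧ orderOf p.2 = 2 ∧ p.1 ≠ p.2 ∧ orderOf (p.1 * p.2) = 2 ∧
        ∃ t : G, t * (p.1 * p.2) * t⁻¹ ∈ H := by
    intro p hp
    obtain ⟨hp1, hpA⟩ := Finset.mem_filter.mp hp
    obtain ⟨hpx, hpy, hne⟩ := Finset.mem_offDiag.mp hp1
    rw [hAmem] at hpA
    push Not at hpA
    obtain ⟨g, hgK, hgH⟩ := hpA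
    rw [ConjClasses.mk_eq_mk_iff_isConj, isConj_iff] at hgK
    obtain ⟨t, ht⟩ := hgK
    have hmem : t⁻¹ * (p.1 * p.2) * t⁻¹⁻¹ ∈ H := by
      rw [← ht]
      have : t⁻¹ * (t * g * t⁻¹) * t⁻¹⁻¹ = g := by group
      rw [this]
      exact hgH
    have hx2 := (hInvmem _).mp hpx
    have hy2 := (hInvmem _).mp hpy
    exact ⟨hx2, hy2, hne,
      prod_invol hZ hab h e hh he hodd hlt H hHa hHcard hHfix hx2 hy2 hne hmem, t⁻¹, hmem⟩
  have hP2 : (Inv.offDiag.filter (fun p : G × G => ¬ ConjClasses.mk (p.1 * p.2) ∈ A)).card ≤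
      if Even h then Inv.card * (h - 2) else 0 := by
    split_ifs with hev
    · rw [Finset.card_eq_sum_card_fiberwise (f := fun p : G × G => p.1) (t := Inv)]
      · refine (Finset.sum_le_card_nsmul _ _ _ (fun x hx => ?_)).trans_eq (by rw [smul_eq_mul])
        apply card_commuting_le hZ h e hh hcard hodd hev ((hInvmem x).mp hx)
        intro p hp
        obtain ⟨hp1, hpx⟩ := Finset.mem_filter.mp hp
        obtain ⟨-, h2, h3', h4, -⟩ := hkey p hp1
        refine ⟨hpx, h2, ?_, ?_⟩
        · rw [← hpx]; exact Ne.symm h3'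
        · rw [← hpx]; exact h4
      · intro p hp
        exact Finset.mem_coe.mpr ((hInvmem _).mpr (hkey p (Finset.mem_coe.mp hp)).1)
    · rw [Nat.le_zero, Finset.card_eq_zero, Finset.filter_eq_empty_iff]
      intro p hp hpA
      have hp' : p ∈ Inv.offDiag.filter (fun p : G × G => ¬ ConjClasses.mk (p.1 * p.2) ∈ A) :=
        Finset.mem_filter.mpr ⟨hp, hpA⟩
      obtain ⟨-, -, -, h4, t, ht⟩ := hkey p hp'
      have ho : orderOf (t * (p.1 * p.2) * t⁻¹) = 2 := by rw [orderOf_conj', h4]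
      have hfix := card_fix_involution hh hodd' ho
      rw [if_neg hev, Finset.card_eq_zero, Finset.filter_eq_empty_iff] at hfix
      exact hfix (Finset.mem_univ a) (hHa ht)
  -- arithmetic
  by_contra hcon
  push Not at hcon
  have hc1 : A.card + 1 ≤ e := hcon
  obtain ⟨k, rfl⟩ : ∃ k, h = k + 2 := ⟨h - 2, by omega⟩
  have hII : Inv.card ≤ Inv.card * Inv.card := by
    rcases Nat.eq_zero_or_pos Inv.card with h0 | h0
    · rw [h0]
    · exact Nat.le_mul_of_pos_left _ h0
  have htot : Inv.card * Inv.card ≤ A.card * ((k + 2 + 1) * ((k + 2) * e)) +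
      (if Even (k + 2) then Inv.card * (k + 2 - 2) else 0) + Inv.card := by
    rw [← hG]
    omega
  have he1 : 1 ≤ e := by
    rcases hodd with ⟨j, hj⟩
    omega
  by_cases hev : Even (k + 2)
  · rw [if_pos hev] at htot hIcard
    rw [hIcard] at htot
    have e1 : k + 2 - 2 = k := by omega
    rw [e1] at htot
    -- e(k+3) * e(k+3) ≤ c (k+3)(k+2) e + e (k+3) k + e (k+3)
    have hpos : 0 < e * (k + 2 + 1) := Nat.mul_pos he1 (by omega)
    have h5 : e * (k + 2 + 1) * (e * (k + 2 + 1)) ≤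
        e * (k + 2 + 1) * (A.card * (k + 2) + k + 1) := by
      calc e * (k + 2 + 1) * (e * (k + 2 + 1))
          ≤ A.card * ((k + 2 + 1) * ((k + 2) * e)) + e * (k + 2 + 1) * k + e * (k + 2 + 1) := htot
        _ = e * (k + 2 + 1) * (A.card * (k + 2) + k + 1) := by ring
    have h6 := Nat.le_of_mul_le_mul_left h5 hpos
    have h7 := Nat.mul_le_mul_right (k + 2) hc1
    nlinarith [h6, h7]
  · rw [if_neg hev] at htot hIcard
    rw [hIcard] at htot
    have hpos : 0 < e * (k + 2) := Nat.mul_pos he1 (by omega)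
    have h5 : e * (k + 2) * (e * (k + 2)) ≤ e * (k + 2) * (A.card * (k + 2 + 1) + 1) := by
      calc e * (k + 2) * (e * (k + 2))
          ≤ A.card * ((k + 2 + 1) * ((k + 2) * e)) + 0 + e * (k + 2) := htot
        _ = e * (k + 2) * (A.card * (k + 2 + 1) + 1) := by ring
    have h6 := Nat.le_of_mul_le_mul_left h5 hpos
    have h7 := Nat.mul_le_mul_right (k + 2 + 1) hc1
    have h8 : 2 * e < k + 1 := by omega
    nlinarith [h6, h7, h8]

end Main

end Cfsg.Agent.Helper19.ZassClasses
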