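import Mathlib

/-!
# Counting solutions of `∑ x i * y i = c` over a finite field

`N(c) = #{(x, y) ∈ F^ι × F^ι : ∑ x i * y i = c} = (q^m - 1) q^(m-1) + [c = 0] q^m`.
-/

set_option autoImplicit false

namespace Cfsg.Agent.Helper19

open Finset

variable {F : Type*} [Field F] [Fintype F] {ι : Type*} [Fintype ι] [DecidableEq ι]

/-- For `x ≠ 0`, the fibres of `y ↦ ∑ x i * y i` all have `q^m / q` elements. -/
theorem card_dot_fiber_mul (x : ι → F) (hx : x ≠ 0) (c : F) :
    Nat.card {y : ι → F // ∑ i, x i * y i = c} * Fintype.card F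
      = Fintype.card F ^ Fintype.card ι := by
  classical
  obtain ⟨i0, hi0⟩ : ∃ i, x i ≠ 0 := by
    by_contra h
    push Not at h
    exact hx (funext h)
  have hdot : ∀ (y : ι → F) (t : F),
      ∑ i, x i * ((y + Pi.single i0 (t / x i0) : ι → F) i) = (∑ i, x i * y i) + t := by
    intro y t
    simp only [Pi.add_apply, mul_add, Finset.sum_add_distrib]
    congr 1
    rw [Finset.sum_eq_single i0]
    · simp [mul_div_cancel₀ _ hi0]
    · intro j _ hj
      simp [Pi.single_eq_of_ne hj]
    · intro h
      exact absurd (Finset.mem_univ i0) h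
  let e : {y : ι → F // ∑ i, x i * y i = c} × F ≃ (ι → F) :=
    { toFun := fun p => p.1.1 + Pi.single i0 (p.2 / x i0)
      invFun := fun z =>
        (⟨z + Pi.single i0 ((c - ∑ i, x i * z i) / x i0), by
            rw [hdot]; ring⟩, (∑ i, x i * z i) - c)
      left_inv := by
        rintro ⟨⟨y, hy⟩, t⟩
        have h1 : ∑ i, x i * ((y + Pi.single i0 (t / x i0) : ι → F) i) = c + t := by
          rw [hdot, hy]
        ext j
        · simp only
          rw [h1]
          by_cases hj : j = i0
          · subst hj
            simp only [Pi.add_apply, Pi.single_eq_same]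
            field_simp
            ring
          · simp [Pi.single_eq_of_ne hj]
        · simp only
          rw [h1]; ring
      right_inv := by
        intro z
        simp only
        funext j
        by_cases hj : j = i0
        · subst hj
          simp only [Pi.add_apply, Pi.single_eq_same]
          field_simp
          ring
        · simp [Pi.single_eq_of_ne hj] }
  have := Nat.card_congr e
  rw [Nat.card_prod, Nat.card_eq_fintype_card (α := F), Nat.card_eq_fintype_card (α := ι → F),
    Fintype.card_fun] at this
  exact this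

/-- For `x ≠ 0`, the fibres of `y ↦ ∑ x i * y i` all have `q^(m-1)` elements. -/
theorem card_dot_fiber (x : ι → F) (hx : x ≠ 0) (c : F) :
    Nat.card {y : ι → F // ∑ i, x i * y i = c}
      = Fintype.card F ^ (Fintype.card ι - 1) := by
  classical
  have h := card_dot_fiber_mul x hx c
  have hpos : 0 < Fintype.card ι := by
    obtain ⟨i0, -⟩ : ∃ i, x i ≠ 0 := by
      by_contra h
      push Not at h
      exact hx (funext h)
    exact Fintype.card_pos_iff.mpr ⟨i0⟩
  have hq : 0 < Fintype.card F := Fintype.card_pos
  have : Fintype.card F ^ Fintype.card ι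
      = Fintype.card F ^ (Fintype.card ι - 1) * Fintype.card F := by
    rw [← pow_succ]
    congr 1
    omega
  rw [this] at h
  exact Nat.eq_of_mul_eq_mul_right hq h

/-- The fibre over `c` at `x = 0`. -/
theorem card_dot_fiber_zero [DecidableEq F] (c : F) :
    Nat.card {y : ι → F // ∑ i, (0 : ι → F) i * y i = c}
      = if c = 0 then Fintype.card F ^ Fintype.card ι else 0 := by
  classical
  split_ifs with hc
  · subst hc
    have : ∀ y : ι → F, ∑ i, (0 : ι → F) i * y i = 0 := by
      intro y; simp
    rw [Nat.card_congr (Equiv.subtypeUnivEquiv this), Nat.card_eq_fintype_card,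
      Fintype.card_fun]
  · have : IsEmpty {y : ι → F // ∑ i, (0 : ι → F) i * y i = c} := by
      constructor
      rintro ⟨y, hy⟩
      simp at hy
      exact hc hy.symm
    exact Nat.card_of_isEmpty

/-- `#{(x, y) : ∑ x i * y i = c} = (q^m - 1) q^(m-1) + [c = 0] q^m`. -/
theorem card_dot_pairs [DecidableEq F] (c : F) :
    Nat.card {p : (ι → F) × (ι → F) // ∑ i, p.1 i * p.2 i = c}
      = (Fintype.card F ^ Fintype.card ι - 1) * Fintype.card F ^ (Fintype.card ι - 1)
        + if c = 0 then Fintype.card F ^ Fintype.card ι else 0 := by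
  classical
  rw [Nat.card_congr (Equiv.subtypeProdEquivSigmaSubtype
    (fun (x y : ι → F) => ∑ i, x i * y i = c))]
  rw [Nat.card_eq_fintype_card, Fintype.card_sigma]
  rw [← Finset.add_sum_erase Finset.univ _ (Finset.mem_univ (0 : ι → F))]
  rw [add_comm]
  congr 1
  · rw [Finset.sum_congr rfl (g := fun _ => Fintype.card F ^ (Fintype.card ι - 1))]
    · rw [Finset.sum_const, Finset.card_erase_of_mem (Finset.mem_univ _), Finset.card_univ,
        Fintype.card_fun, smul_eq_mul]
    · intro x hx
      rw [← Nat.card_eq_fintype_card]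
      exact card_dot_fiber x (Finset.ne_of_mem_erase hx) c
  · rw [← Nat.card_eq_fintype_card]
    exact card_dot_fiber_zero c

/-- The same count on `ι ⊕ ι → F`. -/
theorem card_dot_sum [DecidableEq F] (c : F) :
    Nat.card {v : ι ⊕ ι → F // ∑ i, v (Sum.inl i) * v (Sum.inr i) = c}
      = (Fintype.card F ^ Fintype.card ι - 1) * Fintype.card F ^ (Fintype.card ι - 1)
        + if c = 0 then Fintype.card F ^ Fintype.card ι else 0 := by
  classical
  rw [← card_dot_pairs c]
  refine Nat.card_congr ((Equiv.sumArrowEquivProdArrow ι ι F).subtypeEquiv ?_)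
  intro v
  simp [Equiv.sumArrowEquivProdArrow]

/-- Zeros of `g z + ∑ x i * y i` where `g` is any function of extra variables. -/
theorem card_add_dot_prod {α : Type*} [Fintype α] [DecidableEq F] (g : (α → F) → F) :
    Nat.card {p : (α → F) × (ι ⊕ ι → F) //
        g p.1 + ∑ i, p.2 (Sum.inl i) * p.2 (Sum.inr i) = 0}
      = Fintype.card F ^ Fintype.card α *
          ((Fintype.card F ^ Fintype.card ι - 1) * Fintype.card F ^ (Fintype.card ι - 1))
        + Nat.card {z : α → F // g z = 0} * Fintype.card F ^ Fintype.card ι := by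
  classical
  rw [Nat.card_congr (Equiv.subtypeProdEquivSigmaSubtype
    (fun (z : α → F) (w : ι ⊕ ι → F) =>
      g z + ∑ i, w (Sum.inl i) * w (Sum.inr i) = 0))]
  rw [Nat.card_eq_fintype_card, Fintype.card_sigma]
  have key : ∀ z : α → F,
      Fintype.card {w : ι ⊕ ι → F // g z + ∑ i, w (Sum.inl i) * w (Sum.inr i) = 0}
        = (Fintype.card F ^ Fintype.card ι - 1) * Fintype.card F ^ (Fintype.card ι - 1)
          + if g z = 0 then Fintype.card F ^ Fintype.card ι else 0 := by
    intro z
    rw [← Nat.card_eq_fintype_card]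
    have h := card_dot_sum (F := F) (ι := ι) (- g z)
    simp only [neg_eq_zero] at h
    rw [← h]
    refine Nat.card_congr (Equiv.subtypeEquivRight ?_)
    intro w
    constructor
    · intro hw
      exact eq_neg_of_add_eq_zero_right hw
    · intro hw
      rw [hw]; ring
  rw [Finset.sum_congr rfl (fun z _ => key z), Finset.sum_add_distrib, Finset.sum_const,
    Finset.card_univ, Fintype.card_fun, smul_eq_mul]
  congr 1
  rw [← Finset.sum_filter, Finset.sum_const, smul_eq_mul, Nat.card_eq_fintype_card,
    Fintype.card_subtype]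

end Cfsg.Agent.Helper19
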