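import Mathlib
import Cfsg.Prelude.Def_OddOrderLocal
import Cfsg.Agent.Lib.Helper98.TIHDefs

/-!
Piece (P6c) `exists_fixed_of_prime` of helper98's lemma server "TIH" (row S4118).
-/

set_option autoImplicit false

namespace Cfsg.Agent.Helper19.TIH

open Cfsg.Agent.Helper98.TIH

universe u

/-- (P6c) a `p`-group of automorphisms fixes a point of every invariant coset of a `p'`-subgroup. -/
theorem exists_fixed_of_prime {X : Type u} [Group X] [Finite X] (α : MulAut X) (p : ℕ)
    (hp : p.Prime) (hα : α ^ p = 1) (Y : Subgroup X) (hY : ∀ y ∈ Y, α y ∈ Y)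
    (hpY : ¬ p ∣ Nat.card Y) (x : X) (hx : x⁻¹ * α x ∈ Y) :
    ∃ y ∈ Y, α (x * y) = x * y := by
  classical
  have : Fact p.Prime := ⟨hp⟩
  -- the coset `x Y` as a set
  let T : Set X := {t | x⁻¹ * t ∈ Y}
  -- `α` preserves `T`
  have hαT : ∀ t ∈ T, α t ∈ T := by
    intro t ht
    show x⁻¹ * α t ∈ Y
    have h1 : α (x⁻¹ * t) ∈ Y := hY _ ht
    have h2 : x⁻¹ * α t = (x⁻¹ * α x) * α (x⁻¹ * t) := by
      rw [map_mul, map_inv]; group
    rw [h2]
    exact Y.mul_mem hx h1
  have hpow : ∀ (k : ℕ), ∀ t ∈ T, (α ^ k) t ∈ T := by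
    intro k
    induction k with
    | zero => intro t ht; simpa using ht
    | succ k ih =>
      intro t ht
      rw [pow_succ', MulAut.mul_apply]
      exact hαT _ (ih t ht)
  have hfo : IsOfFinOrder α := isOfFinOrder_iff_pow_eq_one.2 ⟨p, hp.pos, hα⟩
  have hall : ∀ β ∈ Subgroup.zpowers α, ∀ t ∈ T, β t ∈ T := by
    intro β hβ t ht
    rw [← hfo.mem_powers_iff_mem_zpowers] at hβ
    obtain ⟨k, rfl⟩ := hβ
    exact hpow k t ht
  let _ : MulAction (Subgroup.zpowers α) T :=
    { smul := fun β t => ⟨(β : MulAut X) t.1, hall β.1 β.2 t.1 t.2⟩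
      one_smul := fun t => Subtype.ext (by show ((1 : MulAut X)) t.1 = t.1; rfl)
      mul_smul := fun β γ t => Subtype.ext (by
        show ((β : MulAut X) * (γ : MulAut X)) t.1 = (β : MulAut X) ((γ : MulAut X) t.1); rfl) }
  have hPG : IsPGroup p (Subgroup.zpowers α) := by
    have hdvd : orderOf α ∣ p := orderOf_dvd_of_pow_eq_one hα
    rcases (Nat.dvd_prime hp).1 hdvd with h | h
    · exact IsPGroup.of_card (n := 0) (by rw [Nat.card_zpowers, h, pow_zero])
    · exact IsPGroup.of_card (n := 1) (by rw [Nat.card_zpowers, h, pow_one])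
  -- `T` has as many elements as `Y`
  have hcardT : Nat.card T = Nat.card Y := by
    refine Nat.card_congr
      { toFun := fun t => ⟨x⁻¹ * t.1, t.2⟩
        invFun := fun y => ⟨x * y.1, by show x⁻¹ * (x * y.1) ∈ Y; simpa using y.2⟩
        left_inv := fun t => Subtype.ext (by simp)
        right_inv := fun y => Subtype.ext (by simp) }
  have : Finite T := Finite.of_injective (fun t : T => t.1) Subtype.val_injective
  have hne := hPG.nonempty_fixed_point_of_prime_not_dvd_card T (by rwa [hcardT])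
  obtain ⟨t, ht⟩ := hne
  refine ⟨x⁻¹ * t.1, t.2, ?_⟩
  have h1 := ht ⟨α, Subgroup.mem_zpowers α⟩
  have h2 : α t.1 = t.1 := congrArg Subtype.val h1
  have e : x * (x⁻¹ * t.1) = t.1 := by group
  rw [e, h2]

end Cfsg.Agent.Helper19.TIH
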