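import Mathlib
import Cfsg.Agent.Lib.Helper64.S4017Defs
import Cfsg.Agent.S0144

/-!
# S4017M (helper64 server), piece HLEM, core: Lemma H from a generic normality statement (HGEN,
passed as a hypothesis) and Burnside's `p^a q^b` theorem (`Cfsg.Agent.S0144.result`).
-/

set_option autoImplicit false

namespace Cfsg.Agent.Helper19.S4017M

open Cfsg.Agent.Helper64.S4017

variable {G : Type*} [Group G] [Finite G] {a p : ℕ} {Q : Subgroup G} {x : G}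

theorem h19_two_pow_mul_prime_pow {n p : ℕ} (hn : n ≠ 0)
    (h : ∀ r : ℕ, r.Prime → r ∣ n → r = 2 ∨ r = p) : ∃ i j : ℕ, n = 2 ^ i * p ^ j := by
  refine ⟨n.factorization 2, (ordCompl[2] n).primeFactorsList.length, ?_⟩
  have h1 := Nat.ordProj_mul_ordCompl_eq_self n 2
  have h2 : ordCompl[2] n ≠ 0 := (Nat.ordCompl_pos 2 hn).ne'
  have h3 : ordCompl[2] n = p ^ (ordCompl[2] n).primeFactorsList.length := by
    apply Nat.eq_prime_pow_of_unique_prime_dvd h2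
    intro d hd hdvd
    have hdn : d ∣ n := hdvd.trans (Nat.ordCompl_dvd n 2)
    rcases h d hd hdn with rfl | rfl
    · exact absurd hdvd (Nat.not_dvd_ordCompl Nat.prime_two hn)
    · rfl
  rw [← h3]
  exact h1.symm

theorem h19_p_ne_two (h : Setting a p Q x) : p ≠ 2 := by
  rintro rfl
  have h1 := h.p_eq
  have h3 := h.two_le
  have h2 : 2 ^ a = 2 ^ 2 * 2 ^ (a - 2) := by
    rw [← pow_add]
    congr 1
    omega
  omega

/-- Lemma H, with the generic statement (HGEN) as a hypothesis (for the subgroups of `G`). -/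
theorem lemmaH_core
    (hgen : ∀ (H : Subgroup G), Group.IsSolvable ↥H → ∀ (a p : ℕ), p.Prime → p ≠ 2 → 2 ≤ a →
      ∀ (Q : Subgroup ↥H), Nat.card Q = 2 ^ a → ¬ 2 ^ (a + 1) ∣ Nat.card ↥H →
      (∀ r : ℕ, r.Prime → r ∣ Nat.card ↥H → r = 2 ∨ r = p) →
      (∀ P : Sylow p ↥H, ∀ g ∈ P, ∀ h ∈ P, g * h = h * g) →
      ∀ (x : ↥H), (∀ s ∈ Q, x * s * x⁻¹ ∈ Q) → IsPel p x →
      (∀ t ∈ Q, t ≠ 1 → ∀ s ∈ Q, s ≠ 1 → ∃ i : ℕ, x ^ i * t * (x ^ i)⁻¹ = s) → Q.Normal)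
    (h : Setting a p Q x) (H : Subgroup G) (hH : H ≠ ⊤) (hQ : Q ≤ H)
    (hx : x ∈ H) : ∀ g ∈ H, ∀ s ∈ Q, g * s * g⁻¹ ∈ Q := by
  have hp := h.prime
  have hp2 : p ≠ 2 := h19_p_ne_two h
  have h2H : 2 ∣ Nat.card H := by
    have h1 : Nat.card Q ∣ Nat.card H := Subgroup.card_dvd_of_le hQ
    rw [h.card_Q] at h1
    have h3 := h.two_le
    exact (dvd_pow_self 2 (by omega)).trans h1
  have hord := h.star H hH h2H
  obtain ⟨i, j, hij⟩ := h19_two_pow_mul_prime_pow (Nat.card_pos (α := ↥H)).ne' hord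
  have hsolv : Group.IsSolvable ↥H := Cfsg.Agent.S0144.result 2 p i j Nat.prime_two hp hij
  have hcardQ : Nat.card (Q.subgroupOf H) = 2 ^ a := by
    rw [Nat.card_congr (Subgroup.subgroupOfEquivOfLe hQ).toEquiv, h.card_Q]
  have hsyl : ¬ 2 ^ (a + 1) ∣ Nat.card ↥H :=
    fun hd => h.sylow (hd.trans (Subgroup.card_subgroup_dvd_card H))
  have habel : ∀ P : Sylow p ↥H, ∀ g ∈ P, ∀ k ∈ P, g * k = k * g := by
    intro P g hg k hk
    have hPG : IsPGroup p ((P : Subgroup ↥H).map H.subtype) := P.2.map H.subtype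
    have : Fact p.Prime := ⟨hp⟩
    obtain ⟨S, hS⟩ := hPG.exists_le_sylow
    have h1 := h.abel S (g : G) (hS (Subgroup.mem_map_of_mem _ hg)) (k : G)
      (hS (Subgroup.mem_map_of_mem _ hk))
    exact Subtype.ext h1
  have hxn : ∀ s ∈ Q.subgroupOf H,
      (⟨x, hx⟩ : ↥H) * s * (⟨x, hx⟩ : ↥H)⁻¹ ∈ Q.subgroupOf H := by
    intro s hs
    rw [Subgroup.mem_subgroupOf] at hs ⊢
    exact h.x_norm _ hs
  have hxp : IsPel p (⟨x, hx⟩ : ↥H) := by
    obtain ⟨j, hj⟩ := h.x_pel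
    exact ⟨j, by rw [← hj]; exact Subgroup.orderOf_mk x hx⟩
  have htr : ∀ t ∈ Q.subgroupOf H, t ≠ 1 → ∀ s ∈ Q.subgroupOf H, s ≠ 1 →
      ∃ i : ℕ, (⟨x, hx⟩ : ↥H) ^ i * t * ((⟨x, hx⟩ : ↥H) ^ i)⁻¹ = s := by
    intro t ht ht1 s hs hs1
    rw [Subgroup.mem_subgroupOf] at ht hs
    have ht1' : (t : G) ≠ 1 := fun e => ht1 (Subtype.ext e)
    have hs1' : (s : G) ≠ 1 := fun e => hs1 (Subtype.ext e)
    obtain ⟨i, hi⟩ := h.x_trans _ ht ht1' _ hs hs1'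
    exact ⟨i, Subtype.ext (by simpa using hi)⟩
  have hN := hgen H hsolv a p hp hp2 h.two_le (Q.subgroupOf H) hcardQ hsyl hord habel ⟨x, hx⟩
    hxn hxp htr
  intro g hg s hs
  have h1 := hN.conj_mem ⟨s, hQ hs⟩ (Subgroup.mem_subgroupOf.mpr hs) ⟨g, hg⟩
  rw [Subgroup.mem_subgroupOf] at h1
  exact h1

end Cfsg.Agent.Helper19.S4017M
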