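import Mathlib
import Cfsg.Agent.Lib.Helper64.S4017Defs
import Cfsg.Agent.Lib.Helper19.S4017HLEMcore
import Cfsg.Agent.Lib.Helper90.S4017HGEN

/-!
# S4017M (helper64 server), piece HLEM: Lemma H, from (HGEN) (helper90) and Burnside `p^a q^b`.
-/

set_option autoImplicit false

namespace Cfsg.Agent.Helper19.S4017M

open Cfsg.Agent.Helper64.S4017

variable {G : Type*} [Group G] [Finite G] {a p : ℕ} {Q : Subgroup G} {x : G}

/-- (HLEM) Lemma H, from (HGEN) and Burnside `p^a q^b` (`Cfsg.Agent.S0144.result`, on main). -/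
theorem lemmaH (h : Setting a p Q x) (H : Subgroup G) (hH : H ≠ ⊤) (hQ : Q ≤ H)
    (hx : x ∈ H) : ∀ g ∈ H, ∀ s ∈ Q, g * s * g⁻¹ ∈ Q :=
  lemmaH_core (fun _ hs _ _ hp hp2 ha Q' hc hsyl hord habel x' hx' hxp htr =>
    Cfsg.Agent.Helper90.S4017M.normal_of_transitive hs hp hp2 ha Q' hc hsyl hord habel x' hx'
      hxp htr) h H hH hQ hx

end Cfsg.Agent.Helper19.S4017M
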