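import Mathlib
import Cfsg.Agent.Lib.Helper15.BGV.Core
import Cfsg.Agent.Lib.Helper15.BGW.Ctx0
import Cfsg.Agent.Lib.Helper34.BG10b
import Cfsg.Agent.Lib.Helper53.ElemAbBasic
import Cfsg.Agent.Lib.Helper48.SPE
import Cfsg.Agent.S1403

/-!
# BG 13.3 (= S1428): the case `r ∈ τ₃(H)` (helper19)

`R ≤ H'` (a Sylow `r`-subgroup of `H` has a unique subgroup of order `r`, and `r ∣ |H'|`),
`T ≤ H'`, `q ∉ β(H)`, so `H'` has a normal `q`-complement `N ⊇ R`; `[T, R] ≤ T ⊓ N = 1`.
-/

set_option autoImplicit false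
set_option linter.unusedSectionVars false

namespace Cfsg.Agent.Helper19.BG133e

open Cfsg Subgroup Cfsg.Agent.Helper52 Cfsg.Agent.Helper15.BGU Cfsg.Agent.Helper55.BGB
open Cfsg.Agent.Helper15.BGV Cfsg.Agent.Helper15.BGW

variable {G : Type*} [Group G] [Finite G]

/-- in a group of `r`-rank at most one, commuting elements of order `r` generate the same
subgroup. -/
theorem mem_zpowers_of_rank_one {r : ℕ} [hr : Fact r.Prime] {H : Subgroup G}
    (hrk : PRankLE r 1 ↥H) {a b : G} (ha : a ∈ H) (hb : b ∈ H) (har : a ^ r = 1)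
    (hbr : orderOf b = r) (hab : a * b = b * a) : a ∈ zpowers b := by
  by_contra hna
  have hbr' : b ^ r = 1 := by rw [← hbr]; exact pow_orderOf_eq_one b
  have hF : IsElementaryAbelian r (zpowers a ⊔ zpowers b) := by
    apply Cfsg.Agent.Helper53.ea_sup_of_commute (Cfsg.Agent.Helper53.ea_zpowers har)
      (Cfsg.Agent.Helper53.ea_zpowers hbr')
    intro x hx y hy
    obtain ⟨i, rfl⟩ := Subgroup.mem_zpowers_iff.mp hx
    obtain ⟨j, rfl⟩ := Subgroup.mem_zpowers_iff.mp hy
    exact ((Commute.zpow_zpow (show Commute a b from hab)) i j).eq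
  have hFH : zpowers a ⊔ zpowers b ≤ H :=
    sup_le (Subgroup.zpowers_le.mpr ha) (Subgroup.zpowers_le.mpr hb)
  have hlt : zpowers b < zpowers a ⊔ zpowers b := by
    refine lt_of_le_of_ne le_sup_right ?_
    intro h
    apply hna
    rw [h]
    exact Subgroup.mem_sup_left (Subgroup.mem_zpowers a)
  have hcard : r ^ 1 < Nat.card ↥(zpowers a ⊔ zpowers b) := by
    have h1 : Nat.card (zpowers b) = r := by rw [Nat.card_zpowers, hbr]
    by_contra hle
    rw [not_lt, pow_one] at hle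
    have h2 : zpowers b = zpowers a ⊔ zpowers b :=
      Subgroup.eq_of_le_of_card_ge le_sup_right (by rw [h1]; exact hle)
    exact hlt.ne h2
  exact not_pRankLE_of_le hFH hF hcard hrk

/-- **case `r ∈ τ₃(H)`** of BG 13.3. -/
theorem case0_r_tau3 (hG : IsMinSimpleOddOrder G) {M H E P R T : Subgroup G} {p q r : ℕ}
    [Fact p.Prime] [hq : Fact q.Prime] [hr : Fact r.Prime] (C : Ctx0 M H E p q r P R T)
    (hrH : r ∈ tau3 H) : False := by
  have hU : Cfsg.Agent.Helper34.BG.UniqHyp G :=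
    fun K hK h1 h2 => Cfsg.Agent.S1403.result hG K hK h1 h2
  have hM := C.hM
  have hH := C.hH
  -- `q ∉ β(H)`
  have hqβ : q ∉ beta H := by
    by_cases hqH : q ∈ sigma H
    · exact not_mem_beta_of_ne hG hM hH C.hHM C.hqM hqH C.hT C.hT1 C.hTM C.hTH
    · intro hβ
      exact hqH (Cfsg.Agent.Helper34.BG.alpha_subset_sigma hG hU hH hβ.1)
  have hqdvd : q ∣ Nat.card H := dvd_card_of_le C.hT C.hT1 C.hTH
  have h14 := (Cfsg.Agent.S1414.result hG H hH).2.2.2.2 q hq.out hqdvd hqβ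
  obtain ⟨N, hNK, hKN, hNq, hNall⟩ := exists_normal_compl h14.1
  -- `R ≤ H'`
  have hRr : IsPGroup r R := isPGroup_of_card_prime C.hR
  have hRH' : R ≤ ⁅H, H⁆ := by
    obtain ⟨-, -, hrd, hrk⟩ := hrH
    -- an element of order `r` in `H'`
    obtain ⟨x, hx⟩ := exists_prime_orderOf_dvd_card' (G := ↥⁅H, H⁆) r hrd
    have hxo : orderOf (x : G) = r := by rw [Subgroup.orderOf_coe]; exact hx
    have hH'H : ⁅H, H⁆ ≤ H := Subgroup.commutator_le_self H
    have hxH : (x : G) ∈ H := hH'H x.2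
    have hXr : IsPGroup r (zpowers (x : G)) := by
      apply IsPGroup.of_card (n := 1)
      rw [Nat.card_zpowers, hxo, pow_one]
    obtain ⟨S, hXS, hSH, hSc⟩ := exists_syl_ge (p := r) hXr (Subgroup.zpowers_le.mpr hxH)
    obtain ⟨l, hlH, hRl⟩ := Cfsg.Agent.Helper15.BGV.exists_conj_le_sylow hRr C.hRH hSH hSc
    have hSr : IsPGroup r S := by
      apply IsPGroup.of_card (n := (Nat.card H).factorization r)
      rw [hSc]; rfl
    have hxS : (x : G) ∈ S := hXS (Subgroup.mem_zpowers _)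
    have hS1 : S ≠ ⊥ := by
      intro h
      rw [h, Subgroup.mem_bot] at hxS
      rw [hxS, orderOf_one] at hxo
      exact hr.out.one_lt.ne hxo
    obtain ⟨z, hzS, hzo, hzc⟩ := Cfsg.Agent.Helper48.exists_central_orderOf_eq hSr hS1
    have hzH : z ∈ H := hSH hzS
    -- `x ∈ ⟨z⟩`, hence `⟨x⟩ = ⟨z⟩`
    have hxz : (x : G) ∈ zpowers z :=
      mem_zpowers_of_rank_one hrk hxH hzH (by rw [← hxo]; exact pow_orderOf_eq_one _) hzo
        (hzc _ hxS)
    have hzx : zpowers (x : G) = zpowers z := by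
      apply Subgroup.eq_of_le_of_card_ge (Subgroup.zpowers_le.mpr hxz)
      rw [Nat.card_zpowers, Nat.card_zpowers, hxo, hzo]
    intro y hy
    have hyl : l * y * l⁻¹ ∈ S := hRl ⟨y, hy, by simp [MulAut.conj_apply]⟩
    have hyr : (l * y * l⁻¹) ^ r = 1 := by
      have h1 : y ^ r = 1 := by
        have h0 : ((⟨y, hy⟩ : ↥R) ^ Nat.card R : ↥R) = 1 := pow_card_eq_one'
        have h2 := congrArg Subtype.val h0
        rw [C.hR] at h2
        simpa only [Subgroup.coe_pow, Subgroup.coe_one] using h2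
      rw [conj_pow, h1]; group
    have hyz : l * y * l⁻¹ ∈ zpowers z :=
      mem_zpowers_of_rank_one hrk (hSH hyl) hzH hyr hzo (hzc _ hyl)
    rw [← hzx] at hyz
    have hyH' : l * y * l⁻¹ ∈ ⁅H, H⁆ := by
      have : zpowers (x : G) ≤ ⁅H, H⁆ := Subgroup.zpowers_le.mpr x.2
      exact this hyz
    -- `H'` is normalized by `l ∈ H`
    have hnorm : ∀ h ∈ H, ∀ c ∈ ⁅H, H⁆, h * c * h⁻¹ ∈ ⁅H, H⁆ := by
      intro h hh c hc
      have h1 := Subgroup.commutator_mem_commutator hh (hH'H hc)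
      rw [commutatorElement_def] at h1
      have h2 := Subgroup.mul_mem _ h1 hc
      have h3 : h * c * h⁻¹ * c⁻¹ * c = h * c * h⁻¹ := by group
      rw [h3] at h2
      exact h2
    have := hnorm l⁻¹ (H.inv_mem hlH) _ hyH'
    have h2 : l⁻¹ * (l * y * l⁻¹) * l⁻¹⁻¹ = y := by group
    rw [h2] at this
    exact this
  have hRN : R ≤ N := by
    apply hNall R hRH'
    rw [C.hR]
    exact (Nat.coprime_primes hr.out hq.out).mpr (fun h => C.hqr h.symm)
  have hd : T ⊓ N = ⊥ := by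
    apply inf_eq_bot_of_coprime_card
    apply coprime_of_isPGroup_not_dvd C.hT
    intro hdv
    exact (Nat.Prime.coprime_iff_not_dvd hq.out).mp hNq.symm hdv
  have h := le_centralizer_of_disjoint hRN (C.hTH'.trans hKN) C.hRT hd
  apply C.hT1
  rw [← C.hTR, Subgroup.commutator_eq_bot_iff_le_centralizer]
  exact Subgroup.le_centralizer_iff.mp h

end Cfsg.Agent.Helper19.BG133e
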