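import Mathlib
import Cfsg.Prelude.Def_OddOrder
import Cfsg.Prelude.Def_OddOrderLocal
import Cfsg.Agent.Lib.Helper55.BGDecomp2
import Cfsg.Agent.Lib.Helper55.BGCyclic
import Cfsg.Agent.Lib.Helper79.GlaubFpf.ConjGen
import Cfsg.Agent.Lib.Helper22.Structure

/-!
# Conjugacy lemmas for the standard factorisation `M = K U M_σ` (BG chain, helper19)

* `frob_conj`: a fixed-point-free element `k` normalizing `U`: every `u * k` is a `U`-conjugate of `k`.
* `coset_conj`: coprime coset conjugacy, internal form.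
* `conj_into_Z`: every element of `M` outside `U M_σ` is `M`-conjugate to `c * k`, `k ∈ K#`,
  `c ∈ C_{M_σ}(k)`.
-/

set_option autoImplicit false

namespace Cfsg.Agent.Helper19.BGZhat

open Subgroup Cfsg

variable {G : Type*} [Group G]

/-- Frobenius trick: if `k` normalizes the finite subgroup `U` and has no nontrivial fixed point
on it, every element `u * k` of the coset `U k` is a `U`-conjugate of `k`. -/
theorem frob_conj [Finite G] (U : Subgroup G) (k : G) (hk : k ∈ normalizer (U : Set G))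
    (hfix : U ⊓ centralizer ({k} : Set G) = ⊥) (u : G) (hu : u ∈ U) :
    ∃ v ∈ U, u * k = v * k * v⁻¹ := by
  classical
  have hmem : ∀ v ∈ U, v * (k * v⁻¹ * k⁻¹) ∈ U := fun v hv =>
    U.mul_mem hv ((mem_normalizer_iff.mp hk v⁻¹).mp (U.inv_mem hv))
  let φ : U → U := fun v => ⟨(v : G) * (k * (v : G)⁻¹ * k⁻¹), hmem v v.2⟩
  have hinj : Function.Injective φ := by
    intro v w hvw
    have h : (v : G) * (k * (v : G)⁻¹ * k⁻¹) = (w : G) * (k * (w : G)⁻¹ * k⁻¹) :=
      congrArg Subtype.val hvw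
    have h1 : (v : G) * k * (v : G)⁻¹ = (w : G) * k * (w : G)⁻¹ := by
      have := congrArg (· * k) h
      simpa [mul_assoc] using this
    have hc : ((w : G)⁻¹ * v) ∈ U ⊓ centralizer ({k} : Set G) := by
      rw [mem_inf, mem_centralizer_singleton_iff]
      refine ⟨U.mul_mem (U.inv_mem w.2) v.2, ?_⟩
      calc (w : G)⁻¹ * v * k = (w : G)⁻¹ * ((v : G) * k * (v : G)⁻¹) * v := by group
        _ = (w : G)⁻¹ * ((w : G) * k * (w : G)⁻¹) * v := by rw [h1]
        _ = k * ((w : G)⁻¹ * v) := by group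
    rw [hfix, mem_bot] at hc
    exact (Subtype.ext (inv_mul_eq_one.mp hc)).symm
  have hsurj := Finite.injective_iff_surjective.mp hinj
  obtain ⟨v, hv⟩ := hsurj ⟨u, hu⟩
  refine ⟨v, v.2, ?_⟩
  have h : (v : G) * (k * (v : G)⁻¹ * k⁻¹) = u := congrArg Subtype.val hv
  rw [← h]
  group

/-- Coprime coset conjugacy, internal form: if `S ⊴ M`, `k ∈ M` has order coprime to `#S`, every
element `s * k` of the coset `S k` is `S`-conjugate to some `c * k` with `c ∈ C_S(k)`. -/
theorem coset_conj [Finite G] (M S : Subgroup G) (hSM : S ≤ M)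
    (hMS : M ≤ normalizer (S : Set G)) (k : G) (hk : k ∈ M)
    (hcop : (Nat.card S).Coprime (orderOf k)) (s : G) (hs : s ∈ S) :
    ∃ x ∈ S, ∃ c ∈ S, c * k = k * c ∧ x * (c * k) * x⁻¹ = s * k := by
  have : (S.subgroupOf M).Normal := Subgroup.normal_subgroupOf_of_le_normalizer hMS
  have hcard : Nat.card (S.subgroupOf M) = Nat.card S :=
    Nat.card_congr (Subgroup.subgroupOfEquivOfLe hSM).toEquiv
  have hord : orderOf (⟨k, hk⟩ : M) = orderOf k := Subgroup.orderOf_mk k hk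
  obtain ⟨γ, hγ, c, hc, heq⟩ :=
    Cfsg.Agent.Helper79.GlaubFpf.exists_conj_mem_fixC_mul_gen (S.subgroupOf M) (⟨k, hk⟩ : M)
      (by rw [hcard, hord]; exact hcop) (⟨s, hSM hs⟩ : M) (by rw [mem_subgroupOf]; exact hs)
  rw [Cfsg.Agent.Helper79.Glaub.mem_fixC] at hc
  refine ⟨γ, mem_subgroupOf.mp hγ, c, mem_subgroupOf.mp hc.1, ?_, ?_⟩
  · have := congrArg Subtype.val hc.2
    simpa using this
  · have := congrArg Subtype.val heq
    simpa using this


theorem le_normalizer_of_le_centralizer {A B : Subgroup G} (h : B ≤ centralizer (A : Set G)) :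
    A ≤ normalizer (B : Set G) := by
  intro a ha
  rw [mem_normalizer_iff]
  intro b
  constructor
  · intro hb
    have h1 : a * b = b * a := (mem_centralizer_iff.mp (h hb)) a ha
    have : a * b * a⁻¹ = b := by rw [h1]; group
    rw [this]; exact hb
  · intro hb
    have hc : a * (a * b * a⁻¹) = (a * b * a⁻¹) * a := (mem_centralizer_iff.mp (h hb)) a ha
    have : b = a * b * a⁻¹ := by
      calc b = a⁻¹ * ((a * b * a⁻¹) * a) := by group
        _ = a⁻¹ * (a * (a * b * a⁻¹)) := by rw [hc]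
        _ = a * b * a⁻¹ := by group
    rw [this]; exact hb

theorem map_conj_eq_of_mem_normalizer {X : Subgroup G} {g : G}
    (h : g ∈ normalizer (X : Set G)) : X.map (MulAut.conj g).toMonoidHom = X := by
  ext x
  constructor
  · rintro ⟨y, hy, rfl⟩
    exact (mem_normalizer_iff.mp h y).mp hy
  · intro hx
    refine ⟨g⁻¹ * x * g, ?_, ?_⟩
    · apply (mem_normalizer_iff.mp h (g⁻¹ * x * g)).mpr
      have : g * (g⁻¹ * x * g) * g⁻¹ = x := by group
      rw [this]; exact hx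
    · show g * (g⁻¹ * x * g) * g⁻¹ = x
      group

theorem mem_normalizer_sup {A B : Subgroup G} {g : G} (hA : g ∈ normalizer (A : Set G))
    (hB : g ∈ normalizer (B : Set G)) : g ∈ normalizer ((A ⊔ B : Subgroup G) : Set G) := by
  apply Cfsg.Agent.Helper55.BGB.mem_normalizer_of_map_conj_eq
  rw [Subgroup.map_sup, map_conj_eq_of_mem_normalizer hA, map_conj_eq_of_mem_normalizer hB]

section Decomp

variable [Finite G] {M K U : Subgroup G}

theorem coprime_card_sigmaCore_K (hKU : Cfsg.IsSigmaDecomposition M K U) :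
    (Nat.card (Cfsg.sigmaCore M)).Coprime (Nat.card K) := by
  apply Nat.coprime_of_dvd
  intro p hp hpS hpK
  exact Cfsg.Agent.Helper55.BGB.not_mem_sigma_of_mem_kappa (hKU.hall.2.1 p hp hpK)
    (Cfsg.Agent.Helper55.BGB.isPi_sigmaCore M p hp hpS)

omit [Finite G] in
/-- `U M_σ` is normal in `M`. -/
theorem le_normalizer_U_sup (hKU : Cfsg.IsSigmaDecomposition M K U) :
    M ≤ normalizer ((U ⊔ Cfsg.sigmaCore M : Subgroup G) : Set G) := by
  intro m hm
  have hMS := Cfsg.Agent.Helper55.BGB.le_normalizer_sigmaCore M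
  obtain ⟨u, hu, b, hb, rfl⟩ := hKU.compl.2.2.2 m hm
  have hKS : K ≤ normalizer ((Cfsg.sigmaCore M : Subgroup G) : Set G) := hKU.hall.1.trans hMS
  obtain ⟨k, hk, s, hs, rfl⟩ := (Cfsg.Agent.Helper22.mem_sup_of_le_normalizer hKS).mp hb
  have h1 : u ∈ normalizer ((U ⊔ Cfsg.sigmaCore M : Subgroup G) : Set G) :=
    Subgroup.le_normalizer (le_sup_left (a := U) hu)
  have h2 : s ∈ normalizer ((U ⊔ Cfsg.sigmaCore M : Subgroup G) : Set G) :=
    Subgroup.le_normalizer (le_sup_right (b := Cfsg.sigmaCore M) hs)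
  have h3 : k ∈ normalizer ((U ⊔ Cfsg.sigmaCore M : Subgroup G) : Set G) :=
    mem_normalizer_sup (hKU.normal hk) (hKS hk)
  exact mul_mem h1 (mul_mem h3 h2)

/-- `K ∩ U M_σ = 1`. -/
theorem K_inf_U_sup (hKU : Cfsg.IsSigmaDecomposition M K U) {k : G} (hk : k ∈ K)
    (hkN : k ∈ U ⊔ Cfsg.sigmaCore M) : k = 1 := by
  have hMS := Cfsg.Agent.Helper55.BGB.le_normalizer_sigmaCore M
  have hUS : U ≤ normalizer ((Cfsg.sigmaCore M : Subgroup G) : Set G) := hKU.compl.1.trans hMS
  obtain ⟨u, hu, s, hs, hus⟩ := (Cfsg.Agent.Helper22.mem_sup_of_le_normalizer hUS).mp hkN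
  have hu' : u ∈ U ⊓ (K ⊔ Cfsg.sigmaCore M) := by
    rw [mem_inf]
    refine ⟨hu, ?_⟩
    have : u = k * s⁻¹ := by rw [← hus]; group
    rw [this]
    exact mul_mem (le_sup_left (a := K) hk) (le_sup_right (b := Cfsg.sigmaCore M) (inv_mem hs))
  rw [hKU.compl.2.2.1, mem_bot] at hu'
  have hks : k = s := by rw [← hus, hu', one_mul]
  have : k ∈ K ⊓ Cfsg.sigmaCore M := by
    rw [mem_inf]; exact ⟨hk, hks ▸ hs⟩
  rw [Cfsg.Agent.Helper55.BGB.K_inf_sigmaCore hKU, mem_bot] at this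
  exact this

/-- The `M`-conjugates of `Ẑ = K K* \ (K ∪ K*)` are exactly `A₀(M) \ A(M)`. -/
theorem zhat_conj_eq (hKU : Cfsg.IsSigmaDecomposition M K U)
    (hfree : ∀ k ∈ K, k ≠ 1 → U ⊓ centralizer ({k} : Set G) = ⊥)
    (hprime : ∀ k ∈ K, k ≠ 1 → Cfsg.sigmaCore M ⊓ centralizer ({k} : Set G) =
      Cfsg.sigmaCore M ⊓ centralizer (K : Set G)) :
    {a : G | ∃ m ∈ M, ∃ z ∈ ((↑(K ⊔ (Cfsg.sigmaCore M ⊓ Subgroup.centralizer (K : Set G))) : Set G) \ ((K : Set G) ∪ ↑(Cfsg.sigmaCore M ⊓ Subgroup.centralizer (K : Set G)))), a = m * z * m⁻¹} = Cfsg.sigmaA0 M K \ Cfsg.sigmaA M U := by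
  classical
  have hKM : K ≤ M := hKU.hall.1
  have hSM : Cfsg.sigmaCore M ≤ M := Cfsg.Agent.Helper55.BGB.sigmaCore_le M
  have hMS := Cfsg.Agent.Helper55.BGB.le_normalizer_sigmaCore M
  have hKS0 := Cfsg.Agent.Helper55.BGB.K_inf_sigmaCore hKU
  have hUM : U ≤ M := hKU.compl.1
  have hcop := coprime_card_sigmaCore_K hKU
  have hKnS : K ≤ normalizer ((Cfsg.sigmaCore M : Subgroup G) : Set G) := hKM.trans hMS
  have hKsC : Cfsg.sigmaCore M ⊓ centralizer (K : Set G) ≤ centralizer (K : Set G) := inf_le_right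
  have hKnKs : K ≤ normalizer ((Cfsg.sigmaCore M ⊓ centralizer (K : Set G) : Subgroup G) : Set G) :=
    le_normalizer_of_le_centralizer hKsC
  ext a
  simp only [Set.mem_ofPred_eq]
  constructor
  · rintro ⟨m, hm, z, ⟨hzZ, hznot⟩, rfl⟩
    obtain ⟨k, hk, y, hy, rfl⟩ := (Cfsg.Agent.Helper22.mem_sup_of_le_normalizer hKnKs).mp hzZ
    have hyS : y ∈ Cfsg.sigmaCore M := (mem_inf.mp hy).1
    have hky : k * y = y * k := (mem_centralizer_iff.mp (mem_inf.mp hy).2) k hk
    have hk1 : k ≠ 1 := by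
      rintro rfl
      apply hznot
      right
      simpa using hy
    have hy1 : y ≠ 1 := by
      rintro rfl
      apply hznot
      left
      simpa using hk
    have hkM : k ∈ M := hKM hk
    have hyM : y ∈ M := hSM hyS
    have haM : m * (k * y) * m⁻¹ ∈ M := mul_mem (mul_mem hm (mul_mem hkM hyM)) (inv_mem hm)
    have hHat : m * (k * y) * m⁻¹ ∈ Cfsg.sigmaHat M := by
      refine ⟨haM, m * y * m⁻¹, (mem_normalizer_iff.mp (hMS hm) y).mp hyS, ?_, ?_⟩
      · intro h
        apply hy1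
        have : y = m⁻¹ * (m * y * m⁻¹) * m := by group
        rw [this, h]; group
      · calc m * (k * y) * m⁻¹ * (m * y * m⁻¹) = m * (k * y * y) * m⁻¹ := by group
          _ = m * (y * (k * y)) * m⁻¹ := by rw [mul_assoc k y y, ← mul_assoc y k y, ← hky]; group
          _ = m * y * m⁻¹ * (m * (k * y) * m⁻¹) := by group
    refine ⟨⟨hHat, ?_⟩, ?_⟩
    · rintro ⟨k', hk', -, m', hm', heq⟩
      apply hy1
      -- (k*y)^(card K) = 1
      have hz : k * y = (m⁻¹ * m') * k' * (m⁻¹ * m')⁻¹ := by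
        have : k * y = m⁻¹ * (m * (k * y) * m⁻¹) * m := by group
        rw [this, heq]; group
      have hpow : (k * y) ^ Nat.card K = 1 := by
        rw [hz, conj_pow]
        have : k' ^ Nat.card K = 1 := by
          have := pow_card_eq_one' (G := K) (x := ⟨k', hk'⟩)
          exact congrArg Subtype.val this
        rw [this]; group
      have hkp : k ^ Nat.card K = 1 := by
        have := pow_card_eq_one' (G := K) (x := ⟨k, hk⟩)
        exact congrArg Subtype.val this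
      have hyp : y ^ Nat.card K = 1 := by
        have hc : Commute k y := hky
        rw [hc.mul_pow, hkp, one_mul] at hpow
        exact hpow
      have h1 : orderOf y ∣ Nat.card K := orderOf_dvd_of_pow_eq_one hyp
      have h2 : orderOf y ∣ Nat.card (Cfsg.sigmaCore M) := Subgroup.orderOf_dvd_natCard _ hyS
      have h3 : orderOf y ∣ 1 := by
        have := Nat.dvd_gcd h2 h1
        rwa [hcop] at this
      exact orderOf_eq_one_iff.mp (Nat.dvd_one.mp h3)
    · rintro ⟨-, haN⟩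
      apply hk1
      have hN := le_normalizer_U_sup hKU
      have hzN : k * y ∈ U ⊔ Cfsg.sigmaCore M := by
        have h1 := (mem_normalizer_iff.mp (hN (inv_mem hm)) (m * (k * y) * m⁻¹)).mp haN
        have : m⁻¹ * (m * (k * y) * m⁻¹) * m⁻¹⁻¹ = k * y := by group
        rwa [this] at h1
      have hkN : k ∈ U ⊔ Cfsg.sigmaCore M := by
        have : k = k * y * y⁻¹ := by group
        rw [this]
        exact mul_mem hzN (inv_mem (le_sup_right (b := Cfsg.sigmaCore M) hyS))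
      exact K_inf_U_sup hKU hk hkN
  · rintro ⟨⟨hHat, hanot⟩, hanA⟩
    have haM : a ∈ M := hHat.1
    have haN : a ∉ U ⊔ Cfsg.sigmaCore M := fun h => hanA ⟨hHat, h⟩
    obtain ⟨u, hu, b, hb, rfl⟩ := hKU.compl.2.2.2 a haM
    obtain ⟨k, hk, s, hs, rfl⟩ := (Cfsg.Agent.Helper22.mem_sup_of_le_normalizer hKnS).mp hb
    have hk1 : k ≠ 1 := by
      rintro rfl
      apply haN
      rw [one_mul]
      exact mul_mem (le_sup_left (a := U) hu) (le_sup_right (b := Cfsg.sigmaCore M) hs)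
    obtain ⟨v, hv, huk⟩ := frob_conj U k (hKU.normal hk) (hfree k hk hk1) u hu
    have hvM : v ∈ M := hUM hv
    have hkM : k ∈ M := hKM hk
    -- s1 = v⁻¹ s v, s2 = k s1 k⁻¹
    have hs1 : v⁻¹ * s * v ∈ Cfsg.sigmaCore M := by
      have := (mem_normalizer_iff.mp (hMS (inv_mem hvM)) s).mp hs
      simpa using this
    have hs2 : k * (v⁻¹ * s * v) * k⁻¹ ∈ Cfsg.sigmaCore M :=
      (mem_normalizer_iff.mp (hMS hkM) _).mp hs1
    have hcop' : (Nat.card (Cfsg.sigmaCore M)).Coprime (orderOf k) :=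
      Nat.Coprime.coprime_dvd_right (Subgroup.orderOf_dvd_natCard _ hk) hcop
    obtain ⟨x, hx, c, hc, hck, hconj⟩ :=
      coset_conj M (Cfsg.sigmaCore M) hSM hMS k hkM hcop' _ hs2
    have hxM : x ∈ M := hSM hx
    have hcKs : c ∈ Cfsg.sigmaCore M ⊓ centralizer (K : Set G) := by
      rw [← hprime k hk hk1, mem_inf, mem_centralizer_singleton_iff]
      exact ⟨hc, hck⟩
    have ha : u * (k * s) = (v * x) * (c * k) * (v * x)⁻¹ := by
      have h1 : (v * x) * (c * k) * (v * x)⁻¹ = v * (x * (c * k) * x⁻¹) * v⁻¹ := by group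
      rw [h1, hconj]
      have h2 : u * (k * s) = (u * k) * s := by group
      rw [h2, huk]
      group
    have hc1 : c ≠ 1 := by
      rintro rfl
      apply hanot
      refine ⟨k, hk, hk1, v * x, mul_mem hvM hxM, ?_⟩
      rw [ha, one_mul]
    refine ⟨v * x, mul_mem hvM hxM, c * k, ⟨?_, ?_⟩, ha⟩
    · exact mul_mem (le_sup_right (b := Cfsg.sigmaCore M ⊓ centralizer (K : Set G)) hcKs)
        (le_sup_left (a := K) hk)
    · rintro (hzK | hzKs)
      · apply hc1
        have hcK : c ∈ K := by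
          have : c = c * k * k⁻¹ := by group
          rw [this]
          exact mul_mem hzK (inv_mem hk)
        have : c ∈ K ⊓ Cfsg.sigmaCore M := mem_inf.mpr ⟨hcK, hc⟩
        rwa [hKS0, mem_bot] at this
      · apply hk1
        have hkKs : k ∈ Cfsg.sigmaCore M ⊓ centralizer (K : Set G) := by
          have : k = c⁻¹ * (c * k) := by group
          rw [this]
          exact mul_mem (inv_mem hcKs) hzKs
        have : k ∈ K ⊓ Cfsg.sigmaCore M := mem_inf.mpr ⟨hk, (mem_inf.mp hkKs).1⟩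
        rwa [hKS0, mem_bot] at this

omit [Finite G] in
/-- The set of `M`-conjugates of `Ẑ` is a TI-subset of `G` as soon as `Ẑ` misses every `M^g`,
`g ∉ M`. -/
theorem zhat_conj_ti (hKM : K ≤ M) (hSM : Cfsg.sigmaCore M ≤ M)
    (hdisj : ∀ g : G, g ∉ M → ∀ z ∈ ((↑(K ⊔ (Cfsg.sigmaCore M ⊓ Subgroup.centralizer (K : Set G))) : Set G) \ ((K : Set G) ∪ ↑(Cfsg.sigmaCore M ⊓ Subgroup.centralizer (K : Set G)))), z ∉ M.map (MulAut.conj g).toMonoidHom) :
    Cfsg.IsTISubset {a : G | ∃ m ∈ M, ∃ z ∈ ((↑(K ⊔ (Cfsg.sigmaCore M ⊓ Subgroup.centralizer (K : Set G))) : Set G) \ ((K : Set G) ∪ ↑(Cfsg.sigmaCore M ⊓ Subgroup.centralizer (K : Set G)))), a = m * z * m⁻¹} := by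
  intro g hg x hx hgx
  exfalso
  apply hg
  have hZM : K ⊔ (Cfsg.sigmaCore M ⊓ Subgroup.centralizer (K : Set G)) ≤ M :=
    sup_le hKM (inf_le_left.trans hSM)
  obtain ⟨m, hm, z, hz, rfl⟩ := hx
  obtain ⟨m', hm', z', hz', heq⟩ := hgx
  have hgM : g ∈ M := by
    by_contra hgM
    have hg' : (g * m)⁻¹ ∉ M := by
      intro h
      apply hgM
      have h1 : g * m ∈ M := by simpa using inv_mem h
      have : g = g * m * m⁻¹ := by group
      rw [this]
      exact mul_mem h1 (inv_mem hm)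
    apply hdisj _ hg' z hz
    refine ⟨m' * z' * m'⁻¹, mul_mem (mul_mem hm' (hZM hz'.1)) (inv_mem hm'), ?_⟩
    show (g * m)⁻¹ * (m' * z' * m'⁻¹) * ((g * m)⁻¹)⁻¹ = z
    rw [← heq]
    group
  rw [mem_set_normalizer_iff]
  intro h
  constructor
  · rintro ⟨n, hn, w, hw, rfl⟩
    refine ⟨g * n, mul_mem hgM hn, w, hw, ?_⟩
    group
  · rintro ⟨n, hn, w, hw, hh⟩
    refine ⟨g⁻¹ * n, mul_mem (inv_mem hgM) hn, w, hw, ?_⟩
    have : h = g⁻¹ * (g * h * g⁻¹) * g := by group
    rw [this, hh]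
    group

end Decomp

end Cfsg.Agent.Helper19.BGZhat
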