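import Mathlib
import Cfsg.Agent.Lib.Helper32.C3Defs
import Cfsg.Agent.Lib.Helper9.C3M3Defs

/-!
C3 (M3) sub-split (helper9, for helper32's C3 server, S4415): piece (B) `transitive`, by helper19.
-/

set_option autoImplicit false

namespace Cfsg.Agent.Helper19.C3M3

open Cfsg.Agent.Helper32.C3 Cfsg.Agent.Helper9.C3M3

universe u v

section Mono

variable {G : Type u} [Group G] [Finite G] {V : Type v} [AddCommGroup V] [Module (ZMod 3) V]
  [Finite V] (ρ : Representation (ZMod 3) G V) (R Q : Subgroup G) (b : G)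
  (e : Module.Basis (Fin 4) (ZMod 3) V) (π : G →* Equiv.Perm (Fin 4))
  (s : G → Fin 4 → (ZMod 3)ˣ)

/-- (B) `π G` is transitive -/
theorem transitive (h : Cfg ρ R Q b)
    (hmono : ∀ g i, ρ g (e i) = ((s g i : (ZMod 3)ˣ) : ZMod 3) • e (π g i)) :
    ∀ i j : Fin 4, ∃ g : G, π g i = j := by
  intro i j
  have hinv : Inv ρ ⊤ (Submodule.span (ZMod 3) (e '' {j | ∃ g : G, π g i = j})) := by
    intro g _ v hv
    induction hv using Submodule.span_induction with
    | mem x hx =>
      obtain ⟨k, ⟨g', hg'⟩, rfl⟩ := hx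
      rw [hmono]
      refine Submodule.smul_mem _ _ (Submodule.subset_span ⟨π g k, ⟨g * g', ?_⟩, rfl⟩)
      rw [map_mul, Equiv.Perm.mul_apply, hg']
    | zero => rw [map_zero]; exact Submodule.zero_mem _
    | add x y _ _ hx hy => rw [map_add]; exact Submodule.add_mem _ hx hy
    | smul a x _ hx => rw [map_smul]; exact Submodule.smul_mem _ _ hx
  have hmem : e i ∈ Submodule.span (ZMod 3) (e '' {j | ∃ g : G, π g i = j}) :=
    Submodule.subset_span ⟨i, ⟨1, by rw [map_one, Equiv.Perm.coe_one, id_eq]⟩, rfl⟩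
  rcases h.irred _ hinv with h0 | h1
  · exfalso
    rw [h0, Submodule.mem_bot] at hmem
    exact e.ne_zero i hmem
  · have hj : e j ∈ Submodule.span (ZMod 3) (e '' {j | ∃ g : G, π g i = j}) := by
      rw [h1]
      exact Submodule.mem_top
    rw [Module.Basis.mem_span_image] at hj
    have : j ∈ ((e.repr (e j)).support : Set (Fin 4)) := by
      rw [Module.Basis.repr_self, Finset.mem_coe, Finsupp.mem_support_iff, Finsupp.single_eq_same]
      exact one_ne_zero
    exact hj this

end Mono

end Cfsg.Agent.Helper19.C3M3
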