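import Mathlib
import Cfsg.Agent.Lib.Helper32.C3Defs
import Cfsg.Agent.Lib.Helper9.C3M3Defs

/-!
C3 (M3) sub-split (helper9, for helper32's C3 server, S4415): piece (E) `sign_prod`, by helper19.
-/

set_option autoImplicit false

namespace Cfsg.Agent.Helper19.C3M3

open Cfsg.Agent.Helper32.C3 Cfsg.Agent.Helper9.C3M3

universe u v

section Mono

variable {G : Type u} [Group G] [Finite G] {V : Type v} [AddCommGroup V] [Module (ZMod 3) V]
  [Finite V] (ρ : Representation (ZMod 3) G V) (R Q : Subgroup G) (b : G)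
  (e : Module.Basis (Fin 4) (ZMod 3) V) (π : G →* Equiv.Perm (Fin 4))
  (s : G → Fin 4 → (ZMod 3)ˣ)

/-- (E) determinant one on `R` -/
theorem sign_prod (hsm : ∀ g h i, s (g * h) i = s h i * s g (π h i))
    (hcomm : ⁅R, Subgroup.zpowers b⁆ = R) : ∀ r ∈ R, ∏ i, s r i = 1 := by
  have hs1 : ∀ i, s 1 i = 1 := by
    intro i
    have h := hsm 1 1 i
    rw [mul_one, map_one, Equiv.Perm.coe_one, id_eq] at h
    exact (mul_eq_left.1 h.symm)
  let χ : G →* (ZMod 3)ˣ :=
    { toFun := fun g => ∏ i, s g i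
      map_one' := by
        simp [hs1]
      map_mul' := by
        intro g h
        show ∏ i, s (g * h) i = (∏ i, s g i) * ∏ i, s h i
        have h1 : ∏ i, s (g * h) i = ∏ i, (s h i * s g (π h i)) :=
          Finset.prod_congr rfl fun i _ => hsm g h i
        rw [h1, Finset.prod_mul_distrib, Equiv.prod_comp (π h) (fun j => s g j), mul_comm] }
  have hker : ⁅R, Subgroup.zpowers b⁆ ≤ χ.ker := by
    rw [Subgroup.commutator_le]
    intro g₁ _ g₂ _
    rw [MonoidHom.mem_ker, map_commutatorElement, commutatorElement_def]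
    rw [mul_comm (χ g₁) (χ g₂), mul_inv_cancel_right, mul_inv_cancel]
  intro r hr
  have : r ∈ χ.ker := hker (by rw [hcomm]; exact hr)
  exact MonoidHom.mem_ker.1 this

end Mono

end Cfsg.Agent.Helper19.C3M3
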