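import Mathlib
import Cfsg.Agent.Lib.Helper32.C3Defs
import Cfsg.Agent.Lib.Helper9.C3M3Defs

/-!
C3 (M3) sub-split (helper9, for helper32's C3 server, S4415): piece (I) `diag_trichotomy`,
by helper19.
-/

set_option autoImplicit false

namespace Cfsg.Agent.Helper19.C3M3

open Cfsg.Agent.Helper32.C3 Cfsg.Agent.Helper9.C3M3

universe u v

set_option maxRecDepth 100000 in
set_option synthInstance.maxHeartbeats 400000 in
set_option synthInstance.maxSize 2000 in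
/-- the sign vectors of product one: generated by the even permutations of a non-constant one -/
theorem h19_dec_I : ∀ ε : Fin 4 → (ZMod 3)ˣ, (∏ i, ε i = 1) → ¬ (∀ i j, ε i = ε j) →
    ∀ ε' : Fin 4 → (ZMod 3)ˣ, (∏ i, ε' i = 1) →
    ((∀ i, ε' i = 1) ∨
      (∃ σ : Equiv.Perm (Fin 4), Equiv.Perm.sign σ = 1 ∧ ∀ i, ε' i = ε (σ⁻¹ i)) ∨
      (∃ σ : Equiv.Perm (Fin 4), Equiv.Perm.sign σ = 1 ∧ ∀ i, ε' i = ε (σ⁻¹ i) * ε i)) := by
  decide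

section Mono2

variable {G : Type u} [Group G] [Finite G] {V : Type v} [AddCommGroup V] [Module (ZMod 3) V]
  [Finite V] (ρ : Representation (ZMod 3) G V) (R Q : Subgroup G) (b : G)
  (e : Module.Basis (Fin 4) (ZMod 3) V) (π : G →* Equiv.Perm (Fin 4))
  (s : G → Fin 4 → (ZMod 3)ˣ)

/-- (I) trichotomy for `D` -/
theorem diag_trichotomy (hsm : ∀ g h i, s (g * h) i = s h i * s g (π h i))
    (hs1 : ∀ i, s 1 i = 1)
    (hprod : ∀ r ∈ R, ∏ i, s r i = 1)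
    (heven : ∀ σ : Equiv.Perm (Fin 4), Equiv.Perm.sign σ = 1 → ∃ g : G, π g = σ)
    (hconj : ∀ g d : G, d ∈ R ⊓ π.ker →
      g * d * g⁻¹ ∈ R ⊓ π.ker ∧ ∀ i, s (g * d * g⁻¹) i = s d ((π g)⁻¹ i)) :
    (∀ d ∈ R ⊓ π.ker, ∀ i j, s d i = s d j) ∨
      ∀ ε : Fin 4 → (ZMod 3)ˣ, ∏ i, ε i = 1 → ∃ d ∈ R ⊓ π.ker, ∀ i, s d i = ε i := by
  by_cases hsc : ∀ d ∈ R ⊓ π.ker, ∀ i j, s d i = s d j
  · exact Or.inl hsc
  right
  push Not at hsc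
  obtain ⟨d, hd, i₀, j₀, hij⟩ := hsc
  have hε1 : ∏ i, s d i = 1 := hprod d hd.1
  have hεnc : ¬ ∀ i j, s d i = s d j := fun h => hij (h i₀ j₀)
  intro ε' hε'
  rcases h19_dec_I (s d) hε1 hεnc ε' hε' with h1 | ⟨σ, hσ, h2⟩ | ⟨σ, hσ, h3⟩
  · exact ⟨1, Subgroup.one_mem _, fun i => by rw [hs1, h1]⟩
  · obtain ⟨g, hg⟩ := heven σ hσ
    obtain ⟨hmem, hs⟩ := hconj g d hd
    refine ⟨g * d * g⁻¹, hmem, fun i => ?_⟩
    rw [hs, hg, h2]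
  · obtain ⟨g, hg⟩ := heven σ hσ
    obtain ⟨hmem, hs⟩ := hconj g d hd
    refine ⟨d * (g * d * g⁻¹), Subgroup.mul_mem _ hd hmem, fun i => ?_⟩
    have hker : π (g * d * g⁻¹) = 1 := MonoidHom.mem_ker.1 hmem.2
    rw [hsm, hker, Equiv.Perm.coe_one, id_eq, hs, hg, h3]

end Mono2

end Cfsg.Agent.Helper19.C3M3
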