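import Cfsg.Agent.Lib.Helper1.CD3.Defs
import Cfsg.Agent.Lib.Helper52.Coprime
import Mathlib

/-!
# CD3B (helper1 server, S4460), piece G1: the supplement `G = [R,F] N_G(P)`,
`[R,F] ∩ N_G(P) ≤ [R,F]'`.
-/

set_option autoImplicit false

namespace Cfsg.Agent.Helper19.CD3B

open Cfsg Cfsg.Agent.Helper81 Cfsg.Agent.Helper1.CD3

open scoped commutatorElement

universe u

/-- coprime action of `A` on a normal subgroup `W` with `[W,A] = W`: the fixed points lie in `W'`
(norm map into the abelianisation). -/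
theorem h19_fixed_le_derived {G : Type u} [Group G] [Finite G] (W A : Subgroup G) [hW : W.Normal]
    (hcop : (Nat.card A).Coprime (Nat.card W)) (hWA : ⁅W, A⁆ = W) :
    W ⊓ Subgroup.centralizer (A : Set G) ≤ ⁅W, W⁆ := by
  classical
  have : Fintype ↥A := Fintype.ofFinite _
  let N : ↥W →* Abelianization ↥W :=
    ∏ a : ↥A, (Abelianization.of.comp (MulAut.conjNormal (H := W) (a : G)).toMonoidHom)
  have hN : ∀ w : ↥W,
      N w = ∏ a : ↥A, Abelianization.of (MulAut.conjNormal (H := W) (a : G) w) := by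
    intro w
    simp only [N, MonoidHom.finsetProd_apply]
    rfl
  have hinv : ∀ (b : ↥A) (w : ↥W), N (MulAut.conjNormal (H := W) (b : G) w) = N w := by
    intro b w
    rw [hN, hN]
    refine Fintype.prod_equiv (Equiv.mulRight b) _ _ (fun a => ?_)
    simp only [Equiv.coe_mulRight, Subgroup.coe_mul, map_mul, MulAut.mul_apply]
  have hker : ⁅W, A⁆ ≤ N.ker.map W.subtype := by
    rw [Subgroup.commutator_le]
    intro w hw b hb
    refine Subgroup.mem_map.mpr
      ⟨⟨w, hw⟩ * (MulAut.conjNormal (H := W) b ⟨w, hw⟩)⁻¹, ?_, ?_⟩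
    · rw [MonoidHom.mem_ker, map_mul, map_inv, hinv ⟨b, hb⟩ ⟨w, hw⟩, mul_inv_cancel]
    · simp only [Subgroup.subtype_apply, Subgroup.coe_mul, Subgroup.coe_inv,
        MulAut.conjNormal_apply, commutatorElement_def]
      group
  intro c hc
  obtain ⟨hcW, hcA⟩ := hc
  have hcker : N ⟨c, hcW⟩ = 1 := by
    have h1 : c ∈ N.ker.map W.subtype := hker (hWA.symm ▸ hcW)
    obtain ⟨c', hc', hcc'⟩ := Subgroup.mem_map.mp h1
    have h2 : c' = ⟨c, hcW⟩ := Subtype.ext hcc'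
    rw [← h2]
    exact hc'
  have hpow : N ⟨c, hcW⟩ = (Abelianization.of (⟨c, hcW⟩ : ↥W)) ^ (Nat.card A) := by
    rw [hN, Nat.card_eq_fintype_card, ← Finset.card_univ, ← Finset.prod_const]
    refine Finset.prod_congr rfl (fun a _ => ?_)
    congr 1
    apply Subtype.ext
    rw [MulAut.conjNormal_apply]
    have h1 := (Subgroup.mem_centralizer_iff.mp hcA) (a : G) a.2
    change (a : G) * c * (a : G)⁻¹ = c
    rw [h1, mul_inv_cancel_right]
  have h1 : (Abelianization.of (⟨c, hcW⟩ : ↥W)) ^ (Nat.card A) = 1 := by rw [← hpow, hcker]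
  have h2 : (Abelianization.of (⟨c, hcW⟩ : ↥W)) ^ (Nat.card W) = 1 := by
    rw [← map_pow, pow_card_eq_one', map_one]
  have h3 : (Abelianization.of (⟨c, hcW⟩ : ↥W)) ^ Nat.gcd (Nat.card A) (Nat.card W) = 1 :=
    pow_gcd_eq_one.mpr ⟨h1, h2⟩
  rw [Nat.Coprime.gcd_eq_one hcop, pow_one] at h3
  have h4 : (⟨c, hcW⟩ : ↥W) ∈ commutator ↥W := by
    rw [← Abelianization.ker_of, MonoidHom.mem_ker]
    exact h3
  rw [← Subgroup.map_subtype_commutator]
  exact Subgroup.mem_map.mpr ⟨_, h4, rfl⟩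

/-- (G1) [HARD] the supplement.  `F = R P`, `R` normal `p'`, `P` a `p`-group, `[R,F] = [R,P] =: W`.  Then
`G = W N_G(P)` and `W ∩ N_G(P) ≤ W'`. -/
theorem supplement {G : Type u} [Group G] [Finite G] (p : ℕ) [Fact p.Prime] (F R P : Subgroup G)
    (hF : F.Normal) (hR : R.Normal) (hRF : R ≤ F) (hPF : P ≤ F)
    (hRc : (Nat.card R).Coprime p) (hP : IsPGroup p P) (hcard : Nat.card R * Nat.card P = Nat.card F)
    (hcomm : ⁅R, F⁆ ≤ ⁅R, P⁆) :
    ⁅R, F⁆ ⊔ Subgroup.normalizer (P : Set G) = ⊤ ∧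
      ⁅R, F⁆ ⊓ Subgroup.normalizer (P : Set G) ≤ ⁅⁅R, F⁆, ⁅R, F⁆⁆ := by
  have hp : p.Prime := Fact.out
  have hWn : (⁅R, F⁆).Normal := by infer_instance
  have hWR : ⁅R, F⁆ ≤ R := Subgroup.commutator_le_left R F
  have hWeq : ⁅R, F⁆ = ⁅R, P⁆ := le_antisymm hcomm (Subgroup.commutator_mono le_rfl hPF)
  obtain ⟨n, hn⟩ := IsPGroup.iff_card.mp hP
  have hcopPR : (Nat.card P).Coprime (Nat.card R) := by
    rw [hn]
    exact (Nat.Coprime.pow_right n hRc).symm
  have hRP : R ⊓ P = ⊥ := (Subgroup.disjoint_of_coprime_natCard hcopPR.symm).eq_bot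
  have hPnR : P ≤ Subgroup.normalizer (R : Set G) := by
    rw [Subgroup.normalizer_eq_top]
    exact le_top
  have hsolv : Group.IsSolvable ↥P ∨ Group.IsSolvable ↥R := by
    left
    have : Group.IsNilpotent ↥P := hP.isNilpotent
    infer_instance
  refine ⟨?_, ?_⟩
  · -- Frattini
    have hP' : IsPGroup p (P.subgroupOf F) :=
      hP.of_equiv (Subgroup.subgroupOfEquivOfLe hPF).symm
    have hidx : (P.subgroupOf F).index = Nat.card R := by
      have h1 := Subgroup.card_mul_index (P.subgroupOf F)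
      rw [Nat.card_congr (Subgroup.subgroupOfEquivOfLe hPF).toEquiv, ← hcard, mul_comm] at h1
      exact Nat.eq_of_mul_eq_mul_right Nat.card_pos h1
    have hnd : ¬ p ∣ (P.subgroupOf F).index := by
      rw [hidx]
      exact fun hd => hp.one_lt.ne' (Nat.Coprime.eq_one_of_dvd hRc.symm hd)
    have hfr := Sylow.normalizer_sup_eq_top (hP'.toSylow hnd)
    rw [IsPGroup.toSylow_coe, Subgroup.map_subgroupOf_eq_of_le hPF] at hfr
    -- `F = R ⊔ P`
    have hsupF : R ⊔ P = F := by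
      apply Subgroup.eq_of_le_of_card_ge (sup_le hRF hPF)
      have h1 : Nat.card R ∣ Nat.card ↥(R ⊔ P) := Subgroup.card_dvd_of_le le_sup_left
      have h2 : Nat.card P ∣ Nat.card ↥(R ⊔ P) := Subgroup.card_dvd_of_le le_sup_right
      have h3 := Nat.Coprime.mul_dvd_of_dvd_of_dvd hcopPR.symm h1 h2
      rw [hcard] at h3
      exact Nat.le_of_dvd Nat.card_pos h3
    have hRdec := Cfsg.Agent.Helper52.eq_commutator_sup_centralizer R P hPnR hcopPR hsolv
    have hRle : R ≤ ⁅R, F⁆ ⊔ Subgroup.normalizer (P : Set G) := by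
      have h1 : ⁅R, P⁆ ⊔ R ⊓ Subgroup.centralizer (P : Set G) ≤
          ⁅R, F⁆ ⊔ Subgroup.normalizer (P : Set G) := by
        refine sup_le (hWeq.symm.le.trans le_sup_left) ?_
        exact (inf_le_right.trans (Subgroup.centralizer_le_normalizer _)).trans le_sup_right
      exact hRdec.le.trans h1
    have hPle : P ≤ ⁅R, F⁆ ⊔ Subgroup.normalizer (P : Set G) :=
      Subgroup.le_normalizer.trans le_sup_right
    have hFle : F ≤ ⁅R, F⁆ ⊔ Subgroup.normalizer (P : Set G) :=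
      hsupF.symm.le.trans (sup_le hRle hPle)
    rw [eq_top_iff, ← hfr]
    exact sup_le le_sup_right hFle
  · -- the intersection
    have hWP : ⁅⁅R, F⁆, P⁆ = ⁅R, F⁆ := by
      rw [hWeq]
      exact Cfsg.Agent.Helper52.commutator_commutator_eq R P hPnR hcopPR hsolv
    have hcopPW : (Nat.card P).Coprime (Nat.card ↥(⁅R, F⁆)) :=
      Nat.Coprime.coprime_dvd_right (Subgroup.card_dvd_of_le hWR) hcopPR
    refine le_trans ?_ (h19_fixed_le_derived ⁅R, F⁆ P hcopPW hWP)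
    intro g hg
    obtain ⟨hgW, hgN⟩ := hg
    refine ⟨hgW, Subgroup.mem_centralizer_iff.mpr ?_⟩
    intro x hx
    have h1 : g * x * g⁻¹ ∈ P := (hgN x).mp hx
    have h2 : g * x * g⁻¹ * x⁻¹ ∈ P := Subgroup.mul_mem _ h1 (Subgroup.inv_mem _ hx)
    have h3 : g * x * g⁻¹ * x⁻¹ ∈ ⁅R, F⁆ := by
      have h4 : x * g⁻¹ * x⁻¹ ∈ ⁅R, F⁆ := hWn.conj_mem _ (Subgroup.inv_mem _ hgW) x
      have h5 : g * x * g⁻¹ * x⁻¹ = g * (x * g⁻¹ * x⁻¹) := by group
      rw [h5]
      exact Subgroup.mul_mem _ hgW h4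
    have h6 : g * x * g⁻¹ * x⁻¹ ∈ R ⊓ P := ⟨hWR h3, h2⟩
    rw [hRP, Subgroup.mem_bot] at h6
    have h7 : g * x = x * g := by
      have h8 : g * x = (g * x * g⁻¹ * x⁻¹) * (x * g) := by group
      rw [h8, h6, one_mul]
    exact h7.symm

end Cfsg.Agent.Helper19.CD3B
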