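import Mathlib
import Cfsg.Agent.S1229

set_option autoImplicit false
set_option linter.style.haveILetI false
set_option linter.unusedSimpArgs false
set_option linter.unusedSectionVars false
set_option linter.unusedVariables false

/-! Groups whose involution centralisers are elementary abelian 2-groups: the sharply 3-transitive
permutation representation on the cosets of a Sylow 2-normaliser (packaging of S1229). -/

namespace Cfsg.Agent.Helper19.CIT

open MulAction

/-- The order of a sharply 3-transitive permutation group. -/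
theorem card_of_sharp3 {α : Type*} [Fintype α] [DecidableEq α] (G : Subgroup (Equiv.Perm α))
    (h3 : MulAction.IsMultiplyPretransitive G α 3)
    (hsharp : ∀ x : Fin 3 ↪ α, MulAction.stabilizer G x = ⊥) (k : ℕ)
    (hα : Fintype.card α = k + 2) (hk : 1 ≤ k) : Nat.card G = k * (k + 1) * (k + 2) := by
  obtain ⟨x₀⟩ : Nonempty (Fin 3 ↪ α) :=
    Function.Embedding.nonempty_of_card_le (by rw [Fintype.card_fin, hα]; omega)
  have hbij : Function.Bijective (fun g : G => g • x₀) := by
    constructor
    · intro g g' hgg0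
      have hgg' : g • x₀ = g' • x₀ := hgg0
      have : g'⁻¹ * g ∈ MulAction.stabilizer G x₀ := by
        rw [MulAction.mem_stabilizer_iff, mul_smul]
        exact inv_smul_eq_iff.mpr hgg'
      rw [hsharp, Subgroup.mem_bot] at this
      calc g = g' * (g'⁻¹ * g) := by group
        _ = g' := by rw [this, mul_one]
    · intro y
      exact h3.exists_smul_eq x₀ y
  rw [Nat.card_eq_of_bijective _ hbij, Nat.card_eq_fintype_card, Fintype.card_embedding_eq, hα,
    Fintype.card_fin]
  simp [Nat.descFactorial]
  ring

universe u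

variable {G : Type u} [Group G] [Finite G]

/-- Packaging of S1229: a faithful sharply 3-transitive permutation representation of degree
`|T| + 1`. -/
theorem perm_rep (T : Sylow 2 G) (hnc : ¬ IsCyclic (T : Subgroup G))
    (hnn : ¬ (T : Subgroup G).Normal)
    (hC : ∀ t : G, orderOf t = 2 → IsMulCommutative (Subgroup.centralizer ({t} : Set G)) ∧
      ∀ c ∈ Subgroup.centralizer ({t} : Set G), c ^ 2 = 1) :
    ∃ (X : Type u) (_ : Fintype X) (_ : DecidableEq X) (ρ : G →* Equiv.Perm X),
      Function.Injective ρ ∧ Fintype.card X = Nat.card T + 1 ∧ 4 ≤ Nat.card T ∧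
      Even (Nat.card T) ∧
      MulAction.IsMultiplyPretransitive ρ.range X 3 ∧
      (∀ x : Fin 3 ↪ X, MulAction.stabilizer ρ.range x = ⊥) := by
  classical
  obtain ⟨h3t, hsh, hreg⟩ := Cfsg.Agent.S1229.result T hnc hnn hC
  set X := G ⧸ Subgroup.normalizer ((T : Subgroup G) : Set G) with hX
  haveI : Fintype X := Fintype.ofFinite X
  let pt0 : X := QuotientGroup.mk 1
  have hex1 : ∃ a : X, a ≠ pt0 := by
    by_contra hcon
    push Not at hcon
    apply hnn
    have htop : Subgroup.normalizer ((T : Subgroup G) : Set G) = ⊤ := by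
      rw [eq_top_iff]
      intro g _
      have := hcon (QuotientGroup.mk g)
      have h2 : (QuotientGroup.mk g : X) = QuotientGroup.mk 1 := this
      rw [QuotientGroup.eq] at h2
      have h3 := Subgroup.inv_mem _ h2
      simpa using h3
    exact Subgroup.normalizer_eq_top_iff.mp htop
  obtain ⟨a1, ha1⟩ := hex1
  have hTfix : ∀ t : G, t ∈ T → t • pt0 = pt0 := by
    intro t ht
    change (QuotientGroup.mk (t * 1) : X) = QuotientGroup.mk 1
    rw [QuotientGroup.eq]
    have : t ∈ Subgroup.normalizer ((T : Subgroup G) : Set G) := Subgroup.le_normalizer ht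
    simpa using Subgroup.inv_mem _ this
  have hcardX : Fintype.card X = Nat.card T + 1 := by
    have hne : ∀ t : (T : Subgroup G), (t : G) • a1 ≠ pt0 := by
      intro t h
      apply ha1
      have h2 : a1 = (t : G)⁻¹ • pt0 := by rw [← h, inv_smul_smul]
      rw [h2, hTfix _ ((T : Subgroup G).inv_mem t.2)]
    have hbij : Function.Bijective
        (fun t : (T : Subgroup G) => (⟨(t : G) • a1, hne t⟩ : {x : X // x ≠ pt0})) := by
      constructor
      · intro t t' htt'
        have h1 : (t : G) • a1 = (t' : G) • a1 := congrArg Subtype.val htt'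
        obtain ⟨u, _, hu⟩ := hreg a1 ((t' : G) • a1) ha1 (hne t')
        have e1 := hu t ⟨t.2, h1⟩
        have e2 := hu t' ⟨t'.2, rfl⟩
        exact Subtype.ext (e1.trans e2.symm)
      · rintro ⟨y, hy⟩
        obtain ⟨u, ⟨hu1, hu2⟩, _⟩ := hreg a1 y ha1 hy
        exact ⟨⟨u, hu1⟩, Subtype.ext hu2⟩
    have h1 : Fintype.card X = Fintype.card {x : X // x ≠ pt0} + 1 := by
      rw [← Fintype.card_option, Fintype.card_congr (Equiv.optionSubtypeNe pt0)]
    rw [h1, ← Nat.card_eq_fintype_card (α := {x : X // x ≠ pt0}),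
      ← Nat.card_eq_of_bijective _ hbij]
  obtain ⟨n, hn⟩ := (T.2).exists_card_eq
  have hn' : Nat.card T = 2 ^ n := hn
  have hn2 : 2 ≤ n := by
    by_contra hlt
    apply hnc
    have hn01 : n = 0 ∨ n = 1 := by omega
    rcases hn01 with rfl | rfl
    · have : Nat.card (T : Subgroup G) = 1 := by simpa using hn'
      have hsub : Subsingleton (T : Subgroup G) := (Nat.card_eq_one_iff_unique.mp this).1
      exact isCyclic_of_subsingleton
    · have hc2 : Nat.card (T : Subgroup G) = 2 := by simpa using hn'
      haveI : Fact (Nat.Prime 2) := ⟨Nat.prime_two⟩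
      exact isCyclic_of_prime_card hc2
  have hq4 : 4 ≤ Nat.card T := by
    rw [hn']
    calc 4 = 2 ^ 2 := by norm_num
      _ ≤ 2 ^ n := Nat.pow_le_pow_right (by norm_num) hn2
  have heven : Even (Nat.card T) := by
    rw [hn']
    exact (Nat.even_pow' (by omega)).mpr even_two
  obtain ⟨p1, p2, p3, h12, h13, h23⟩ := Fintype.two_lt_card_iff.mp (by omega : 2 < Fintype.card X)
  let ρ : G →* Equiv.Perm X := MulAction.toPermHom G X
  have hρ : ∀ (g : G) (x : X), ρ g x = g • x := fun g x => rfl
  have hinj : Function.Injective ρ := by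
    rw [injective_iff_map_eq_one]
    intro g hg
    apply hsh g p1 p2 p3 h12 h13 h23
    · rw [← hρ, hg]; rfl
    · rw [← hρ, hg]; rfl
    · rw [← hρ, hg]; rfl
  have h3 : MulAction.IsMultiplyPretransitive ρ.range X 3 := by
    refine ⟨fun x y => ?_⟩
    obtain ⟨g, hg0, hg1, hg2⟩ := h3t (x 0) (x 1) (x 2) (y 0) (y 1) (y 2)
      (fun e => by simpa using x.injective e) (fun e => by simpa using x.injective e)
      (fun e => by simpa using x.injective e) (fun e => by simpa using y.injective e)
      (fun e => by simpa using y.injective e) (fun e => by simpa using y.injective e)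
    refine ⟨⟨ρ g, g, rfl⟩, ?_⟩
    ext i
    change ρ g (x i) = y i
    rw [hρ]
    fin_cases i
    · exact hg0
    · exact hg1
    · exact hg2
  have hsharp : ∀ x : Fin 3 ↪ X, MulAction.stabilizer ρ.range x = ⊥ := by
    intro x
    rw [eq_bot_iff]
    rintro ⟨σ, g, rfl⟩ hσ
    rw [MulAction.mem_stabilizer_iff] at hσ
    have hfix : ∀ i, g • x i = x i := fun i => by
      have := congrArg (fun e : Fin 3 ↪ X => e i) hσ
      exact this
    have hg1 : g = 1 := hsh g (x 0) (x 1) (x 2)
      (fun e => by simpa using x.injective e) (fun e => by simpa using x.injective e)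
      (fun e => by simpa using x.injective e) (hfix 0) (hfix 1) (hfix 2)
    rw [Subgroup.mem_bot]
    apply Subtype.ext
    change ρ g = 1
    rw [hg1, map_one]
  exact ⟨X, inferInstance, inferInstance, ρ, hinj, hcardX, hq4, heven, h3, hsharp⟩

/-- The order of such a group. -/
theorem card_eq (T : Sylow 2 G) (hnc : ¬ IsCyclic (T : Subgroup G))
    (hnn : ¬ (T : Subgroup G).Normal)
    (hC : ∀ t : G, orderOf t = 2 → IsMulCommutative (Subgroup.centralizer ({t} : Set G)) ∧
      ∀ c ∈ Subgroup.centralizer ({t} : Set G), c ^ 2 = 1) :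
    Nat.card G = (Nat.card T - 1) * Nat.card T * (Nat.card T + 1) := by
  obtain ⟨X, hXf, hXd, ρ, hinj, hcard, hq4, _, h3, hsharp⟩ := perm_rep T hnc hnn hC
  have h1 := card_of_sharp3 ρ.range h3 hsharp (Nat.card T - 1) (by rw [hcard]; omega) (by omega)
  rw [← Nat.card_congr (MonoidHom.ofInjective hinj).toEquiv] at h1
  rw [h1]
  have e1 : Nat.card T - 1 + 1 = Nat.card T := by omega
  have e2 : Nat.card T - 1 + 2 = Nat.card T + 1 := by omega
  rw [e1, e2]

end Cfsg.Agent.Helper19.CIT
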