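import Mathlib

/-!
# Abstract counting lemmas for the Bender–Glauberman "clique" count

* `card_mul_ncard_conj'`: TI count without commutativity of `Z`:
  if `Zh ⊆ Z` is normalized by `Z` and `h z h⁻¹ ∈ Zh` (`z ∈ Zh`) forces `h ∈ Z`, then
  `#Z · #(conjugates of Zh) = #G · #Zh`.
* `clique_count_false`: the final inequality: pairwise disjoint sets `A i` (`i : ι`, `#ι ≥ 2`) with
  `#A i · (m i · #Z) = (m i - 1) · #G · #Z_i`, `3 · #Z_i ≤ m i`, together with a TI set `Zh` of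
  cardinality `#Z + (#ι - 1) - ∑ #Z_i` whose conjugates avoid all `A i`, cannot fit into `G`.
-/

set_option autoImplicit false

namespace Cfsg.Agent.Helper19.CliqueCount

variable {G : Type*} [Group G]

/-- The set of all `G`-conjugates of elements of `Zh`. -/
def conjSet (Zh : Set G) : Set G := {a : G | ∃ g : G, ∃ z ∈ Zh, a = g * z * g⁻¹}

theorem card_mul_ncard_conj' [Finite G] (Z : Subgroup G) (Zh : Set G)
    (hZhZ : ∀ z ∈ Zh, ∀ h ∈ Z, h * z * h⁻¹ ∈ Zh)
    (hF : ∀ h : G, ∀ z ∈ Zh, h * z * h⁻¹ ∈ Zh → h ∈ Z) :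
    Nat.card Z * Set.ncard (conjSet Zh) = Nat.card G * Set.ncard Zh := by
  classical
  obtain ⟨S, hS⟩ : ∃ S : Set G, S = conjSet Zh := ⟨_, rfl⟩
  rw [← hS]
  have hSmem : ∀ a ∈ S, ∃ g : G, ∃ z ∈ Zh, a = g * z * g⁻¹ := by
    intro a ha; rw [hS] at ha; exact ha
  choose! gf zf hzf using hSmem
  have hmemZh : ∀ (h : ↥Z) (a : ↥S), (h.1)⁻¹ * zf a.1 * h.1 ∈ Zh := by
    intro h a
    have := hZhZ (zf a.1) (hzf a.1 a.2).1 (h.1)⁻¹ (Z.inv_mem h.2)
    simpa using this
  let φ : ↥Z × ↥S → G × ↥Zh :=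
    fun p => (gf p.2.1 * p.1.1, ⟨(p.1.1)⁻¹ * zf p.2.1 * p.1.1, hmemZh p.1 p.2⟩)
  have hconj2 : ∀ (g h z : G), (g * h) * (h⁻¹ * z * h) * (g * h)⁻¹ = g * z * g⁻¹ := by
    intro g h z; group
  have hinj : Function.Injective φ := by
    rintro ⟨⟨h, hh⟩, ⟨a, ha⟩⟩ ⟨⟨h', hh'⟩, ⟨b, hb⟩⟩ heq
    simp only [φ, Prod.mk.injEq, Subtype.mk.injEq] at heq
    obtain ⟨h1, h2⟩ := heq
    have hab : a = b := by
      calc a = gf a * zf a * (gf a)⁻¹ := (hzf a ha).2
        _ = (gf a * h) * (h⁻¹ * zf a * h) * (gf a * h)⁻¹ := (hconj2 _ h _).symm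
        _ = (gf b * h') * (h'⁻¹ * zf b * h') * (gf b * h')⁻¹ := by rw [h1, h2]
        _ = gf b * zf b * (gf b)⁻¹ := hconj2 _ h' _
        _ = b := (hzf b hb).2.symm
    subst hab
    have hh2 : h = h' := mul_left_cancel h1
    subst hh2
    rfl
  have hsurj : Function.Surjective φ := by
    rintro ⟨g, ⟨z, hz⟩⟩
    have ha : g * z * g⁻¹ ∈ S := by rw [hS]; exact ⟨g, z, hz, rfl⟩
    obtain ⟨hza, hea⟩ := hzf _ ha
    set ga := gf (g * z * g⁻¹) with hga
    set za := zf (g * z * g⁻¹) with hza'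
    have e1 : (ga⁻¹ * g) * z * (ga⁻¹ * g)⁻¹ = za := by
      have : (ga⁻¹ * g) * z * (ga⁻¹ * g)⁻¹ = ga⁻¹ * (g * z * g⁻¹) * ga := by group
      rw [this, hea]
      group
    have hhZ : ga⁻¹ * g ∈ Z := hF _ z hz (by rw [e1]; exact hza)
    refine ⟨(⟨ga⁻¹ * g, hhZ⟩, ⟨g * z * g⁻¹, ha⟩), ?_⟩
    simp only [φ]
    refine Prod.ext ?_ ?_
    · simp only
      rw [← hga]; group
    · apply Subtype.ext
      simp only
      rw [← hza', ← e1]
      group
  have hcard := Nat.card_congr (Equiv.ofBijective φ ⟨hinj, hsurj⟩)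
  rw [Nat.card_prod, Nat.card_prod, Nat.card_coe_set_eq, Nat.card_coe_set_eq] at hcard
  exact hcard

omit [Group G] in
/-- Sum of cardinalities of pairwise disjoint sets plus one more disjoint set is at most `#G`. -/
theorem sum_ncard_add_le [Finite G] {ι : Type*} [Fintype ι] (A : ι → Set G) (B : Set G)
    (hdisj : Pairwise (fun i j => Disjoint (A i) (A j))) (hB : ∀ i, Disjoint (A i) B) :
    (∑ i, (A i).ncard) + B.ncard ≤ Nat.card G := by
  classical
  let _ : Fintype G := Fintype.ofFinite G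
  have h1 : (∑ i, (A i).ncard) = ((Finset.univ : Finset ι).biUnion (fun i => (A i).toFinset)).card := by
    rw [Finset.card_biUnion]
    · refine Finset.sum_congr rfl (fun i _ => ?_)
      rw [Set.ncard_eq_toFinset_card']
    · intro i _ j _ hij
      have := hdisj hij
      show Disjoint (A i).toFinset (A j).toFinset
      rw [Set.disjoint_toFinset]
      exact this
  have h2 : B.ncard = B.toFinset.card := Set.ncard_eq_toFinset_card' B
  have h3 : Disjoint ((Finset.univ : Finset ι).biUnion (fun i => (A i).toFinset)) B.toFinset := by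
    rw [Finset.disjoint_biUnion_left]
    intro i _
    rw [Set.disjoint_toFinset]
    exact hB i
  rw [h1, h2, ← Finset.card_union_of_disjoint h3, Nat.card_eq_fintype_card]
  exact Finset.card_le_univ _

theorem clique_count_false [Finite G] {ι : Type*} [Fintype ι] (hι : 2 ≤ Fintype.card ι)
    (Z : Subgroup G) (c : ι → ℕ) (m : ι → ℕ) (A : ι → Set G)
    (hm : ∀ i, 3 * c i ≤ m i) (hc : ∀ i, 0 < c i)
    (hA : ∀ i, (A i).ncard * (m i * Nat.card Z) = (m i - 1) * Nat.card G * c i)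
    (hdisj : Pairwise (fun i j => Disjoint (A i) (A j)))
    (Zh : Set G)
    (hZhcard : Zh.ncard + ∑ i, c i = Nat.card Z + (Fintype.card ι - 1))
    (hZhconj : ∀ h : G, ∀ z ∈ Zh, h * z * h⁻¹ ∈ Zh → h ∈ Z)
    (hZhZ : ∀ z ∈ Zh, ∀ h ∈ Z, h * z * h⁻¹ ∈ Zh)
    (hZhA : ∀ i, ∀ z ∈ Zh, ∀ g : G, g * z * g⁻¹ ∉ A i) : False := by
  classical
  have hcount := card_mul_ncard_conj' Z Zh hZhZ hZhconj
  have hBdisj : ∀ i, Disjoint (A i) (conjSet Zh) := by
    intro i
    rw [Set.disjoint_left]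
    rintro a ha ⟨g, z, hz, rfl⟩
    exact hZhA i z hz g ha
  have hle := sum_ncard_add_le A (conjSet Zh) hdisj hBdisj
  -- move to ℚ
  have hG : (0 : ℚ) < Nat.card G := by exact_mod_cast Nat.card_pos
  have hZ : (0 : ℚ) < Nat.card Z := by exact_mod_cast Nat.card_pos
  have hmpos : ∀ i, (0 : ℚ) < m i := by
    intro i
    have := hm i; have := hc i
    have : 0 < m i := by omega
    exact_mod_cast this
  -- each A i
  have hAi : ∀ i, ((A i).ncard : ℚ) = ((m i : ℚ) - 1) * Nat.card G * c i / (m i * Nat.card Z) := by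
    intro i
    have h := hA i
    have hm1 : 1 ≤ m i := by have := hm i; have := hc i; omega
    have : ((A i).ncard : ℚ) * ((m i : ℚ) * Nat.card Z) = ((m i : ℚ) - 1) * Nat.card G * c i := by
      have := congrArg (fun n : ℕ => (n : ℚ)) h
      simp only [Nat.cast_mul] at this
      rw [Nat.cast_sub hm1] at this
      simpa using this
    rw [eq_div_iff (by have := hmpos i; positivity)]
    exact this
  have hS : ((conjSet Zh).ncard : ℚ) = (Zh.ncard : ℚ) * Nat.card G / Nat.card Z := by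
    rw [eq_div_iff (ne_of_gt hZ)]
    have := congrArg (fun n : ℕ => (n : ℚ)) hcount
    simp only [Nat.cast_mul] at this
    linarith
  have hN1 : 1 ≤ Fintype.card ι := by omega
  have hZhq : (Zh.ncard : ℚ) = Nat.card Z + ((Fintype.card ι : ℚ) - 1) - ∑ i, (c i : ℚ) := by
    have := congrArg (fun n : ℕ => (n : ℚ)) hZhcard
    simp only [Nat.cast_add, Nat.cast_sum] at this
    rw [Nat.cast_sub hN1] at this
    simp only [Nat.cast_one] at this
    linarith
  have hleq : (∑ i, ((A i).ncard : ℚ)) + ((conjSet Zh).ncard : ℚ) ≤ Nat.card G := by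
    have := (Nat.cast_le (α := ℚ)).mpr hle
    simpa using this
  -- bound each term from below
  have hterm : ∀ i, ((A i).ncard : ℚ) ≥ ((c i : ℚ) - 1 / 3) * Nat.card G / Nat.card Z := by
    intro i
    rw [hAi i]
    have hmi := hmpos i
    have h3 : (3 : ℚ) * c i ≤ m i := by exact_mod_cast hm i
    rw [ge_iff_le, div_le_div_iff₀ hZ (by positivity)]
    have hcpos : (0 : ℚ) < c i := by exact_mod_cast hc i
    nlinarith [mul_pos hG hZ, mul_pos (mul_pos hG hZ) hmi, mul_pos (mul_pos hG hZ) hcpos]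
  have hsum : (∑ i, ((A i).ncard : ℚ)) ≥ ∑ i, ((c i : ℚ) - 1 / 3) * Nat.card G / Nat.card Z :=
    Finset.sum_le_sum (fun i _ => hterm i)
  have hsum2 : (∑ i, ((c i : ℚ) - 1 / 3) * Nat.card G / Nat.card Z)
      = ((∑ i, (c i : ℚ)) - (Fintype.card ι : ℚ) / 3) * Nat.card G / Nat.card Z := by
    rw [← Finset.sum_div, ← Finset.sum_mul, Finset.sum_sub_distrib]
    simp [Finset.sum_const, Finset.card_univ]
    ring
  have hNq : (2 : ℚ) ≤ Fintype.card ι := by exact_mod_cast hι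
  -- total
  have : ((∑ i, (c i : ℚ)) - (Fintype.card ι : ℚ) / 3) * Nat.card G / Nat.card Z
      + (Nat.card Z + ((Fintype.card ι : ℚ) - 1) - ∑ i, (c i : ℚ)) * Nat.card G / Nat.card Z
      ≤ Nat.card G := by
    rw [← hsum2, ← hZhq, ← hS]
    linarith
  rw [← add_div, div_le_iff₀ hZ] at this
  nlinarith [mul_pos hG hZ]

end Cfsg.Agent.Helper19.CliqueCount
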