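import Cfsg.Prelude.Def_DegreeGraph
import Mathlib
import Cfsg.Agent.Lib.Helper76.CD2Basic

/-!
Piece (AB) `components_abelian` of helper89's lemma server "DG2" (row S4811): the abelian case.
-/

set_option autoImplicit false

namespace Cfsg.Agent.Helper19.DG2

open Cfsg

universe u

/-- (AB) abelian case: no vertices at all. -/
theorem components_abelian {G : Type u} [Group G] [Finite G] (hab : ∀ a b : G, a * b = b * a) :
    Nat.card ((degreeGraph G).induce (degreePrimes G)).ConnectedComponent ≤ 2 := by
  have hempty : IsEmpty (degreePrimes G) := by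
    constructor
    rintro ⟨p, hp, d, ⟨χ, rfl⟩, hpd⟩
    rw [Cfsg.Agent.Helper76.CD2.all_linear_of_comm hab χ] at hpd
    exact hp.one_lt.ne' (Nat.dvd_one.1 hpd)
  have hempty2 : IsEmpty ((degreeGraph G).induce (degreePrimes G)).ConnectedComponent := by
    constructor
    intro c
    induction c using SimpleGraph.ConnectedComponent.ind with
    | h v => exact hempty.false v
  rw [Nat.card_of_isEmpty]
  exact Nat.zero_le _

end Cfsg.Agent.Helper19.DG2
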