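import Cfsg.Prelude.Def_DegreeGraph
import Mathlib

/-!
Piece (B) `bridge` of helper89's lemma server "DG2" (row S4811): bridge to the quotient.
-/

set_option autoImplicit false

namespace Cfsg.Agent.Helper19.DG2

open Cfsg
open scoped commutatorElement

universe u

/-- (B) bridge to the quotient.  `G/K` is nonabelian and every proper quotient of `G/K` is abelian. -/
theorem bridge {G : Type u} [Group G] (K : Subgroup G) [K.Normal]
    (hK : ¬ commutator G ≤ K)
    (hmax : ∀ L : Subgroup G, L.Normal → K < L → commutator G ≤ L) :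
    (¬ ∀ a b : G ⧸ K, a * b = b * a) ∧
      ∀ L : Subgroup (G ⧸ K), L.Normal → L ≠ ⊥ → commutator (G ⧸ K) ≤ L := by
  constructor
  · intro hcomm
    apply hK
    rw [commutator_def, Subgroup.commutator_le]
    intro a _ b _
    rw [← QuotientGroup.eq_one_iff, commutatorElement_def]
    have h1 := hcomm (a : G ⧸ K) (b : G ⧸ K)
    calc ((a * b * a⁻¹ * b⁻¹ : G) : G ⧸ K)
        = (a : G ⧸ K) * (b : G ⧸ K) * (a : G ⧸ K)⁻¹ * (b : G ⧸ K)⁻¹ := by simp
      _ = (b : G ⧸ K) * (a : G ⧸ K) * (a : G ⧸ K)⁻¹ * (b : G ⧸ K)⁻¹ := by rw [h1]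
      _ = 1 := by group
  · intro L hL hLbot
    have hLn : (L.comap (QuotientGroup.mk' K)).Normal := hL.comap _
    have hle : K ≤ L.comap (QuotientGroup.mk' K) := by
      intro k hk
      rw [Subgroup.mem_comap, QuotientGroup.mk'_apply, (QuotientGroup.eq_one_iff k).2 hk]
      exact L.one_mem
    have hne : K ≠ L.comap (QuotientGroup.mk' K) := by
      intro heq
      apply hLbot
      rw [eq_bot_iff]
      intro x hx
      obtain ⟨g, rfl⟩ := QuotientGroup.mk_surjective x
      have hg : g ∈ L.comap (QuotientGroup.mk' K) := hx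
      rw [← heq] at hg
      rw [Subgroup.mem_bot]
      exact (QuotientGroup.eq_one_iff g).2 hg
    have hcl := hmax _ hLn (lt_of_le_of_ne hle hne)
    rw [commutator_def, Subgroup.commutator_le]
    intro x _ y _
    obtain ⟨a, rfl⟩ := QuotientGroup.mk_surjective x
    obtain ⟨b, rfl⟩ := QuotientGroup.mk_surjective y
    have hab : ⁅a, b⁆ ∈ commutator G :=
      Subgroup.commutator_mem_commutator (Subgroup.mem_top a) (Subgroup.mem_top b)
    have h2 : ⁅a, b⁆ ∈ L.comap (QuotientGroup.mk' K) := hcl hab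
    rw [Subgroup.mem_comap, QuotientGroup.mk'_apply] at h2
    have h3 : ((⁅a, b⁆ : G) : G ⧸ K) = ⁅(a : G ⧸ K), (b : G ⧸ K)⁆ := by
      rw [commutatorElement_def, commutatorElement_def]; simp
    rw [← h3]
    exact h2

end Cfsg.Agent.Helper19.DG2
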