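import Cfsg.Prelude.Def_DegreeGraph
import Mathlib

/-!
Piece (GR) `components_le_two` of helper89's lemma server "DG2" (row S4811): the graph part.
-/

set_option autoImplicit false

namespace Cfsg.Agent.Helper19.DG2

open Cfsg

universe u

/-- two vertices whose product divides a degree are equal or adjacent, hence reachable -/
theorem reach_of_mul_dvd {G : Type u} [Group G] (a b : degreePrimes G) {d : ℕ}
    (hd : d ∈ charDegrees G) (h : (a : ℕ) * (b : ℕ) ∣ d) :
    ((degreeGraph G).induce (degreePrimes G)).Reachable a b := by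
  by_cases hab : (a : ℕ) = b
  · have : a = b := Subtype.ext hab
    rw [this]
  · apply SimpleGraph.Adj.reachable
    show (degreeGraph G).Adj a b
    exact ⟨hab, a.2.1, b.2.1, d, hd, h⟩

/-- two distinct-or-equal primes dividing a degree are reachable from each other -/
theorem reach_of_dvd_dvd {G : Type u} [Group G] (a b : degreePrimes G) {d : ℕ}
    (hd : d ∈ charDegrees G) (ha : (a : ℕ) ∣ d) (hb : (b : ℕ) ∣ d) :
    ((degreeGraph G).induce (degreePrimes G)).Reachable a b := by
  by_cases hab : (a : ℕ) = b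
  · have : a = b := Subtype.ext hab
    rw [this]
  · exact reach_of_mul_dvd a b hd
      (((Nat.coprime_primes a.2.1 b.2.1).2 hab).mul_dvd_of_dvd_of_dvd ha hb)

/-- (GR) the graph part. -/
theorem components_le_two {G : Type u} [Group G] (q f : ℕ) (hq : q.Prime) (hf : 1 < f)
    (hfG : f ∈ charDegrees G)
    (h : ∀ d ∈ charDegrees G, (∃ s : ℕ, s.Prime ∧ s ∣ d ∧ (s ∣ f ∨ s = q)) ∨ f * d ∈ charDegrees G) :
    Nat.card ((degreeGraph G).induce (degreePrimes G)).ConnectedComponent ≤ 2 := by
  classical
  obtain ⟨s₀, hs₀, hs₀f⟩ := Nat.exists_prime_and_dvd (ne_of_gt hf)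
  have hv₀ : s₀ ∈ degreePrimes G := ⟨hs₀, f, hfG, hs₀f⟩
  have key : ∀ v : degreePrimes G,
      ((degreeGraph G).induce (degreePrimes G)).Reachable v ⟨s₀, hv₀⟩ ∨
        ∃ hq' : q ∈ degreePrimes G,
          ((degreeGraph G).induce (degreePrimes G)).Reachable v ⟨q, hq'⟩ := by
    intro v
    obtain ⟨_, d, hd, hvd⟩ := v.2
    rcases h d hd with ⟨s, hs, hsd, hsf | hsq⟩ | hfd
    · have hsv : s ∈ degreePrimes G := ⟨hs, d, hd, hsd⟩
      left
      exact (reach_of_dvd_dvd v ⟨s, hsv⟩ hd hvd hsd).trans
        (reach_of_dvd_dvd ⟨s, hsv⟩ ⟨s₀, hv₀⟩ hfG hsf hs₀f)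
    · right
      have hqd : q ∣ d := hsq ▸ hsd
      have hqv : q ∈ degreePrimes G := ⟨hq, d, hd, hqd⟩
      exact ⟨hqv, reach_of_dvd_dvd v ⟨q, hqv⟩ hd hvd hqd⟩
    · left
      apply reach_of_mul_dvd v ⟨s₀, hv₀⟩ hfd
      rw [mul_comm]
      exact Nat.mul_dvd_mul hs₀f hvd
  by_cases hqv : q ∈ degreePrimes G
  · let F : Bool → ((degreeGraph G).induce (degreePrimes G)).ConnectedComponent := fun b =>
      if b then ((degreeGraph G).induce (degreePrimes G)).connectedComponentMk ⟨s₀, hv₀⟩
      else ((degreeGraph G).induce (degreePrimes G)).connectedComponentMk ⟨q, hqv⟩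
    have hsurj : Function.Surjective F := by
      intro c
      induction c using SimpleGraph.ConnectedComponent.ind with
      | h v =>
        rcases key v with h1 | ⟨_, h1⟩
        · exact ⟨true, (SimpleGraph.ConnectedComponent.eq.2 h1).symm⟩
        · exact ⟨false, (SimpleGraph.ConnectedComponent.eq.2 h1).symm⟩
    have := Nat.card_le_card_of_surjective F hsurj
    simpa using this
  · let F : Bool → ((degreeGraph G).induce (degreePrimes G)).ConnectedComponent := fun _ =>
      ((degreeGraph G).induce (degreePrimes G)).connectedComponentMk ⟨s₀, hv₀⟩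
    have hsurj : Function.Surjective F := by
      intro c
      induction c using SimpleGraph.ConnectedComponent.ind with
      | h v =>
        rcases key v with h1 | ⟨hq', _⟩
        · exact ⟨true, (SimpleGraph.ConnectedComponent.eq.2 h1).symm⟩
        · exact absurd hq' hqv
    have := Nat.card_le_card_of_surjective F hsurj
    simpa using this

end Cfsg.Agent.Helper19.DG2
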