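import Mathlib
import Cfsg.Agent.Lib.Helper52.FCDefs

/-!
FC lemma server (helper52, S3816), piece (A7a) `N_sgroup`, by helper19.
Route: `U = {n ^ m}` (the `s'`-part of the abelian `N`); a minimal normal `V ≤ U` is central and fixed by
`a`; transfer of `K = H ⊔ ⟨a⟩` into the abelian `N`: `v ↦ v ^ [K : N]` on central elements, trivial on
`⁅H, ⟨a⟩⁆ = H`, and `[K : N]` divides `|L| * p`.
-/

set_option autoImplicit false

namespace Cfsg.Agent.Helper19.FC

open Subgroup Cfsg.Agent.Helper52.FC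
open scoped commutatorElement

universe u

variable {G : Type u} [Group G]

open scoped IsMulCommutative in
/-- transfer into an abelian subgroup `A`: a central element lying in the commutator subgroup has
`w ^ [K : A] = 1` -/
theorem h19_pow_index_eq_one {K : Type*} [Group K] [Finite K] (A : Subgroup K)
    (hA : ∀ x ∈ A, ∀ y ∈ A, x * y = y * x) (w : K) (hwc : ∀ g : K, g * w = w * g)
    (hw : w ∈ commutator K) : w ^ A.index = 1 := by
  have : IsMulCommutative ↥A := ⟨⟨fun x y => Subtype.ext (hA x x.2 y y.2)⟩⟩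
  have hker : w ∈ (MonoidHom.transfer (MonoidHom.id ↥A)).ker :=
    Abelianization.commutator_subset_ker _ hw
  have key : ∀ (k : ℕ) (g₀ : K), g₀⁻¹ * w ^ k * g₀ ∈ A → g₀⁻¹ * w ^ k * g₀ = w ^ k := by
    intro k g₀ _
    have hc : Commute g₀ (w ^ k) := (show Commute g₀ w from hwc g₀).pow_right k
    rw [mul_assoc, ← hc.eq, inv_mul_cancel_left]
  have h1 := MonoidHom.transfer_eq_pow (MonoidHom.id ↥A) w key
  rw [MonoidHom.mem_ker] at hker
  rw [hker] at h1
  have h2 := congrArg Subtype.val h1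
  simpa using h2.symm

/-- `[A ⊔ B : A]` divides `|B|` when `B` normalises `A` -/
theorem h19_relIndex_sup_dvd (A B : Subgroup G) (hB : B ≤ normalizer (A : Set G)) :
    A.relIndex (A ⊔ B) ∣ Nat.card B := by
  have hA : A ≤ normalizer (A : Set G) := le_normalizer
  have hAB : A ⊔ B ≤ normalizer (A : Set G) := sup_le hA hB
  rw [← relIndex_subgroupOf hAB, subgroupOf_sup hA hB, relIndex_sup_left, relIndex_subgroupOf hB]
  exact relIndex_dvd_card A B

/-- (A7a) -/
theorem N_sgroup [Finite G] {p : ℕ} {a : G} {H : Subgroup G} (mx : MCX p G a H)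
    (hmin : ∀ V : Subgroup G, MinNormal a H V → V ≤ Fix a)
    (hA1 : ∀ V : Subgroup G, V ≤ H → NormBy H V → V ≤ Fix a → V ≤ ZZ a H)
    (hA0 : ∀ W : Subgroup G, W ≤ H → NormBy H W → Inv a W → W ≠ ⊥ → ∃ V : Subgroup G, V ≤ W ∧ MinNormal a H V)
    (N : Subgroup G) (hN : Chief a H N) (hNab : Ab N) (L : Subgroup G) (hLH : L ≤ H) (hLa : Inv a L) (hNL : N ⊔ L = H) (hNL' : N ⊓ L = ⊥)
    (s : ℕ) (hs : s.Prime) (hLs : IsPGroup s L) : IsPGroup s N := by
  classical
  have hyp := mx.mc.hyp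
  have hc0 : Nat.card N ≠ 0 := Nat.card_pos.ne'
  have hme : s ^ (Nat.card N).factorization s * (Nat.card N / s ^ (Nat.card N).factorization s) =
      Nat.card N := Nat.ordProj_mul_ordCompl_eq_self (Nat.card N) s
  have hes : Nat.Coprime s (Nat.card N / s ^ (Nat.card N).factorization s) :=
    Nat.coprime_ordCompl hs hc0
  obtain ⟨m, hm⟩ : ∃ m, m = s ^ (Nat.card N).factorization s := ⟨_, rfl⟩
  obtain ⟨e, he⟩ : ∃ e, e = Nat.card N / s ^ (Nat.card N).factorization s := ⟨_, rfl⟩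
  rw [← he] at hme hes
  rw [← hm] at hme
  by_contra hcon
  have hex : ∃ n ∈ N, n ^ m ≠ 1 := by
    by_contra hall
    push Not at hall
    apply hcon
    intro g
    refine ⟨(Nat.card N).factorization s, ?_⟩
    apply Subtype.ext
    rw [Subgroup.coe_pow, Subgroup.coe_one, ← hm]
    exact hall g.1 g.2
  obtain ⟨n₀, hn₀, hn₀m⟩ := hex
  -- the subgroup of `m`-th powers
  let U : Subgroup G :=
    { carrier := {u | ∃ n ∈ N, n ^ m = u}
      mul_mem' := by
        rintro _ _ ⟨n₁, h₁, rfl⟩ ⟨n₂, h₂, rfl⟩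
        exact ⟨n₁ * n₂, N.mul_mem h₁ h₂, (show Commute n₁ n₂ from hNab n₁ h₁ n₂ h₂).mul_pow m⟩
      one_mem' := ⟨1, N.one_mem, one_pow m⟩
      inv_mem' := by
        rintro _ ⟨n, h, rfl⟩
        exact ⟨n⁻¹, N.inv_mem h, inv_pow n m⟩ }
  have hUmem : ∀ u, u ∈ U ↔ ∃ n ∈ N, n ^ m = u := fun u => Iff.rfl
  have hUN : U ≤ N := by
    intro u hu
    obtain ⟨n, hn, rfl⟩ := (hUmem u).1 hu
    exact N.pow_mem hn m
  have hUH : U ≤ H := hUN.trans hN.le
  have hUnorm : NormBy H U := by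
    intro h hh u hu
    obtain ⟨n, hn, rfl⟩ := (hUmem u).1 hu
    exact (hUmem _).2 ⟨h * n * h⁻¹, hN.norm h hh n hn, conj_pow⟩
  have hUinv : Inv a U := by
    intro u hu
    obtain ⟨n, hn, rfl⟩ := (hUmem u).1 hu
    exact (hUmem _).2 ⟨a * n * a⁻¹, hN.inv n hn, conj_pow⟩
  have hUne : U ≠ ⊥ := by
    intro h
    have h1 : n₀ ^ m ∈ U := (hUmem _).2 ⟨n₀, hn₀, rfl⟩
    rw [h, Subgroup.mem_bot] at h1
    exact hn₀m h1
  have hUe : ∀ u ∈ U, u ^ e = 1 := by
    intro u hu
    obtain ⟨n, hn, rfl⟩ := (hUmem u).1 hu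
    rw [← pow_mul, hme]
    have h1 : (⟨n, hn⟩ : ↥N) ^ Nat.card ↥N = 1 := pow_card_eq_one'
    have h2 := congrArg Subtype.val h1
    rw [Subgroup.coe_pow, Subgroup.coe_one] at h2
    exact h2
  obtain ⟨V, hVU, hV⟩ := hA0 U hUH hUnorm hUinv hUne
  have hVfix : V ≤ Fix a := hmin V hV
  have hVZ : V ≤ ZZ a H := hA1 V hV.le hV.norm hVfix
  obtain ⟨v, hvV, hv1⟩ : ∃ v ∈ V, v ≠ 1 := by
    by_contra hh
    push Not at hh
    exact hV.ne ((Subgroup.eq_bot_iff_forall _).2 hh)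
  have hvU : v ∈ U := hVU hvV
  have hvH : v ∈ H := hUH hvU
  have hve : v ^ e = 1 := hUe v hvU
  have hvZ := hVZ hvV
  have hva : a * v = v * a :=
    (Subgroup.mem_centralizer_iff.1 hvZ.1.2) a (Set.mem_singleton a)
  have hvc : ∀ h ∈ H, h * v = v * h := fun h hh => Subgroup.mem_centralizer_iff.1 hvZ.2 h hh
  -- the group `K = H ⊔ ⟨a⟩`
  obtain ⟨K, hK⟩ : ∃ K : Subgroup G, K = H ⊔ zpowers a := ⟨_, rfl⟩
  have hHK : H ≤ K := hK ▸ le_sup_left
  have hPK : zpowers a ≤ K := hK ▸ le_sup_right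
  have hcen : K ≤ centralizer {v} := by
    rw [hK]
    refine sup_le (fun h hh => Subgroup.mem_centralizer_iff.2 fun x hx => ?_) ?_
    · rw [Set.mem_singleton_iff.1 hx]
      exact (hvc h hh).symm
    · rw [zpowers_le]
      refine Subgroup.mem_centralizer_iff.2 fun x hx => ?_
      rw [Set.mem_singleton_iff.1 hx]
      exact hva.symm
  have hcentral : ∀ g : ↥K, g * (⟨v, hHK hvH⟩ : ↥K) = ⟨v, hHK hvH⟩ * g := by
    intro g
    have h1 := Subgroup.mem_centralizer_iff.1 (hcen g.2) v (Set.mem_singleton v)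
    exact Subtype.ext h1.symm
  have hvcomm : v ∈ ⁅H, zpowers a⁆ := by
    rw [← mx.comm_eq_commutator H, mx.comm_eq]
    exact hvH
  have hle : ⁅H, zpowers a⁆ ≤ (commutator ↥K).map K.subtype := by
    rw [Subgroup.commutator_le]
    intro h hh z hz
    refine ⟨⁅(⟨h, hHK hh⟩ : ↥K), ⟨z, hPK hz⟩⁆, ?_, ?_⟩
    · rw [_root_.commutator_def]
      exact Subgroup.commutator_mem_commutator (Subgroup.mem_top _) (Subgroup.mem_top _)
    · simp [commutatorElement_def]
  obtain ⟨w, hw, hwv⟩ := hle hvcomm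
  have hwv' : w = (⟨v, hHK hvH⟩ : ↥K) := Subtype.ext hwv
  rw [hwv'] at hw
  have hAab : ∀ x ∈ N.subgroupOf K, ∀ y ∈ N.subgroupOf K, x * y = y * x := by
    intro x hx y hy
    exact Subtype.ext (hNab x.1 (Subgroup.mem_subgroupOf.1 hx) y.1 (Subgroup.mem_subgroupOf.1 hy))
  have h1 := h19_pow_index_eq_one (N.subgroupOf K) hAab ⟨v, hHK hvH⟩ hcentral hw
  have h2 : v ^ N.relIndex K = 1 := by
    have := congrArg Subtype.val h1
    simpa [Subgroup.relIndex] using this
  -- the index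
  have hidx : N.relIndex K = N.relIndex H * H.relIndex K :=
    (relIndex_mul_relIndex N H K hN.le hHK).symm
  have hLnorm : L ≤ normalizer (N : Set G) := fun l hl =>
    Subgroup.mem_normalizer_fintype fun n hn => hN.norm l (hLH hl) n hn
  have hd1 : N.relIndex H ∣ Nat.card L := by
    rw [← hNL]
    exact h19_relIndex_sup_dvd N L hLnorm
  have hanorm : zpowers a ≤ normalizer (H : Set G) := by
    rw [zpowers_le]
    exact Subgroup.mem_normalizer_fintype fun h hh => hyp.inv h hh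
  have hd2 : H.relIndex K ∣ p := by
    rw [hK]
    refine (h19_relIndex_sup_dvd H (zpowers a) hanorm).trans ?_
    rw [Nat.card_zpowers]
    exact orderOf_dvd_of_pow_eq_one hyp.pow
  have : Fact s.Prime := ⟨hs⟩
  obtain ⟨k, hk⟩ := hLs.exists_card_eq
  have hdvd : orderOf v ∣ s ^ k * p := by
    have h3 : orderOf v ∣ N.relIndex K := orderOf_dvd_of_pow_eq_one h2
    rw [hidx] at h3
    exact h3.trans (Nat.mul_dvd_mul (hk ▸ hd1) hd2)
  have hde : orderOf v ∣ e := orderOf_dvd_of_pow_eq_one hve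
  have hdH : orderOf v ∣ Nat.card H := Subgroup.orderOf_dvd_natCard H hvH
  have hcop : Nat.Coprime (orderOf v) (s ^ k * p) :=
    Nat.Coprime.mul_right (Nat.Coprime.pow_right k (Nat.Coprime.coprime_dvd_left hde hes.symm))
      (Nat.Coprime.coprime_dvd_left hdH hyp.cop)
  have h1' : orderOf v = 1 := Nat.Coprime.eq_one_of_dvd hcop hdvd
  exact hv1 (orderOf_eq_one_iff.1 h1')

end Cfsg.Agent.Helper19.FC
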