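import Mathlib
import Cfsg.Prelude.Def_Classical

/-!
# The isometry group of the hyperbolic plane `x y` is dihedral
-/

set_option autoImplicit false

namespace Cfsg.Agent.Helper19

open Matrix

variable {F : Type*} [Field F]

abbrev I2 := Fin 1 ⊕ Fin 1

/-- `diag(l, l⁻¹)`. -/
def Dm (l : Fˣ) : Matrix I2 I2 F :=
  Matrix.of fun i j => match i, j with
    | .inl _, .inl _ => (l : F)
    | .inr _, .inr _ => ((l⁻¹ : Fˣ) : F)
    | _, _ => 0

/-- antidiagonal `[[0, l⁻¹], [l, 0]]`. -/
def Sm (l : Fˣ) : Matrix I2 I2 F :=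
  Matrix.of fun i j => match i, j with
    | .inl _, .inr _ => ((l⁻¹ : Fˣ) : F)
    | .inr _, .inl _ => (l : F)
    | _, _ => 0

theorem Dm_mul_Dm (l m : Fˣ) : Dm l * Dm m = Dm (l * m) := by
  ext i j
  rcases i with i | i <;> rcases j with j | j <;>
    simp [Dm, Matrix.mul_apply, Fintype.sum_sum_type, mul_comm]

theorem Dm_mul_Sm (l m : Fˣ) : Dm l * Sm m = Sm (m * l⁻¹) := by
  ext i j
  rcases i with i | i <;> rcases j with j | j <;>
    simp [Dm, Sm, Matrix.mul_apply, Fintype.sum_sum_type, mul_comm]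

theorem Sm_mul_Dm (l m : Fˣ) : Sm l * Dm m = Sm (l * m) := by
  ext i j
  rcases i with i | i <;> rcases j with j | j <;>
    simp [Dm, Sm, Matrix.mul_apply, Fintype.sum_sum_type, mul_comm]

theorem Sm_mul_Sm (l m : Fˣ) : Sm l * Sm m = Dm (l⁻¹ * m) := by
  ext i j
  rcases i with i | i <;> rcases j with j | j <;>
    simp [Dm, Sm, Matrix.mul_apply, Fintype.sum_sum_type, mul_comm]

theorem Dm_one : Dm (1 : Fˣ) = (1 : Matrix I2 I2 F) := by
  ext i j
  rcases i with i | i <;> rcases j with j | j <;>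
    simp [Dm, Matrix.one_apply, Subsingleton.elim i j]

/-- `diag(l, l⁻¹)` in `GL`. -/
def Dg (l : Fˣ) : Matrix.GeneralLinearGroup I2 F :=
  ⟨Dm l, Dm l⁻¹, by rw [Dm_mul_Dm, mul_inv_cancel, Dm_one],
    by rw [Dm_mul_Dm, inv_mul_cancel, Dm_one]⟩

/-- the antidiagonal matrix in `GL`. -/
def Sg (l : Fˣ) : Matrix.GeneralLinearGroup I2 F :=
  ⟨Sm l, Sm l, by rw [Sm_mul_Sm, inv_mul_cancel, Dm_one],
    by rw [Sm_mul_Sm, inv_mul_cancel, Dm_one]⟩

theorem Dg_mul_Dg (l m : Fˣ) : Dg l * Dg m = Dg (l * m) := Units.ext (Dm_mul_Dm l m)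
theorem Dg_mul_Sg (l m : Fˣ) : Dg l * Sg m = Sg (m * l⁻¹) := Units.ext (Dm_mul_Sm l m)
theorem Sg_mul_Dg (l m : Fˣ) : Sg l * Dg m = Sg (l * m) := Units.ext (Sm_mul_Dm l m)
theorem Sg_mul_Sg (l m : Fˣ) : Sg l * Sg m = Dg (l⁻¹ * m) := Units.ext (Sm_mul_Sm l m)
theorem Dg_one : Dg (1 : Fˣ) = 1 := Units.ext Dm_one

theorem Dg_injective : Function.Injective (Dg : Fˣ → Matrix.GeneralLinearGroup I2 F) := by
  intro l m h
  have h1 : (Dg l : Matrix I2 I2 F) (.inl 0) (.inl 0) = (Dg m : Matrix I2 I2 F) (.inl 0) (.inl 0) := by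
    rw [h]
  simp only [Dg, Dm, Matrix.of_apply] at h1
  exact Units.ext h1

theorem Sg_injective : Function.Injective (Sg : Fˣ → Matrix.GeneralLinearGroup I2 F) := by
  intro l m h
  have h1 : (Sg l : Matrix I2 I2 F) (.inr 0) (.inl 0) = (Sg m : Matrix I2 I2 F) (.inr 0) (.inl 0) := by
    rw [h]
  simp only [Sg, Sm, Matrix.of_apply] at h1
  exact Units.ext h1

theorem Dg_ne_Sg (l m : Fˣ) : Dg l ≠ Sg m := by
  intro h
  have h1 : (Dg l : Matrix I2 I2 F) (.inl 0) (.inl 0) = (Sg m : Matrix I2 I2 F) (.inl 0) (.inl 0) := by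
    rw [h]
  simp only [Dg, Sg, Dm, Sm, Matrix.of_apply] at h1
  exact l.ne_zero h1

section Hom

variable {n : ℕ} (ε : Multiplicative (ZMod n) ≃* Fˣ)

/-- The map from the dihedral group. -/
def dihToGL : DihedralGroup n → Matrix.GeneralLinearGroup I2 F
  | .r i => Dg (ε (Multiplicative.ofAdd i))
  | .sr i => Sg (ε (Multiplicative.ofAdd i))

theorem dihToGL_mul (x y : DihedralGroup n) :
    dihToGL ε (x * y) = dihToGL ε x * dihToGL ε y := by
  rcases x with i | i <;> rcases y with j | j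
  · rw [DihedralGroup.r_mul_r]
    simp only [dihToGL]
    rw [Dg_mul_Dg, ofAdd_add, map_mul]
  · rw [DihedralGroup.r_mul_sr]
    simp only [dihToGL]
    rw [Dg_mul_Sg, ofAdd_sub, map_div, div_eq_mul_inv]
  · rw [DihedralGroup.sr_mul_r]
    simp only [dihToGL]
    rw [Sg_mul_Dg, ofAdd_add, map_mul]
  · rw [DihedralGroup.sr_mul_sr]
    simp only [dihToGL]
    rw [Sg_mul_Sg, ofAdd_sub, map_div, div_eq_mul_inv, mul_comm]

theorem dihToGL_one : dihToGL ε (1 : DihedralGroup n) = 1 := by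
  rw [DihedralGroup.one_def]
  simp only [dihToGL]
  rw [ofAdd_zero, map_one, Dg_one]

/-- As a monoid hom. -/
def dihHom : DihedralGroup n →* Matrix.GeneralLinearGroup I2 F where
  toFun := dihToGL ε
  map_one' := dihToGL_one ε
  map_mul' := dihToGL_mul ε

theorem dihHom_injective : Function.Injective (dihHom ε) := by
  intro x y h
  change dihToGL ε x = dihToGL ε y at h
  rcases x with i | i <;> rcases y with j | j <;> simp only [dihToGL] at h
  · have := ε.injective (Dg_injective h)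
    rw [Multiplicative.ofAdd.injective this]
  · exact absurd h (Dg_ne_Sg _ _)
  · exact absurd h.symm (Dg_ne_Sg _ _)
  · have := ε.injective (Sg_injective h)
    rw [Multiplicative.ofAdd.injective this]

end Hom

/-- `Dg l` and `Sg l` are isometries of `x y`. -/
theorem Dg_mem (l : Fˣ) : Dg l ∈ Cfsg.isometryGroup F (Cfsg.quadFormPlus 1 F) := by
  intro u v
  simp only [Cfsg.quadFormPlus, Units.coeHom_apply, Dg, Dm, Matrix.mulVec, dotProduct,
    Fintype.sum_sum_type, Matrix.of_apply, Finset.univ_unique, Finset.sum_singleton]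
  have : (l : F) * ((l⁻¹ : Fˣ) : F) = 1 := by rw [← Units.val_mul, mul_inv_cancel, Units.val_one]
  linear_combination (u (Sum.inl default) * u (Sum.inr default)) * this

theorem Sg_mem (l : Fˣ) : Sg l ∈ Cfsg.isometryGroup F (Cfsg.quadFormPlus 1 F) := by
  intro u v
  simp only [Cfsg.quadFormPlus, Units.coeHom_apply, Sg, Sm, Matrix.mulVec, dotProduct,
    Fintype.sum_sum_type, Matrix.of_apply, Finset.univ_unique, Finset.sum_singleton]
  have : (l : F) * ((l⁻¹ : Fˣ) : F) = 1 := by rw [← Units.val_mul, mul_inv_cancel, Units.val_one]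
  linear_combination (u (Sum.inl default) * u (Sum.inr default)) * this

theorem mem_isometry_cases (g : Matrix.GeneralLinearGroup I2 F)
    (hg : g ∈ Cfsg.isometryGroup F (Cfsg.quadFormPlus 1 F)) :
    (∃ l : Fˣ, g = Dg l) ∨ (∃ l : Fˣ, g = Sg l) := by
  have key : ∀ x y : F,
      ((g : Matrix I2 I2 F) (.inl 0) (.inl 0) * x + (g : Matrix I2 I2 F) (.inl 0) (.inr 0) * y) *
      ((g : Matrix I2 I2 F) (.inr 0) (.inl 0) * x + (g : Matrix I2 I2 F) (.inr 0) (.inr 0) * y)
        = x * y := by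
    intro x y
    have := hg (fun i => Sum.elim (fun _ => x) (fun _ => y) i) 0
    simp only [Cfsg.quadFormPlus, Units.coeHom_apply, Matrix.mulVec, dotProduct,
      Fintype.sum_sum_type, Finset.univ_unique, Finset.sum_singleton, Sum.elim_inl,
      Sum.elim_inr] at this
    exact this
  generalize ha : (g : Matrix I2 I2 F) (.inl 0) (.inl 0) = a at key
  generalize hb : (g : Matrix I2 I2 F) (.inl 0) (.inr 0) = b at key
  generalize hc : (g : Matrix I2 I2 F) (.inr 0) (.inl 0) = c at key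
  generalize hd : (g : Matrix I2 I2 F) (.inr 0) (.inr 0) = d at key
  have h1 : a * c = 0 := by have := key 1 0; simpa using this
  have h2 : b * d = 0 := by have := key 0 1; simpa using this
  have h3 : a * d + b * c = 1 := by
    have := key 1 1
    linear_combination this - h1 - h2
  have hext : ∀ M : Matrix I2 I2 F, M (.inl 0) (.inl 0) = a → M (.inl 0) (.inr 0) = b →
      M (.inr 0) (.inl 0) = c → M (.inr 0) (.inr 0) = d → (g : Matrix I2 I2 F) = M := by
    intro M e1 e2 e3 e4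
    ext i j
    rcases i with i | i <;> rcases j with j | j <;>
      rw [Subsingleton.elim i 0, Subsingleton.elim j 0]
    · rw [ha, e1]
    · rw [hb, e2]
    · rw [hc, e3]
    · rw [hd, e4]
  by_cases ha0 : a = 0
  · right
    have hbc : b * c = 1 := by rw [ha0] at h3; simpa using h3
    have hc0 : c ≠ 0 := fun h => by rw [h] at hbc; simp at hbc
    have hb0 : b ≠ 0 := fun h => by rw [h] at hbc; simp at hbc
    have hd0 : d = 0 := by
      rcases mul_eq_zero.1 h2 with h | h
      · exact absurd h hb0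
      · exact h
    refine ⟨Units.mk0 c hc0, Units.ext (hext _ ?_ ?_ ?_ ?_)⟩
    · simp [Sg, Sm, ha0]
    · simp only [Sg, Sm, Matrix.of_apply]
      rw [Units.val_inv_eq_inv_val, Units.val_mk0]
      exact (eq_inv_of_mul_eq_one_left hbc).symm
    · simp [Sg, Sm]
    · simp [Sg, Sm, hd0]
  · left
    have hc0 : c = 0 := by
      rcases mul_eq_zero.1 h1 with h | h
      · exact absurd h ha0
      · exact h
    have had : a * d = 1 := by rw [hc0] at h3; simpa using h3
    have hd0 : d ≠ 0 := fun h => by rw [h] at had; simp at had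
    have hb0 : b = 0 := by
      rcases mul_eq_zero.1 h2 with h | h
      · exact h
      · exact absurd h hd0
    refine ⟨Units.mk0 a ha0, Units.ext (hext _ ?_ ?_ ?_ ?_)⟩
    · simp [Dg, Dm]
    · simp [Dg, Dm, hb0]
    · simp [Dg, Dm, hc0]
    · simp only [Dg, Dm, Matrix.of_apply]
      rw [Units.val_inv_eq_inv_val, Units.val_mk0]
      exact (eq_inv_of_mul_eq_one_right had).symm

end Cfsg.Agent.Helper19
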