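import Mathlib
import Cfsg.Agent.Lib.Helper31.H2Defs
import Cfsg.Agent.Lib.Helper52.Coprime

/-!
Piece (E2) `Rj_comm` of helper31's lemma server "H2" (row S3786).
-/

set_option autoImplicit false

namespace Cfsg.Agent.Helper19.H2

open Cfsg Cfsg.Agent.Helper31.H2 Cfsg.Agent.Helper31.HHB Cfsg.Agent.Helper48.Wreath
open scoped commutatorElement

universe u

/-- if `β` commutes with `x`, centralises `R₁ ∋ cmt x y, cmt x y⁻¹`, then `⁅y, β⁆` commutes with `x` -/
theorem comm_commutator_of_cmt {H : Type*} [Group H] (R₁ : Subgroup H) (x y β : H)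
    (hβx : β * x = x * β) (hβR₁ : ∀ g ∈ R₁, β * g = g * β)
    (h2 : cmt x y⁻¹ ∈ R₁) :
    x * ⁅y, β⁆ = ⁅y, β⁆ * x := by
  -- `β (cmt x y⁻¹) β⁻¹ = cmt x (β y⁻¹ β⁻¹)`
  have e1 : β * cmt x y⁻¹ = cmt x y⁻¹ * β := hβR₁ _ h2
  unfold cmt at e1
  rw [commutatorElement_def]
  -- from `e1`: `β x y⁻¹ x⁻¹ y = x y⁻¹ x⁻¹ y β`
  have e2 : x * (β * y⁻¹ * β⁻¹) * x⁻¹ * (β * y * β⁻¹) = x * y⁻¹ * x⁻¹ * y := by
    have : β * (x * y⁻¹ * x⁻¹ * y⁻¹⁻¹) * β⁻¹ = x * y⁻¹ * x⁻¹ * y⁻¹⁻¹ := by
      rw [e1]; group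
    rw [inv_inv] at this
    rw [← this]
    have hx' : β * x * β⁻¹ = x := by rw [hβx]; group
    have hx'' : β * x⁻¹ * β⁻¹ = x⁻¹ := by
      have hc : β * x⁻¹ = x⁻¹ * β := (show Commute β x from hβx).inv_right.eq
      rw [hc]; group
    calc x * (β * y⁻¹ * β⁻¹) * x⁻¹ * (β * y * β⁻¹)
        = (β * x * β⁻¹) * (β * y⁻¹ * β⁻¹) * (β * x⁻¹ * β⁻¹) * (β * y * β⁻¹) := by
          rw [hx', hx'']
      _ = β * (x * y⁻¹ * x⁻¹ * y) * β⁻¹ := by group
  -- hence `y (β y⁻¹ β⁻¹)` commutes with `x`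
  have e3 : (β * y⁻¹ * β⁻¹) * x⁻¹ * (β * y * β⁻¹) = y⁻¹ * x⁻¹ * y := by
    calc (β * y⁻¹ * β⁻¹) * x⁻¹ * (β * y * β⁻¹)
        = x⁻¹ * (x * (β * y⁻¹ * β⁻¹) * x⁻¹ * (β * y * β⁻¹)) := by group
      _ = x⁻¹ * (x * y⁻¹ * x⁻¹ * y) := by rw [e2]
      _ = y⁻¹ * x⁻¹ * y := by group
  have e4 : (y * β * y⁻¹ * β⁻¹) * x⁻¹ = x⁻¹ * (y * β * y⁻¹ * β⁻¹) := by
    calc (y * β * y⁻¹ * β⁻¹) * x⁻¹
        = y * ((β * y⁻¹ * β⁻¹) * x⁻¹ * (β * y * β⁻¹)) * (β * y⁻¹ * β⁻¹) := by group
      _ = y * (y⁻¹ * x⁻¹ * y) * (β * y⁻¹ * β⁻¹) := by rw [e3]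
      _ = x⁻¹ * (y * β * y⁻¹ * β⁻¹) := by group
  -- commute with `x⁻¹` ⇒ commute with `x`
  calc x * (y * β * y⁻¹ * β⁻¹)
      = x * ((y * β * y⁻¹ * β⁻¹) * x⁻¹) * x := by group
    _ = x * (x⁻¹ * (y * β * y⁻¹ * β⁻¹)) * x := by rw [e4]
    _ = (y * β * y⁻¹ * β⁻¹) * x := by group

/-- an element commuting with `c ^ d`, `p ∤ d`, commutes with `c` when `c ^ p = 1` -/
theorem comm_of_comm_zpow {H : Type*} [Group H] {p : ℕ} (hp : p.Prime) (c y : H) (hc : c ^ p = 1)
    (d : ℤ) (hd : ¬ (p : ℤ) ∣ d) (h : y * c ^ d = c ^ d * y) : y * c = c * y := by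
  have hcop : IsCoprime d (p : ℤ) := by
    rw [Int.isCoprime_iff_gcd_eq_one]
    have h1 : Nat.Coprime d.natAbs p := by
      rw [Nat.coprime_comm, hp.coprime_iff_not_dvd]
      intro hdv
      exact hd (Int.natCast_dvd.2 hdv)
    simpa [Int.gcd] using h1
  obtain ⟨u, v, huv⟩ := hcop
  have hc1 : c = (c ^ d) ^ u := by
    have : c ^ (u * d + v * p) = c := by rw [huv, zpow_one]
    rw [zpow_add, mul_comm u d, zpow_mul, mul_comm v (p : ℤ), zpow_mul, zpow_natCast, hc, one_zpow,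
      mul_one] at this
    exact this.symm
  have hcomm : Commute y (c ^ d) := h
  have := hcomm.zpow_right u
  rw [← hc1] at this
  exact this

/-- (E2) -/
theorem Rj_comm {H : Type*} [Group H] [Finite H] {p : ℕ} [Fact p.Prime] (B R R₁ : Subgroup H) (a c : H)
    (h : DecHyp p B R R₁ a c) (hE1 : ∀ g ∈ R, c * g = g * c → g ∈ R₁) :
    ∀ i j : ZMod p, i ≠ j → ∀ x ∈ Rj R a c i, ∀ y ∈ Rj R a c j, x * y = y * x := by
  intro i j hij x hx y hy
  have hp : p.Prime := Fact.out
  have : NeZero p := ⟨hp.ne_zero⟩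
  set α : H := a * c ^ i.val with hα
  have hxR : x ∈ R := hx.1
  have hxα : α * x = x * α := by
    have := Subgroup.mem_centralizer_iff.1 hx.2 α (Set.mem_singleton α)
    exact this
  have hαB : α ∈ B := B.mul_mem h.a_mem (B.pow_mem h.c_mem _)
  have hαR₁ : ∀ g ∈ R₁, α * g = g * α := by
    intro g hg
    have h1 : Commute a g := h.aR₁ g hg
    have h2 : Commute c g := h.cR₁ g hg
    exact (h1.mul_left (h2.pow_left _))
  -- the cyclic group generated by `α`
  set A : Subgroup H := Subgroup.zpowers α with hA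
  have hAB : A ≤ B := by rw [hA, Subgroup.zpowers_le]; exact hαB
  have hαp : α ^ p = 1 := by
    have hac : Commute a (c ^ i.val) := (show Commute a c from h.ac).pow_right _
    rw [hα, hac.mul_pow, h.ap, ← pow_mul, mul_comm, pow_mul, h.cp, one_pow, one_mul]
  -- every element of `A` commutes with `x`, centralises `R₁`
  have hAx : ∀ β ∈ A, β * x = x * β := by
    intro β hβ
    obtain ⟨k, rfl⟩ := Subgroup.mem_zpowers_iff.1 hβ
    exact ((show Commute α x from hxα).zpow_left k)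
  have hAR₁ : ∀ β ∈ A, ∀ g ∈ R₁, β * g = g * β := by
    intro β hβ g hg
    obtain ⟨k, rfl⟩ := Subgroup.mem_zpowers_iff.1 hβ
    exact ((show Commute α g from hαR₁ g hg).zpow_left k)
  -- `A` normalises `Rj R a c j`
  set Rjj : Subgroup H := Rj R a c j with hRjj
  have hAnorm : A ≤ Subgroup.normalizer (Rjj : Set H) := by
    intro β hβ
    have hβB : β ∈ B := hAB hβ
    have hβcomm : Commute β (a * c ^ j.val) := by
      obtain ⟨k, rfl⟩ := Subgroup.mem_zpowers_iff.1 hβ
      apply Commute.zpow_left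
      rw [hα]
      have hac : Commute a c := h.ac
      exact ((Commute.refl a).mul_right (hac.pow_right _)).mul_left
        (((hac.symm).pow_left _).mul_right ((Commute.refl c).pow_pow _ _))
    have key : ∀ γ : H, γ ∈ B → Commute γ (a * c ^ j.val) → ∀ g ∈ Rjj, γ * g * γ⁻¹ ∈ Rjj := by
      intro γ hγB hγc g hg
      have hg' := Subgroup.mem_inf.1 hg
      refine Subgroup.mem_inf.2 ⟨h.cfg.invR γ hγB g hg'.1, ?_⟩
      rw [Subgroup.mem_centralizer_iff]
      intro z hz
      rw [Set.mem_singleton_iff] at hz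
      subst hz
      have hgz : Commute (a * c ^ j.val) g := Subgroup.mem_centralizer_iff.1 hg'.2 _ (Set.mem_singleton _)
      have : Commute (a * c ^ j.val) (γ * g * γ⁻¹) :=
        ((hγc.symm).mul_right hgz).mul_right (hγc.symm.inv_right)
      exact this
    rw [Subgroup.mem_normalizer_iff]
    intro g
    constructor
    · intro hg; exact key β hβB hβcomm g hg
    · intro hg
      have := key β⁻¹ (B.inv_mem hβB) hβcomm.inv_left _ hg
      simpa [mul_assoc] using this
  -- coprimality and solvability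
  have hcop : (Nat.card A).Coprime (Nat.card Rjj) := by
    have h1 : Nat.card A ∣ p := by
      rw [hA, Nat.card_zpowers]; exact orderOf_dvd_of_pow_eq_one hαp
    have h2 : Nat.card Rjj ∣ Nat.card R := Subgroup.card_dvd_of_le inf_le_left
    exact Nat.Coprime.coprime_dvd_left h1 (Nat.Coprime.coprime_dvd_right h2 h.hR.symm)
  have hsolv : Group.IsSolvable A ∨ Group.IsSolvable Rjj := by
    left
    rw [hA]
    infer_instance
  have hdec := Cfsg.Agent.Helper52.eq_commutator_sup_centralizer Rjj A hAnorm hcop hsolv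
  -- `x` centralises both parts
  have hcent : Rjj ≤ Subgroup.centralizer {x} := by
    rw [hdec]
    apply sup_le
    · rw [Subgroup.commutator_le]
      intro g hg β hβ
      rw [Subgroup.mem_centralizer_iff]
      intro z hz
      rw [Set.mem_singleton_iff] at hz
      subst hz
      apply comm_commutator_of_cmt R₁ z g β (hAx β hβ) (hAR₁ β hβ)
      exact h.cfg.comm z hxR g⁻¹ (R.inv_mem hg.1)
    · intro g hg
      rw [Subgroup.mem_centralizer_iff]
      intro z hz
      rw [Set.mem_singleton_iff] at hz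
      subst hz
      -- `g` commutes with `a c^i` and `a c^j`, hence with `c`
      have hgR : g ∈ R := hg.1.1
      have hg1 : Commute (a * c ^ j.val) g :=
        Subgroup.mem_centralizer_iff.1 hg.1.2 _ (Set.mem_singleton _)
      have hg2 : Commute α g := by
        have := Subgroup.mem_centralizer_iff.1 hg.2 α (Subgroup.mem_zpowers α)
        exact this
      have hgc : g * c = c * g := by
        apply comm_of_comm_zpow hp c g h.cp ((j.val : ℤ) - (i.val : ℤ))
        · intro hdvd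
          apply hij
          have h3 : ((i.val : ℤ) : ZMod p) = ((j.val : ℤ) : ZMod p) := by
            rw [eq_comm, ← sub_eq_zero, ← Int.cast_sub, ZMod.intCast_zmod_eq_zero_iff_dvd]
            exact hdvd
          simpa using h3
        · have hcc : α⁻¹ * (a * c ^ j.val) = c ^ ((j.val : ℤ) - (i.val : ℤ)) := by
            rw [hα, zpow_sub, zpow_natCast, zpow_natCast]
            have hac : Commute a (c ^ i.val) := (show Commute a c from h.ac).pow_right _
            have hcc' : Commute (c ^ j.val) (c ^ i.val)⁻¹ :=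
              ((Commute.refl c).pow_pow _ _).inv_right
            rw [_root_.mul_inv_rev, mul_assoc, inv_mul_cancel_left, hcc'.eq]
          rw [← hcc]
          exact ((hg2.symm.inv_right).mul_right hg1.symm).eq
      have hgR₁ : g ∈ R₁ := hE1 g hgR hgc.symm
      exact (h.cfg.central g hgR₁ z hxR).symm
  have := Subgroup.mem_centralizer_iff.1 (hcent hy) x (Set.mem_singleton x)
  exact this

end Cfsg.Agent.Helper19.H2
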