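import Mathlib
import Cfsg.Agent.Lib.Helper31.H2Defs
import Cfsg.Agent.Lib.Helper52.Coprime

/-!
Piece (I2b) `exists_R1` of helper31's lemma server "H2" (row S3786).
-/

set_option autoImplicit false

namespace Cfsg.Agent.Helper19.H2

open Cfsg Cfsg.Agent.Helper31.H2 Cfsg.Agent.Helper31.HHB Cfsg.Agent.Helper48.Wreath
open scoped commutatorElement

universe u

/-- conjugation-invariance of a commutator subgroup -/
theorem commutator_conj_inv {H : Type*} [Group H] (B X Y : Subgroup H)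
    (hX : ∀ b ∈ B, ∀ g ∈ X, b * g * b⁻¹ ∈ X) (hY : ∀ b ∈ B, ∀ g ∈ Y, b * g * b⁻¹ ∈ Y) :
    ∀ b ∈ B, ∀ g ∈ ⁅X, Y⁆, b * g * b⁻¹ ∈ ⁅X, Y⁆ := by
  intro b hb
  have hle : ⁅X, Y⁆ ≤ (⁅X, Y⁆).comap (MulAut.conj b).toMonoidHom := by
    rw [Subgroup.commutator_le]
    intro x hx y hy
    rw [Subgroup.mem_comap]
    show MulAut.conj b ⁅x, y⁆ ∈ _
    rw [map_commutatorElement]
    exact Subgroup.commutator_mem_commutator (by simpa using hX b hb x hx)
      (by simpa using hY b hb y hy)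
  intro g hg
  have := hle hg
  simpa using this

/-- (I2b) -/
theorem exists_R1 {H : Type*} [Group H] [Finite H] {p q : ℕ} [Fact p.Prime] (hq : q.Prime) (hqp : q ≠ p)
    (B R : Subgroup H) (hB : IsPGroup p B) (hR : IsPGroup q R)
    (hBR : ∀ b ∈ B, ∀ g ∈ R, b * g * b⁻¹ ∈ R) (w : H) (hw : w ∈ B) (hwR : ∃ g ∈ R, w * g ≠ g * w)
    (hmin : ∀ M : Subgroup H, M ≤ R → M ≠ R → (∀ b ∈ B, ∀ g ∈ M, b * g * b⁻¹ ∈ M) →
      ∀ g ∈ M, w * g = g * w) :
    ∃ R₁ : Subgroup H, MinCfg B R R₁ := by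
  classical
  have hp : p.Prime := Fact.out
  have : Fact q.Prime := ⟨hq⟩
  -- the normal closure of `w` in `B`
  let W : Subgroup H := Subgroup.closure {x | ∃ b ∈ B, x = b * w * b⁻¹}
  have hwW : w ∈ W := Subgroup.subset_closure ⟨1, B.one_mem, by simp⟩
  have hWB : W ≤ B := by
    show Subgroup.closure _ ≤ B
    rw [Subgroup.closure_le]
    rintro x ⟨b, hb, rfl⟩
    exact B.mul_mem (B.mul_mem hb hw) (B.inv_mem hb)
  have hWinv : ∀ b ∈ B, ∀ x ∈ W, b * x * b⁻¹ ∈ W := by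
    intro b hb
    have hle : W ≤ W.comap (MulAut.conj b).toMonoidHom := by
      show Subgroup.closure _ ≤ _
      rw [Subgroup.closure_le]
      rintro x ⟨b', hb', rfl⟩
      rw [SetLike.mem_coe, Subgroup.mem_comap]
      apply Subgroup.subset_closure
      exact ⟨b * b', B.mul_mem hb hb', by simp [mul_assoc]⟩
    intro x hx
    have := hle hx
    simpa using this
  have hWcent : ∀ M : Subgroup H, M ≤ R → M ≠ R → (∀ b ∈ B, ∀ g ∈ M, b * g * b⁻¹ ∈ M) →
      W ≤ Subgroup.centralizer (M : Set H) := by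
    intro M hMR hMne hMinv
    show Subgroup.closure _ ≤ _
    rw [Subgroup.closure_le]
    rintro x ⟨b, hb, rfl⟩
    rw [SetLike.mem_coe, Subgroup.mem_centralizer_iff]
    intro g hg
    have h1 : b⁻¹ * g * b ∈ M := by
      have := hMinv b⁻¹ (B.inv_mem hb) g hg
      simpa using this
    have h2 := hmin M hMR hMne hMinv _ h1
    calc g * (b * w * b⁻¹) = b * ((b⁻¹ * g * b) * w) * b⁻¹ := by group
      _ = b * (w * (b⁻¹ * g * b)) * b⁻¹ := by rw [h2]
      _ = b * w * b⁻¹ * g := by group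
  have hBnorm : B ≤ Subgroup.normalizer (R : Set H) := by
    intro b hb
    rw [Subgroup.mem_normalizer_iff]
    intro g
    constructor
    · exact hBR b hb g
    · intro hg
      have := hBR b⁻¹ (B.inv_mem hb) _ hg
      simpa [mul_assoc] using this
  have hWnorm : W ≤ Subgroup.normalizer (R : Set H) := hWB.trans hBnorm
  have hWp : IsPGroup p W := hB.to_le hWB
  obtain ⟨n1, hn1⟩ := IsPGroup.iff_card.1 hWp
  obtain ⟨n2, hn2⟩ := IsPGroup.iff_card.1 hR
  have hcop : (Nat.card W).Coprime (Nat.card R) := by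
    rw [hn1, hn2]
    exact Nat.Coprime.pow _ _ ((Nat.coprime_primes hp hq).2 (Ne.symm hqp))
  have hsolv : Group.IsSolvable W ∨ Group.IsSolvable R := by
    left
    have := hWp.isNilpotent
    infer_instance
  have hKK : ⁅⁅R, W⁆, W⁆ = ⁅R, W⁆ :=
    Cfsg.Agent.Helper52.commutator_commutator_eq R W hWnorm hcop hsolv
  have hKR : ⁅R, W⁆ ≤ R := Cfsg.Agent.Helper24.commutator_le_of_le_normalizer R W hWnorm
  have hKinv : ∀ b ∈ B, ∀ g ∈ ⁅R, W⁆, b * g * b⁻¹ ∈ ⁅R, W⁆ := commutator_conj_inv B R W hBR hWinv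
  have hKeq : ⁅R, W⁆ = R := by
    by_contra hne
    have h1 := hWcent _ hKR hne hKinv
    have h2 : ⁅⁅R, W⁆, W⁆ = ⊥ := by
      rw [Subgroup.commutator_comm, Subgroup.commutator_eq_bot_iff_le_centralizer]
      exact h1
    rw [hKK] at h2
    have h3 : R ≤ Subgroup.centralizer (W : Set H) :=
      Subgroup.commutator_eq_bot_iff_le_centralizer.1 h2
    obtain ⟨g, hg, hgw⟩ := hwR
    exact hgw (Subgroup.mem_centralizer_iff.1 (h3 hg) w hwW)
  -- the commutator subgroup of `R`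
  have hR'le : ⁅R, R⁆ ≤ R :=
    Cfsg.Agent.Helper24.commutator_le_of_le_normalizer R R Subgroup.le_normalizer
  have hR'inv : ∀ b ∈ B, ∀ g ∈ ⁅R, R⁆, b * g * b⁻¹ ∈ ⁅R, R⁆ := commutator_conj_inv B R R hBR hBR
  have hR'ne : ⁅R, R⁆ ≠ R := by
    intro heq
    have hRnt : Nontrivial R := by
      rw [Subgroup.nontrivial_iff_ne_bot]
      intro hbot
      obtain ⟨g, hg, hgw⟩ := hwR
      rw [hbot, Subgroup.mem_bot] at hg
      subst hg
      exact hgw (by simp)
    have hnil : Group.IsNilpotent R := hR.isNilpotent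
    have hlt : _root_.commutator R < ⊤ := Group.IsSolvable.commutator_lt_top_of_nontrivial R
    have hmap : (_root_.commutator R).map R.subtype = (⊤ : Subgroup R).map R.subtype := by
      rw [Subgroup.map_subtype_commutator, heq, ← MonoidHom.range_eq_map, Subgroup.range_subtype]
    exact hlt.ne (Subgroup.map_injective R.subtype_injective hmap)
  -- a maximal proper `B`-invariant subgroup above the commutator subgroup
  let P : Subgroup H → Prop := fun M =>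
    ⁅R, R⁆ ≤ M ∧ M ≤ R ∧ M ≠ R ∧ ∀ b ∈ B, ∀ g ∈ M, b * g * b⁻¹ ∈ M
  have hP0 : P ⁅R, R⁆ := ⟨le_rfl, hR'le, hR'ne, hR'inv⟩
  obtain ⟨R₁, hR₁P, hR₁max⟩ :=
    Set.exists_max_image {M | P M} (fun M : Subgroup H => Nat.card M) (Set.toFinite _) ⟨_, hP0⟩
  have hWR₁ : W ≤ Subgroup.centralizer (R₁ : Set H) :=
    hWcent R₁ hR₁P.2.1 hR₁P.2.2.1 hR₁P.2.2.2
  have h1 : ⁅⁅W, R₁⁆, R⁆ = ⊥ := by
    have : ⁅W, R₁⁆ = ⊥ := Subgroup.commutator_eq_bot_iff_le_centralizer.2 hWR₁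
    rw [this, Subgroup.commutator_bot_left]
  have h2 : ⁅⁅R₁, R⁆, W⁆ = ⊥ := by
    have h3 : ⁅R₁, R⁆ ≤ R₁ := (Subgroup.commutator_mono hR₁P.2.1 le_rfl).trans hR₁P.1
    have h4 : ⁅R₁, W⁆ = ⊥ := by
      rw [Subgroup.commutator_comm]
      exact Subgroup.commutator_eq_bot_iff_le_centralizer.2 hWR₁
    rw [eq_bot_iff, ← h4]
    exact Subgroup.commutator_mono h3 le_rfl
  have h5 : ⁅⁅R, W⁆, R₁⁆ = ⊥ := Subgroup.commutator_commutator_eq_bot_of_rotate h1 h2
  rw [hKeq] at h5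
  have h6 : R ≤ Subgroup.centralizer (R₁ : Set H) :=
    Subgroup.commutator_eq_bot_iff_le_centralizer.1 h5
  refine ⟨R₁, ⟨hR₁P.2.1, hR₁P.2.2.1, hBR, hR₁P.2.2.2, ?_, ?_, ?_⟩⟩
  · intro x hx g hg
    exact Subgroup.mem_centralizer_iff.1 (h6 hg) x hx
  · intro x hx g hg
    have : cmt x g = ⁅x, g⁆ := rfl
    rw [this]
    exact hR₁P.1 (Subgroup.commutator_mem_commutator hx hg)
  · intro M hle hMR hMinv
    by_cases hM : M = R
    · right; exact hM
    · left
      have hPM : P M := ⟨hR₁P.1.trans hle, hMR, hM, hMinv⟩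
      have hcard : Nat.card M ≤ Nat.card R₁ := hR₁max M hPM
      exact (Subgroup.eq_of_le_of_card_ge hle hcard).symm

end Cfsg.Agent.Helper19.H2
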