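import Mathlib
import Cfsg.Agent.Lib.Helper33.JPCB
import Cfsg.Agent.Lib.Helper42.JPCT13a1

/-!
Piece (T13a) `exists_normalizer_elt` of helper35's lemma server "JPC" (row S4150):
assembly of (B) and (T13a1).
-/

set_option autoImplicit false
set_option linter.unusedVariables false

namespace Cfsg.Agent.Helper19.JPC

open Equiv Equiv.Perm MulAction Subgroup

universe u

/-- (T13a) [ASM: B, T13a1] -/
theorem exists_normalizer_elt {Ω : Type u} [Fintype Ω] [DecidableEq Ω]
    (hcard : Fintype.card Ω = 13) (G : Subgroup (Perm Ω)) (hGalt : G ≤ alternatingGroup Ω)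
    (h3 : IsMultiplyPretransitive G Ω 3) {g : Perm Ω} (hgc : g.IsCycle)
    (hg11 : g.support.card = 11) (hg : g ∈ G) :
    ∃ n ∈ G, (∀ t, t ∉ g.support → n t = t) ∧ n * g * n⁻¹ ∈ zpowers g ∧ n ∉ zpowers g := by
  classical
  by_contra hcon
  push Not at hcon
  have hT : ∀ n ∈ G, (∀ t, t ∉ g.support → n t = t) → n ∈ zpowers g :=
    Cfsg.Agent.Helper42.JPC.fixer_eq_zpowers G (by norm_num : Nat.Prime 11) hgc hg11 hg hcon
  -- the two fixed points
  have hc2 : (g.supportᶜ).card = 2 := by rw [Finset.card_compl, hcard, hg11]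
  obtain ⟨α, β, hαβ, hcompl⟩ := Finset.card_eq_two.1 hc2
  have hmem : ∀ t, t ∉ g.support ↔ t = α ∨ t = β := by
    intro t
    rw [← Finset.mem_compl, hcompl]
    simp
  have hgα : g α = α := by
    have := (hmem α).2 (Or.inl rfl)
    rwa [mem_support, not_not] at this
  have hgβ : g β = β := by
    have := (hmem β).2 (Or.inr rfl)
    rwa [mem_support, not_not] at this
  have hzα : ∀ x ∈ zpowers g, x α = α := by
    intro x hx
    obtain ⟨k, rfl⟩ := mem_zpowers_iff.1 hx
    exact zpow_apply_eq_self_of_apply_eq_self hgα k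
  have hzβ : ∀ x ∈ zpowers g, x β = β := by
    intro x hx
    obtain ⟨k, rfl⟩ := mem_zpowers_iff.1 hx
    exact zpow_apply_eq_self_of_apply_eq_self hgβ k
  have hzG : zpowers g ≤ G := by rw [zpowers_le]; exact hg
  -- the stabilizer of `α`
  set K : Subgroup (Perm Ω) := G ⊓ stabilizer (Perm Ω) α with hK
  have hmemK : ∀ x, x ∈ K ↔ x ∈ G ∧ x α = α := by
    intro x
    rw [hK, mem_inf, mem_stabilizer_iff]
    rfl
  have hzK : zpowers g ≤ K := fun x hx => (hmemK x).2 ⟨hzG hx, hzα x hx⟩
  have hKβ : ∀ x ∈ K, x β = β → x ∈ zpowers g := by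
    intro x hx hxβ
    apply hT x ((hmemK x).1 hx).1
    intro t ht
    rcases (hmem t).1 ht with rfl | rfl
    · exact ((hmemK x).1 hx).2
    · exact hxβ
  set P : Subgroup K := (zpowers g).subgroupOf K with hP
  have hcardP : Nat.card P = 11 := by
    rw [hP, Nat.card_congr (Subgroup.subgroupOfEquivOfLe hzK).toEquiv, Nat.card_zpowers,
      hgc.orderOf, hg11]
  have hN : normalizer (P : Set K) ≤ P := by
    intro n hn
    rw [hP, mem_subgroupOf]
    apply hKβ _ n.2
    have hgP : (⟨g, hzK (mem_zpowers g)⟩ : K) ∈ P := by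
      rw [hP, mem_subgroupOf]; exact mem_zpowers g
    have h1 := (mem_normalizer_iff.1 hn _).1 hgP
    rw [hP, mem_subgroupOf] at h1
    have h2 : (n : Perm Ω) * g * (n : Perm Ω)⁻¹ ∈ zpowers g := by simpa using h1
    have hsupp : (g.support).map (n : Perm Ω).toEmbedding = g.support := by
      apply Finset.eq_of_subset_of_card_le
      · rw [← support_conj]
        obtain ⟨k, hk⟩ := mem_zpowers_iff.1 h2
        rw [← hk]; exact support_zpow_le g k
      · rw [Finset.card_map]
    have hnβ : (n : Perm Ω) β ∉ g.support := by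
      intro hmem'
      rw [← hsupp, Finset.mem_map] at hmem'
      obtain ⟨t, ht, htβ⟩ := hmem'
      have : t = β := (n : Perm Ω).injective htβ
      rw [this] at ht
      exact ((hmem β).2 (Or.inr rfl)) ht
    rcases (hmem _).1 hnβ with h | h
    · exfalso
      have hnα : (n : Perm Ω) α = α := ((hmemK _).1 n.2).2
      have : (n : Perm Ω) β = (n : Perm Ω) α := by rw [h, hnα]
      exact hαβ ((n : Perm Ω).injective this).symm
    · exact h
  have hcardK : Nat.card K = 11 * (11 + 1) := by
    have hstab : stabilizer K β = P := by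
      ext x
      rw [mem_stabilizer_iff, hP, mem_subgroupOf]
      constructor
      · intro hx; exact hKβ _ x.2 hx
      · intro hx; exact hzβ _ hx
    have horb : orbit K β = ({α} : Set Ω)ᶜ := by
      ext γ
      rw [mem_orbit_iff, Set.mem_compl_iff, Set.mem_singleton_iff]
      constructor
      · rintro ⟨x, rfl⟩ hx
        have hxα : (x : Perm Ω) α = α := ((hmemK _).1 x.2).2
        have : (x : Perm Ω) β = (x : Perm Ω) α := by rw [hxα]; exact hx
        exact hαβ ((x : Perm Ω).injective this).symm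
      · intro hγ
        have : IsMultiplyPretransitive G Ω 3 := h3
        have h2t : IsMultiplyPretransitive G Ω 2 :=
          isMultiplyPretransitive_of_le (n := 3) (by norm_num)
            (by rw [Nat.card_eq_fintype_card, hcard]; norm_num)
        obtain ⟨k, hk1, hk2⟩ := (is_two_pretransitive_iff.1 h2t) hαβ (Ne.symm hγ)
        exact ⟨⟨(k : Perm Ω), (hmemK _).2 ⟨k.2, hk1⟩⟩, hk2⟩
    have h1 := Subgroup.card_mul_index (stabilizer K β)
    rw [index_stabilizer, horb, hstab, hcardP, Set.ncard_compl, Set.ncard_singleton,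
      Nat.card_eq_fintype_card, hcard] at h1
    omega
  exact Cfsg.Agent.Helper33.JPC.no_sharp_frobenius P (by norm_num : Nat.Prime 11) hcardP hN
    hcardK (by norm_num) (by norm_num)

end Cfsg.Agent.Helper19.JPC
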