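import Mathlib
import Cfsg.Agent.Lib.Helper13.JPCW
import Cfsg.Agent.Lib.Helper10.JPCT13c2

/-!
Piece (T13c) `exists_isThreeCycle_of_five` of helper35's lemma server "JPC" (row S4150):
assembly of (W) and (T13c2).
-/

set_option autoImplicit false

namespace Cfsg.Agent.Helper19.JPC

open Equiv Equiv.Perm MulAction Subgroup

universe u

/-- (T13c) [ASM: W, T13c2] -/
theorem exists_isThreeCycle_of_five {Ω : Type u} [Fintype Ω] [DecidableEq Ω]
    (hcard : Fintype.card Ω = 13) (G : Subgroup (Perm Ω))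
    (h3 : IsMultiplyPretransitive G Ω 3) {f : Perm Ω} (hf : f ∈ G) (hf5 : f ^ 5 = 1)
    (hf10 : f.support.card = 10) : ∃ w ∈ G, w.IsThreeCycle := by
  classical
  set Δ : Finset Ω := f.supportᶜ with hΔ
  have hΔcard : Δ.card = 3 := by
    rw [hΔ, Finset.card_compl, hcard, hf10]
  have hmemΔ : ∀ t, t ∈ Δ ↔ t ∉ f.support := by
    intro t; rw [hΔ, Finset.mem_compl]
  -- the admissible subgroups
  let P : Subgroup (Perm Ω) → Prop := fun R' =>
    R' ≤ G ∧ (∀ r ∈ R', ∀ t ∈ Δ, r t = t) ∧ IsPGroup 5 R' ∧ f ∈ R'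
  have hP0 : P (zpowers f) := by
    refine ⟨?_, ?_, ?_, mem_zpowers f⟩
    · rw [zpowers_le]; exact hf
    · intro r hr t ht
      obtain ⟨k, rfl⟩ := mem_zpowers_iff.1 hr
      have hft : f t = t := by
        have := (hmemΔ t).1 ht
        rwa [Equiv.Perm.mem_support, not_not] at this
      exact Equiv.Perm.zpow_apply_eq_self_of_apply_eq_self hft k
    · rintro ⟨r, hr⟩
      refine ⟨1, ?_⟩
      obtain ⟨k, rfl⟩ := mem_zpowers_iff.1 hr
      apply Subtype.ext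
      rw [pow_one, Subgroup.coe_pow, Subgroup.coe_one]
      show (f ^ k) ^ 5 = 1
      rw [← zpow_natCast, ← zpow_mul, mul_comm, zpow_mul, zpow_natCast, hf5, one_zpow]
  obtain ⟨R, hRP, hRmax⟩ :=
    Set.exists_max_image {R' | P R'} (fun R' : Subgroup (Perm Ω) => Nat.card R') (Set.toFinite _)
      ⟨_, hP0⟩
  have hmax : ∀ R' : Subgroup (Perm Ω), R' ≤ G → (∀ r ∈ R', ∀ t ∈ Δ, r t = t) →
      IsPGroup 5 R' → R ≤ R' → R' ≤ R := by
    intro R' h1 h2 h3' h4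
    have hPR' : P R' := ⟨h1, h2, h3', h4 hRP.2.2.2⟩
    have hle : Nat.card R' ≤ Nat.card R := hRmax R' hPR'
    exact (Subgroup.eq_of_le_of_card_ge h4 hle).symm.le
  -- the three fixed points and the 3-cycle on them
  obtain ⟨t₁, t₂, t₃, h12, h13, h23, hΔeq⟩ := Finset.card_eq_three.1 hΔcard
  have hm1 : t₁ ∈ Δ := by rw [hΔeq]; simp
  have hm2 : t₂ ∈ Δ := by rw [hΔeq]; simp
  have hm3 : t₃ ∈ Δ := by rw [hΔeq]; simp
  set σ : Perm Ω := swap t₁ t₂ * swap t₂ t₃ with hσdef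
  have hσ1 : σ t₁ = t₂ := by
    rw [hσdef, Perm.mul_apply, swap_apply_of_ne_of_ne h12 h13, swap_apply_left]
  have hσ2 : σ t₂ = t₃ := by
    rw [hσdef, Perm.mul_apply, swap_apply_left, swap_apply_of_ne_of_ne h13.symm h23.symm]
  have hσ3 : σ t₃ = t₁ := by
    rw [hσdef, Perm.mul_apply, swap_apply_right, swap_apply_right]
  have hσo : ∀ t, t ∉ Δ → σ t = t := by
    intro t ht
    have e1 : t ≠ t₁ := fun h => ht (h ▸ hm1)
    have e2 : t ≠ t₂ := fun h => ht (h ▸ hm2)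
    have e3 : t ≠ t₃ := fun h => ht (h ▸ hm3)
    rw [hσdef, Perm.mul_apply, swap_apply_of_ne_of_ne e2 e3, swap_apply_of_ne_of_ne e1 e2]
  have hσ : ∀ t, σ t ∈ Δ ↔ t ∈ Δ := by
    intro t
    by_cases ht : t ∈ Δ
    · simp only [ht, iff_true]
      rw [hΔeq] at ht
      simp only [Finset.mem_insert, Finset.mem_singleton] at ht
      rcases ht with rfl | rfl | rfl
      · rw [hσ1]; exact hm2
      · rw [hσ2]; exact hm3
      · rw [hσ3]; exact hm1
    · simp only [ht, iff_false]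
      rw [hσo t ht]; exact ht
  have hk : IsMultiplyPretransitive G Ω Δ.card := by rw [hΔcard]; exact h3
  obtain ⟨a, haG, hanorm, haΔ⟩ :=
    Cfsg.Agent.Helper13.JPC.witt G Δ hk 5 Nat.prime_five R hRP.1 hRP.2.1 hRP.2.2.1 hmax σ hσ
  have hRfix : ∀ r ∈ R, ∀ t, t ∉ f.support → r t = t :=
    fun r hr t ht => hRP.2.1 r hr t ((hmemΔ t).2 ht)
  have h40 := Cfsg.Agent.Helper10.JPC.isThreeCycle_pow_forty hcard R hRP.2.2.1 hRP.2.2.2 hf10
    hRfix hanorm ((hmemΔ t₁).1 hm1) ((hmemΔ t₂).1 hm2) ((hmemΔ t₃).1 hm3) h12 h23 h13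
    (by rw [haΔ t₁ hm1, hσ1]) (by rw [haΔ t₂ hm2, hσ2]) (by rw [haΔ t₃ hm3, hσ3])
  exact ⟨a ^ 40, G.pow_mem haG 40, h40⟩

end Cfsg.Agent.Helper19.JPC
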