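import Mathlib
import Cfsg.Agent.Lib.Helper73.N4800Base
import Cfsg.Agent.Lib.Helper17.SylowNormal

set_option autoImplicit false

namespace Cfsg.Agent.Helper19.N4800

open Cfsg.Agent.Helper17 Cfsg.Agent.Helper73.N4800

universe u

variable {G : Type u} [Group G] [Finite G]

/-- (F16) -/
theorem false_of_sixteen [IsSimpleGroup G] (hG : Nat.card G = 4800) (L H : Subgroup G)
    (hL : Nat.card L = 16) (hH : Nat.card H = 400)
    (hHL : H ≤ Subgroup.normalizer (L : Set G)) : False := by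
  have : Fact (Nat.Prime 2) := ⟨Nat.prime_two⟩
  have hLp : IsPGroup 2 L := IsPGroup.of_card (n := 4) (by rw [hL]; norm_num)
  obtain ⟨S, hLS⟩ := hLp.exists_le_sylow
  have hSc : Nat.card (S : Subgroup G) = 2 ^ 6 :=
    sylow_card_eq S (k := 6) (m := 75) (by norm_num [hG]) (by norm_num)
  have hlt : L < (S : Subgroup G) := by
    refine lt_of_le_of_ne hLS ?_
    intro h
    rw [h] at hL
    rw [hL] at hSc
    norm_num at hSc
  obtain ⟨x, hxS, hxN, hxL⟩ := exists_mem_normalizer_not_mem (S : Subgroup G) L S.2 hlt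
  set M := Subgroup.normalizer (L : Set G) with hM
  have hLQ : L ≤ M ⊓ (S : Subgroup G) := le_inf Subgroup.le_normalizer hLS
  have hxQ : x ∈ M ⊓ (S : Subgroup G) := ⟨hxN, hxS⟩
  have hQdvd : Nat.card (M ⊓ (S : Subgroup G) : Subgroup G) ∣ 2 ^ 6 := by
    rw [← hSc]; exact Subgroup.card_dvd_of_le inf_le_right
  have hLQd : 16 ∣ Nat.card (M ⊓ (S : Subgroup G) : Subgroup G) := by
    rw [← hL]; exact Subgroup.card_dvd_of_le hLQ
  have hQne : Nat.card (M ⊓ (S : Subgroup G) : Subgroup G) ≠ 16 := by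
    intro h
    have h2 : L = M ⊓ (S : Subgroup G) := Subgroup.eq_of_le_of_card_ge hLQ (by rw [h, hL])
    apply hxL
    rw [h2]
    exact hxQ
  obtain ⟨j, hj, hjQ⟩ := (Nat.dvd_prime_pow Nat.prime_two).1 hQdvd
  have h32 : 32 ∣ Nat.card (M ⊓ (S : Subgroup G) : Subgroup G) := by
    rw [hjQ] at hLQd hQne ⊢
    interval_cases j <;> omega
  have h32M : 32 ∣ Nat.card M := h32.trans (Subgroup.card_dvd_of_le inf_le_left)
  have h400 : 400 ∣ Nat.card M := by rw [← hH]; exact Subgroup.card_dvd_of_le hHL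
  have hpos : 0 < Nat.card M := Nat.card_pos
  by_cases hMtop : M = ⊤
  · have hnormL : L.Normal := Subgroup.normalizer_eq_top_iff.mp hMtop
    exact normal_card_absurd L hnormL (by omega) (by omega)
  · have hle := card_le_of_ne_top hG M hMtop
    obtain ⟨a, ha⟩ := h400
    obtain ⟨b, hb⟩ := h32M
    omega

end Cfsg.Agent.Helper19.N4800
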