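import Mathlib
import Cfsg.Agent.Lib.Helper32.N5Defs
import Cfsg.Agent.Lib.Helper49.N5PureDefs

/-!
Piece (MODb) `filt_of_module` of helper49's sub-server "N5-A3a" (row S1904):
`J M i` is a filtration of the ring `End M` by two-sided ideals.
-/

set_option autoImplicit false

namespace Cfsg.Agent.Helper19.N5

open Cfsg Cfsg.Agent.Helper32.N5 Cfsg.Agent.Helper49.N5
open scoped commutatorElement

universe u

theorem two_mul_apply' {M : Type*} [AddCommGroup M] (a : AddMonoid.End M) (m : M) :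
    (2 * a) m = 2 • a m := by
  rw [two_mul, two_nsmul]
  rfl

theorem filt_of_module {M : Type*} [AddCommGroup M] (s : M ≃+ M) (k : ℕ)
    (h3 : ∀ m, s (s (s m)) = m) (hN : ∀ m, m + s m + s (s m) = 0)
    (hdiv : ∀ (j : ℕ) (u : M), j + 1 ≤ k → 2 • u ∈ D M (j + 1) → u ∈ D M j)
    (hlast : ∀ m ∈ D M k, m = 0) :
    Filt (J M) (toEnd s) (toEnd s.symm) k := by
  refine
    { σ3 := ?_, τ_eq := ?_, N := ?_, zero := ?_, add := ?_, neg := ?_, mulL := ?_, mulR := ?_,
      mul := ?_, two := ?_, mono := ?_, div := ?_, last := ?_ }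
  · refine AddMonoidHom.ext fun m => ?_
    exact h3 m
  · refine AddMonoidHom.ext fun m => ?_
    show s.symm m = s (s m)
    apply s.injective
    rw [AddEquiv.apply_symm_apply, h3]
  · refine AddMonoidHom.ext fun m => ?_
    exact hN m
  · intro i m
    exact ⟨0, by simp⟩
  · intro i a b ha hb m
    obtain ⟨x, hx⟩ := ha m
    obtain ⟨y, hy⟩ := hb m
    refine ⟨x + y, ?_⟩
    show a m + b m = _
    rw [hx, hy, smul_add]
  · intro i a ha m
    obtain ⟨x, hx⟩ := ha m
    refine ⟨-x, ?_⟩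
    show -(a m) = _
    rw [hx, smul_neg]
  · intro i e a ha m
    obtain ⟨x, hx⟩ := ha m
    refine ⟨e x, ?_⟩
    show e (a m) = _
    rw [hx, map_nsmul]
  · intro i a e ha m
    exact ha (e m)
  · intro i j a b ha hb m
    obtain ⟨y, hy⟩ := hb m
    obtain ⟨x, hx⟩ := ha y
    refine ⟨x, ?_⟩
    show a (b m) = _
    rw [hy, map_nsmul, hx, smul_smul, ← pow_add, add_comm]
  · intro i a ha m
    obtain ⟨x, hx⟩ := ha m
    refine ⟨x, ?_⟩
    rw [two_mul_apply', hx, smul_smul, pow_succ']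
  · intro i a ha m
    obtain ⟨x, hx⟩ := ha m
    refine ⟨2 • x, ?_⟩
    rw [hx, smul_smul, pow_succ]
  · intro j a hj ha
    intro m
    apply hdiv j (a m) hj
    have := ha m
    rwa [two_mul_apply'] at this
  · intro a ha
    refine AddMonoidHom.ext fun m => ?_
    exact hlast (a m) (ha m)

end Cfsg.Agent.Helper19.N5
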