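import Mathlib
import Cfsg.Agent.Lib.Helper32.N5Defs

/-!
Piece `card_le_64_of_center_four` of helper32's lemma server "N5" (row S1904):
Chevalley-Warning: `|Z(X)| = 4`, `X/Z` and `Z` elementary abelian, no involutions outside `Z`
implies `|X| ≤ 64`.
-/

set_option autoImplicit false

namespace Cfsg.Agent.Helper19.N5

open Cfsg Cfsg.Agent.Helper32.N5
open scoped commutatorElement

universe u

/-- In a finite elementary abelian 2-group (additive) of order at least `2 ^ k` there are `k`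
independent vectors. -/
theorem exists_indep (V : Type*) [AddCommGroup V] [Finite V] (h2 : ∀ v : V, 2 • v = 0) (k : ℕ)
    (hk : 2 ^ k < 2 * Nat.card V) :
    ∃ b : Fin k → V, ∀ e : Fin k → ZMod 2, ∑ i, (e i).val • b i = 0 → e = 0 := by
  classical
  let _ : Module (ZMod 2) V := AddCommGroup.zmodModule h2
  have : Module.Finite (ZMod 2) V := Module.Finite.of_finite
  have hcard : Nat.card V = 2 ^ Module.finrank (ZMod 2) V := by
    rw [Module.natCard_eq_pow_finrank (K := ZMod 2) (V := V)]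
    simp
  have hle : k ≤ Module.finrank (ZMod 2) V := by
    rw [hcard, ← pow_succ'] at hk
    exact Nat.lt_succ_iff.1 ((Nat.pow_lt_pow_iff_right (by norm_num)).1 hk)
  let B := Module.finBasis (ZMod 2) V
  have hli : LinearIndependent (ZMod 2) (fun i : Fin k => B (Fin.castLE hle i)) :=
    B.linearIndependent.comp _ (Fin.castLE_injective hle)
  refine ⟨fun i => B (Fin.castLE hle i), fun e he => ?_⟩
  rw [Fintype.linearIndependent_iff] at hli
  funext i
  refine hli e ?_ i
  rw [← he]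
  refine Finset.sum_congr rfl fun i _ => ?_
  rw [← Nat.cast_smul_eq_nsmul (ZMod 2), ZMod.natCast_zmod_val]

/-- Coordinates on a finite elementary abelian 2-group of order `2 ^ k`. -/
theorem exists_coords (W : Type*) [AddCommGroup W] [Finite W] (h2 : ∀ w : W, 2 • w = 0) (k : ℕ)
    (hk : Nat.card W = 2 ^ k) :
    ∃ l : Fin k → (W →+ ZMod 2), ∀ w, (∀ a, l a w = 0) → w = 0 := by
  classical
  let _ : Module (ZMod 2) W := AddCommGroup.zmodModule h2
  have : Module.Finite (ZMod 2) W := Module.Finite.of_finite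
  have hcard : Nat.card W = 2 ^ Module.finrank (ZMod 2) W := by
    rw [Module.natCard_eq_pow_finrank (K := ZMod 2) (V := W)]
    simp
  have hfr : Module.finrank (ZMod 2) W = k := by
    rw [hcard] at hk
    exact Nat.pow_right_injective (le_refl 2) hk
  let B := (Module.finBasis (ZMod 2) W).reindex (finCongr hfr)
  refine ⟨fun a => ((LinearMap.proj a).comp B.equivFun.toLinearMap).toAddMonoidHom, fun w hw => ?_⟩
  have : B.equivFun w = 0 := by
    funext a
    exact hw a
  exact B.equivFun.map_eq_zero_iff.1 this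

section Main

variable {X : Type u} [Group X]

theorem deg_add {p q : MvPolynomial (Fin 5) (ZMod 2)} (hp : p.totalDegree ≤ 2)
    (hq : q.totalDegree ≤ 2) : (p + q).totalDegree ≤ 2 :=
  (MvPolynomial.totalDegree_add p q).trans (max_le hp hq)

theorem deg_lin (c : ZMod 2) (i : Fin 5) :
    (MvPolynomial.C c * MvPolynomial.X i : MvPolynomial (Fin 5) (ZMod 2)).totalDegree ≤ 2 := by
  refine (MvPolynomial.totalDegree_mul _ _).trans ?_
  rw [MvPolynomial.totalDegree_C, MvPolynomial.totalDegree_X]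
  norm_num

theorem deg_quad (c : ZMod 2) (i j : Fin 5) :
    (MvPolynomial.C c * MvPolynomial.X i * MvPolynomial.X j :
      MvPolynomial (Fin 5) (ZMod 2)).totalDegree ≤ 2 := by
  refine (MvPolynomial.totalDegree_mul _ _).trans ?_
  have h1 := (MvPolynomial.totalDegree_mul (MvPolynomial.C c : MvPolynomial (Fin 5) (ZMod 2))
    (MvPolynomial.X i))
  rw [MvPolynomial.totalDegree_C, MvPolynomial.totalDegree_X] at h1
  rw [MvPolynomial.totalDegree_X]
  omega

theorem zmod2_cases (c : ZMod 2) : c = 0 ∨ c = 1 := by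
  revert c; decide

variable [Finite X]

set_option maxHeartbeats 4000000 in
theorem card_le_64_of_center_four (Z : Subgroup X) (hd : SpData Z) (hZ4 : Nat.card Z = 4)
    (hinv : ∀ x : X, x ^ 2 = 1 → x ∈ Z) : Nat.card X ≤ 64 := by
  classical
  by_contra hlt
  push Not at hlt
  have hZc : ∀ z ∈ Z, ∀ g : X, g * z = z * g := by
    intro z hz g
    rw [hd.eqc] at hz
    exact Subgroup.mem_center_iff.1 hz g
  have hZn : Z.Normal := by
    rw [hd.eqc]; infer_instance
  -- the quotient as an elementary abelian 2-group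
  let instQ : CommGroup (X ⧸ Z) :=
    { (inferInstance : Group (X ⧸ Z)) with
      mul_comm := by
        intro a b
        induction a using QuotientGroup.induction_on with | H a => ?_
        induction b using QuotientGroup.induction_on with | H b => ?_
        rw [← QuotientGroup.mk_mul, ← QuotientGroup.mk_mul, QuotientGroup.eq]
        have := hd.comm b⁻¹ a⁻¹
        simpa [commutatorElement_def, mul_assoc] using this }
  have hQ2 : ∀ v : Additive (X ⧸ Z), 2 • v = 0 := by
    intro v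
    obtain ⟨g, hg⟩ := QuotientGroup.mk_surjective (Additive.toMul v)
    have h1 : (Additive.toMul v) ^ 2 = 1 := by
      rw [← hg, ← QuotientGroup.mk_pow, QuotientGroup.eq_one_iff]
      exact hd.sq g
    apply Additive.toMul.injective
    rw [toMul_nsmul, h1]
    rfl
  have hcardX : Nat.card X = Nat.card (X ⧸ Z) * Nat.card Z :=
    Subgroup.card_eq_card_quotient_mul_card_subgroup Z
  have hcardQ : 2 ^ 5 < 2 * Nat.card (Additive (X ⧸ Z)) := by
    have : Nat.card (Additive (X ⧸ Z)) = Nat.card (X ⧸ Z) := Nat.card_congr Additive.toMul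
    rw [this]
    rw [hZ4] at hcardX
    omega
  obtain ⟨b, hb⟩ := exists_indep (Additive (X ⧸ Z)) hQ2 5 hcardQ
  -- coordinates on Z
  let instZ : CommGroup Z :=
    { (inferInstance : Group Z) with
      mul_comm := fun a c => Subtype.ext (hZc c.1 c.2 a.1) }
  have hW2 : ∀ w : Additive Z, 2 • w = 0 := by
    intro w
    apply Additive.toMul.injective
    rw [toMul_nsmul]
    exact Subtype.ext (hd.el _ (Additive.toMul w).2)
  have hcardW : Nat.card (Additive Z) = 2 ^ 2 := by
    rw [Nat.card_congr Additive.toMul, hZ4]; norm_num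
  obtain ⟨l, hl⟩ := exists_coords (Additive Z) hW2 2 hcardW
  -- total coordinate functions on X
  let Lt : Fin 2 → X → ZMod 2 := fun a g =>
    if hg : g ∈ Z then l a (Additive.ofMul (⟨g, hg⟩ : Z)) else 0
  have hLmul : ∀ a g h, g ∈ Z → h ∈ Z → Lt a (g * h) = Lt a g + Lt a h := by
    intro a g h hg hh
    simp only [Lt, dif_pos hg, dif_pos hh, dif_pos (Z.mul_mem hg hh)]
    rw [← map_add]
    rfl
  have hL1 : ∀ a, Lt a 1 = 0 := by
    intro a
    simp only [Lt, dif_pos Z.one_mem]
    exact map_zero (l a)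
  have hLinj : ∀ g, g ∈ Z → (∀ a, Lt a g = 0) → g = 1 := by
    intro g hg h
    have := hl (Additive.ofMul (⟨g, hg⟩ : Z)) (fun a => by simpa [Lt, dif_pos hg] using h a)
    have h2 : (⟨g, hg⟩ : Z) = 1 := this
    exact congrArg Subtype.val h2
  -- the quadratic and bilinear maps
  have hsq : ∀ g h : X, (g * h) ^ 2 = ⁅g, h⁆ * (g ^ 2 * h ^ 2) := by
    intro g h
    have h1 : h⁻¹ * (g ^ 2) = (g ^ 2) * h⁻¹ := hZc (g ^ 2) (hd.sq g) h⁻¹
    have e1 : ⁅g, h⁆ * (g ^ 2 * h ^ 2) = g * h * g⁻¹ * (h⁻¹ * g ^ 2) * h ^ 2 := by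
      rw [commutatorElement_def]; group
    rw [e1, h1, sq (g * h)]; group
  have hcl : ∀ g g' h : X, ⁅g * g', h⁆ = ⁅g, h⁆ * ⁅g', h⁆ := by
    intro g g' h
    have hc := hZc ⁅g', h⁆ (hd.comm g' h)
    have e1 : ⁅g * g', h⁆ = g * ⁅g', h⁆ * (h * g⁻¹ * h⁻¹) := by
      simp only [commutatorElement_def]; group
    rw [e1, hc g, hc ⁅g, h⁆, commutatorElement_def g h]
    generalize ⁅g', h⁆ = c'
    group
  have hcr : ∀ g h h' : X, ⁅g, h * h'⁆ = ⁅g, h⁆ * ⁅g, h'⁆ := by
    intro g h h'
    have hc := hZc ⁅g, h'⁆ (hd.comm g h')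
    have e1 : ⁅g, h * h'⁆ = g * h * g⁻¹ * ⁅g, h'⁆ * h⁻¹ := by
      simp only [commutatorElement_def]; group
    rw [e1, hc (g * h * g⁻¹), hc ⁅g, h⁆, commutatorElement_def g h]
    generalize ⁅g, h'⁆ = c'
    group
  -- q and β
  let qf : Fin 2 → X → ZMod 2 := fun a g => Lt a (g ^ 2)
  let bf : Fin 2 → X → X → ZMod 2 := fun a g h => Lt a ⁅g, h⁆
  have hq_mul : ∀ a g h, qf a (g * h) = bf a g h + (qf a g + qf a h) := by
    intro a g h
    simp only [qf, bf]
    rw [hsq, hLmul a _ _ (hd.comm g h) (Z.mul_mem (hd.sq g) (hd.sq h)),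
      hLmul a _ _ (hd.sq g) (hd.sq h)]
  have hb_l : ∀ a g g' h, bf a (g * g') h = bf a g h + bf a g' h := by
    intro a g g' h
    simp only [bf]
    rw [hcl, hLmul a _ _ (hd.comm g h) (hd.comm g' h)]
  have hb_r : ∀ a g h h', bf a g (h * h') = bf a g h + bf a g h' := by
    intro a g h h'
    simp only [bf]
    rw [hcr, hLmul a _ _ (hd.comm g h) (hd.comm g h')]
  have hq1 : ∀ a, qf a 1 = 0 := by
    intro a
    simp only [qf, one_pow]
    exact hL1 a
  have hb1l : ∀ a h, bf a 1 h = 0 := by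
    intro a h
    simp only [bf, commutatorElement_one_left]
    exact hL1 a
  have hb1r : ∀ a g, bf a g 1 = 0 := by
    intro a g
    simp only [bf, commutatorElement_one_right]
    exact hL1 a
  have hv0 : (0 : ZMod 2).val = 0 := rfl
  have hv1 : (1 : ZMod 2).val = 1 := rfl
  have hqpow : ∀ a g (c : ZMod 2), qf a (g ^ c.val) = c * qf a g := by
    intro a g c
    rcases zmod2_cases c with rfl | rfl
    · rw [hv0, pow_zero, hq1, zero_mul]
    · rw [hv1, pow_one, one_mul]
  have hbpow_l : ∀ a g h (c : ZMod 2), bf a (g ^ c.val) h = c * bf a g h := by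
    intro a g h c
    rcases zmod2_cases c with rfl | rfl
    · rw [hv0, pow_zero, hb1l, zero_mul]
    · rw [hv1, pow_one, one_mul]
  have hbpow_r : ∀ a g h (c : ZMod 2), bf a g (h ^ c.val) = c * bf a g h := by
    intro a g h c
    rcases zmod2_cases c with rfl | rfl
    · rw [hv0, pow_zero, hb1r, zero_mul]
    · rw [hv1, pow_one, one_mul]
  -- representatives
  let x : Fin 5 → X := fun i => Quotient.out (Additive.toMul (b i))
  have hx : ∀ i, (QuotientGroup.mk (x i) : X ⧸ Z) = Additive.toMul (b i) :=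
    fun i => QuotientGroup.out_eq' _
  let prodE : (Fin 5 → ZMod 2) → X := fun e =>
    x 0 ^ (e 0).val * x 1 ^ (e 1).val * x 2 ^ (e 2).val * x 3 ^ (e 3).val * x 4 ^ (e 4).val
  have hmk : ∀ e, Additive.ofMul (QuotientGroup.mk (prodE e) : X ⧸ Z) = ∑ i, (e i).val • b i := by
    intro e
    simp only [Fin.sum_univ_five, prodE, QuotientGroup.mk_mul, QuotientGroup.mk_pow, hx,
      ofMul_mul, ofMul_pow, ofMul_toMul]
  let P : Fin 2 → MvPolynomial (Fin 5) (ZMod 2) := fun a =>
    MvPolynomial.C (qf a (x 0)) * MvPolynomial.X 0 + MvPolynomial.C (qf a (x 1)) * MvPolynomial.X 1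
    + MvPolynomial.C (qf a (x 2)) * MvPolynomial.X 2 + MvPolynomial.C (qf a (x 3)) * MvPolynomial.X 3
    + MvPolynomial.C (qf a (x 4)) * MvPolynomial.X 4
    + MvPolynomial.C (bf a (x 0) (x 1)) * MvPolynomial.X 0 * MvPolynomial.X 1
    + MvPolynomial.C (bf a (x 0) (x 2)) * MvPolynomial.X 0 * MvPolynomial.X 2
    + MvPolynomial.C (bf a (x 0) (x 3)) * MvPolynomial.X 0 * MvPolynomial.X 3
    + MvPolynomial.C (bf a (x 0) (x 4)) * MvPolynomial.X 0 * MvPolynomial.X 4
    + MvPolynomial.C (bf a (x 1) (x 2)) * MvPolynomial.X 1 * MvPolynomial.X 2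
    + MvPolynomial.C (bf a (x 1) (x 3)) * MvPolynomial.X 1 * MvPolynomial.X 3
    + MvPolynomial.C (bf a (x 1) (x 4)) * MvPolynomial.X 1 * MvPolynomial.X 4
    + MvPolynomial.C (bf a (x 2) (x 3)) * MvPolynomial.X 2 * MvPolynomial.X 3
    + MvPolynomial.C (bf a (x 2) (x 4)) * MvPolynomial.X 2 * MvPolynomial.X 4
    + MvPolynomial.C (bf a (x 3) (x 4)) * MvPolynomial.X 3 * MvPolynomial.X 4
  have hPdeg : ∀ a, (P a).totalDegree ≤ 2 := by
    intro a
    exact deg_add (deg_add (deg_add (deg_add (deg_add (deg_add (deg_add (deg_add (deg_add (deg_add (deg_add (deg_add (deg_add (deg_add (deg_lin _ _) (deg_lin _ _)) (deg_lin _ _)) (deg_lin _ _)) (deg_lin _ _)) (deg_quad _ _ _)) (deg_quad _ _ _)) (deg_quad _ _ _)) (deg_quad _ _ _)) (deg_quad _ _ _)) (deg_quad _ _ _)) (deg_quad _ _ _)) (deg_quad _ _ _)) (deg_quad _ _ _)) (deg_quad _ _ _)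
  have heval : ∀ a e, MvPolynomial.eval e (P a) = qf a (prodE e) := by
    intro a e
    simp only [P, prodE, map_add, map_mul, MvPolynomial.eval_C, MvPolynomial.eval_X, hq_mul, hb_l,
      hqpow, hbpow_l, hbpow_r]
    ring
  have hcw := char_dvd_card_solutions_of_fintype_sum_lt (K := ZMod 2) (σ := Fin 5) 2 (f := P)
    (by
      rw [Fin.sum_univ_two, Fintype.card_fin]
      have h0 := hPdeg 0
      have h1 := hPdeg 1
      omega)
  have hzero : ∀ a, MvPolynomial.eval (0 : Fin 5 → ZMod 2) (P a) = 0 := by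
    intro a
    rw [heval]
    simp only [prodE, Pi.zero_apply, hv0, pow_zero, mul_one]
    exact hq1 a
  have hcw' : 2 ∣ Nat.card {e : Fin 5 → ZMod 2 // ∀ a, MvPolynomial.eval e (P a) = 0} := by
    have h := hcw
    rwa [Fintype.card_eq_nat_card] at h
  have hne0 : Nonempty {e : Fin 5 → ZMod 2 // ∀ a, MvPolynomial.eval e (P a) = 0} :=
    ⟨⟨0, hzero⟩⟩
  have hcard2 : 1 < Nat.card {e : Fin 5 → ZMod 2 // ∀ a, MvPolynomial.eval e (P a) = 0} :=
    Nat.le_of_dvd Nat.card_pos hcw'
  have hnt := Finite.one_lt_card_iff_nontrivial.1 hcard2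
  obtain ⟨⟨e, he⟩, hne⟩ := exists_ne (⟨0, hzero⟩ :
    {e : Fin 5 → ZMod 2 // ∀ a, MvPolynomial.eval e (P a) = 0})
  have hsq1 : (prodE e) ^ 2 = 1 := by
    refine hLinj _ (hd.sq _) (fun a => ?_)
    have := he a
    rw [heval] at this
    exact this
  have hmem : prodE e ∈ Z := hinv _ hsq1
  have hmk1 : (QuotientGroup.mk (prodE e) : X ⧸ Z) = 1 := (QuotientGroup.eq_one_iff _).2 hmem
  have hsum : ∑ i, (e i).val • b i = 0 := by
    rw [← hmk, hmk1]
    rfl
  exact hne (Subtype.ext (hb e hsum))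

end Main

end Cfsg.Agent.Helper19.N5
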