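import Mathlib
import Cfsg.Agent.S1017
import Cfsg.Agent.Lib.Helper17.Sieve
import Cfsg.Agent.Lib.Helper55.O2520Defs

set_option autoImplicit false

namespace Cfsg.Agent.Helper19.O2520

open Cfsg.Agent.Helper55.O2520 Cfsg.Agent.Helper17

universe u

/-- if `p ∣ |C(y)|` and the Sylow `p`-subgroups have order `p`, some Sylow `p`-subgroup `Q` has
`y ∈ C(Q)` and `Q ≤ C(Q)`. -/
theorem h19_sylow_centralized {G : Type u} [Group G] [Finite G] {p : ℕ} [hp : Fact p.Prime]
    (hQc : ∀ Q : Sylow p G, Nat.card (Q : Subgroup G) = p) (y : G)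
    (hdvd : p ∣ Nat.card (Subgroup.centralizer ({y} : Set G))) :
    ∃ Q : Sylow p G, y ∈ Subgroup.centralizer ((Q : Subgroup G) : Set G) ∧
      (Q : Subgroup G) ≤ Subgroup.centralizer ((Q : Subgroup G) : Set G) := by
  obtain ⟨z', hz'⟩ := exists_prime_orderOf_dvd_card' (G := ↥(Subgroup.centralizer ({y} : Set G))) p hdvd
  have hz : orderOf (z' : G) = p := by rw [Subgroup.orderOf_coe]; exact hz'
  have hzy : (z' : G) * y = y * (z' : G) := by
    have := Subgroup.mem_centralizer_iff.mp z'.2 y (Set.mem_singleton y)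
    exact this.symm
  obtain ⟨Q, hzQ⟩ := Cfsg.Agent.S1017.exists_sylow_mem_of_orderOf (z' : G) hz
  have hQz : Subgroup.zpowers (z' : G) = (Q : Subgroup G) := by
    apply Subgroup.eq_of_le_of_card_ge
    · rw [Subgroup.zpowers_le]; exact hzQ
    · rw [Nat.card_zpowers, hz, hQc Q]
  refine ⟨Q, ?_, ?_⟩
  · rw [Subgroup.mem_centralizer_iff]
    intro h hh
    rw [SetLike.mem_coe, ← hQz] at hh
    obtain ⟨k, rfl⟩ := Subgroup.mem_zpowers_iff.mp hh
    have hc : Commute (z' : G) y := hzy
    exact (hc.zpow_left k).eq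
  · intro a ha
    rw [Subgroup.mem_centralizer_iff]
    intro h hh
    rw [SetLike.mem_coe, ← hQz] at hh
    rw [← hQz] at ha
    obtain ⟨k, rfl⟩ := Subgroup.mem_zpowers_iff.mp hh
    obtain ⟨l, rfl⟩ := Subgroup.mem_zpowers_iff.mp ha
    exact ((Commute.refl (z' : G)).zpow_zpow k l).eq

/-- (Q6a) -/
theorem s3c_centralizer_dvd {G : Type u} [Group G] [Finite G] [IsSimpleGroup G]
    (hG : Nat.card G = 2520) (h7 : Nat.card (Sylow 7 G) = 120) (h5 : Nat.card (Sylow 5 G) = 126)
    (y : G) (hy : orderOf y = 3) : Nat.card (Subgroup.centralizer ({y} : Set G)) ∣ 72 := by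
  have hp7 : Fact (Nat.Prime 7) := ⟨by norm_num⟩
  have hp5 : Fact (Nat.Prime 5) := ⟨by norm_num⟩
  have hQ7 : ∀ Q : Sylow 7 G, Nat.card (Q : Subgroup G) = 7 := by
    intro Q
    have := sylow_card_eq Q (k := 1) (m := 360) (by norm_num [hG]) (by norm_num)
    simpa using this
  have hQ5 : ∀ Q : Sylow 5 G, Nat.card (Q : Subgroup G) = 5 := by
    intro Q
    have := sylow_card_eq Q (k := 1) (m := 504) (by norm_num [hG]) (by norm_num)
    simpa using this
  have hn7 : ¬ 7 ∣ Nat.card (Subgroup.centralizer ({y} : Set G)) := by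
    intro hd
    obtain ⟨Q, hyQ, hQQ⟩ := h19_sylow_centralized hQ7 y hd
    obtain ⟨e, he1, he2, he3⟩ := exists_e Q (hQ7 Q) (by rw [hG]; norm_num)
    have hNd := card_normalizer_mul_sylow_count Q
    rw [h7, hG] at hNd
    have hN : Nat.card (Subgroup.normalizer ((Q : Subgroup G) : Set G)) = 21 := by omega
    rw [hN] at he3
    have h3 : 3 ∣ Nat.card (Subgroup.centralizer ((Q : Subgroup G) : Set G)) := by
      rw [← hy]; exact Subgroup.orderOf_dvd_natCard _ hyQ
    have h7' : 7 ∣ Nat.card (Subgroup.centralizer ((Q : Subgroup G) : Set G)) := by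
      have := Subgroup.card_dvd_of_le hQQ
      rwa [hQ7 Q] at this
    have h21 : 21 ∣ Nat.card (Subgroup.centralizer ((Q : Subgroup G) : Set G)) :=
      Nat.Coprime.mul_dvd_of_dvd_of_dvd (by norm_num : Nat.Coprime 3 7) h3 h7'
    obtain ⟨k, hk⟩ := h21
    rw [hk] at he3
    have hke : k * e = 1 := by
      have : 21 * (k * e) = 21 * 1 := by rw [← mul_assoc, he3]
      exact Nat.eq_of_mul_eq_mul_left (by norm_num) this
    exact he2 (Nat.eq_one_of_mul_eq_one_left hke)
  have hn5 : ¬ 5 ∣ Nat.card (Subgroup.centralizer ({y} : Set G)) := by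
    intro hd
    obtain ⟨Q, hyQ, -⟩ := h19_sylow_centralized hQ5 y hd
    have hNd := card_normalizer_mul_sylow_count Q
    rw [h5, hG] at hNd
    have hN : Nat.card (Subgroup.normalizer ((Q : Subgroup G) : Set G)) = 20 := by omega
    have h3 : 3 ∣ Nat.card (Subgroup.normalizer ((Q : Subgroup G) : Set G)) := by
      rw [← hy]
      exact Subgroup.orderOf_dvd_natCard _ (Subgroup.centralizer_le_normalizer _ hyQ)
    rw [hN] at h3
    omega
  have hdvd : Nat.card (Subgroup.centralizer ({y} : Set G)) ∣ 72 * 35 := by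
    have := Subgroup.card_subgroup_dvd_card (Subgroup.centralizer ({y} : Set G))
    rw [hG] at this
    exact this
  have hcop : Nat.Coprime (Nat.card (Subgroup.centralizer ({y} : Set G))) 35 := by
    have h35 : (35 : ℕ) = 5 * 7 := by norm_num
    rw [h35]
    apply Nat.Coprime.mul_right
    · exact (Nat.Coprime.symm ((Nat.Prime.coprime_iff_not_dvd (by norm_num)).mpr hn5))
    · exact (Nat.Coprime.symm ((Nat.Prime.coprime_iff_not_dvd (by norm_num)).mpr hn7))
  exact hcop.dvd_of_dvd_mul_right hdvd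

end Cfsg.Agent.Helper19.O2520
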