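import Mathlib
import Cfsg.Agent.Lib.Helper55.O2520Defs

set_option autoImplicit false

namespace Cfsg.Agent.Helper19.O2520

open Cfsg.Agent.Helper55.O2520

universe u

/-- (Q6b) -/
theorem s3c_centralizer_sylow {G : Type u} [Group G] [Finite G] (P : Sylow 3 G)
    (hP : Nat.card (P : Subgroup G) = 9) (M : Subgroup G) (hPM : (P : Subgroup G) ≤ M)
    (hMN : M ⊓ Subgroup.normalizer ((P : Subgroup G) : Set G) ≤ (P : Subgroup G))
    (hM : Nat.card M ∣ 72) : Nat.card M = 9 ∨ Nat.card M = 36 := by
  have h3 : Fact (Nat.Prime 3) := ⟨Nat.prime_three⟩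
  obtain ⟨P', hP'⟩ : ∃ P' : Sylow 3 M, (P' : Subgroup M) = (P : Subgroup G).subgroupOf M :=
    ⟨P.subtype hPM, Sylow.coe_subtype P hPM⟩
  have hNle : Subgroup.normalizer ((P' : Subgroup M) : Set M) ≤ (P' : Subgroup M) := by
    intro h hh
    have hhN : (h : G) ∈ Subgroup.normalizer ((P : Subgroup G) : Set G) := by
      apply Subgroup.mem_normalizer_fintype
      intro x hx
      have hx' : (⟨x, hPM hx⟩ : M) ∈ (P' : Subgroup M) := by
        rw [hP', Subgroup.mem_subgroupOf]; exact hx
      have := (Subgroup.mem_normalizer_iff.mp hh ⟨x, hPM hx⟩).mp hx'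
      rw [hP', Subgroup.mem_subgroupOf] at this
      have h3 : (h : G) * x * (h : G)⁻¹ ∈ (P : Subgroup G) := by simpa using this
      exact h3
    have hhP : (h : G) ∈ (P : Subgroup G) := hMN ⟨h.2, hhN⟩
    rw [hP', Subgroup.mem_subgroupOf]
    exact hhP
  have hNeq : Subgroup.normalizer ((P' : Subgroup M) : Set M) = (P' : Subgroup M) :=
    le_antisymm hNle Subgroup.le_normalizer
  have hP'c : Nat.card (P' : Subgroup M) = 9 := by
    rw [hP', ← hP]
    exact Nat.card_congr (Subgroup.subgroupOfEquivOfLe hPM).toEquiv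
  have hcount : Nat.card (Sylow 3 M) = (P' : Subgroup M).index := by
    rw [P'.card_eq_index_normalizer]
    exact congrArg Subgroup.index hNeq
  have hci := (P' : Subgroup M).card_mul_index
  rw [hP'c, ← hcount] at hci
  have hmod : Nat.card (Sylow 3 M) % 3 = 1 := by
    have := card_sylow_modEq_one 3 M
    rw [Nat.ModEq] at this
    omega
  generalize Nat.card (Sylow 3 M) = n at *
  generalize Nat.card M = c at *
  subst hci
  -- 9 * n ∣ 72, n % 3 = 1
  have hn8 : n ∣ 8 := by
    have : 9 * n ∣ 9 * 8 := hM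
    exact Nat.dvd_of_mul_dvd_mul_left (by norm_num) this
  have hle : n ≤ 8 := Nat.le_of_dvd (by norm_num) hn8
  interval_cases n <;> omega

end Cfsg.Agent.Helper19.O2520
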