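import Mathlib
import Cfsg.Agent.Lib.Helper18.O3K0
import Cfsg.Agent.S0292

set_option autoImplicit false

namespace Cfsg.Agent.Helper19.O3K

open Cfsg Cfsg.Agent.Helper18.O3K

variable {p : ℕ}

theorem h19_sum_two_mul (m : ℕ) : ∑ i ∈ Finset.range m, 2 * (i + 1) = m * (m + 1) := by
  induction m with
  | zero => simp
  | succ k ih => rw [Finset.sum_range_succ, ih]; ring

/-- (OODD) -/
theorem concl_pomega_odd (hp : p.Prime) (F : Type) [Field F] [Fintype F] [CharP F p] (m : ℕ) (hm : 3 ≤ m)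
    (hodd : Odd (Fintype.card F)) : Concl p (POmega F (quadFormOdd m F)) := by
  obtain ⟨f, hf, hq⟩ := card_eq_pow hp F
  have hcard := Cfsg.Agent.S0292.result (F := F) (q := Fintype.card F) rfl hodd m hm
  have hq1 : 1 ≤ Fintype.card F := by rw [hq]; exact Nat.one_le_pow _ _ hp.pos
  have hq2 : 2 ≤ Fintype.card F := by
    rw [hq]
    calc 2 ≤ p := hp.two_le
      _ = p ^ 1 := (pow_one p).symm
      _ ≤ p ^ f := Nat.pow_le_pow_right hp.pos hf
  have hp2 : p ≠ 2 := by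
    rintro rfl
    rw [hq] at hodd
    have : Even (2 ^ f) := Nat.even_pow.mpr ⟨even_two, by omega⟩
    exact (Nat.not_even_iff_odd.mpr hodd) this
  have hd : ¬ p ∣ 2 := by
    intro h
    exact hp2 ((Nat.prime_dvd_prime_iff_eq hp Nat.prime_two).mp h)
  have hP : ¬ p ∣ ∏ i ∈ Finset.range m, (Fintype.card F ^ (2 * (i + 1)) - 1) :=
    not_dvd_prod_sub_one hp hq hf (fun i => 2 * (i + 1)) (fun i => by omega) m
  have hPpos : 0 < ∏ i ∈ Finset.range m, (Fintype.card F ^ (2 * (i + 1)) - 1) := by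
    rcases Nat.eq_zero_or_pos (∏ i ∈ Finset.range m, (Fintype.card F ^ (2 * (i + 1)) - 1)) with h | h
    · exact absurd (h ▸ dvd_zero p) hP
    · exact h
  have hcne : Nat.card (POmega F (quadFormOdd m F)) ≠ 0 := by
    intro h0
    rw [h0, mul_zero] at hcard
    have : 0 < Fintype.card F ^ (m ^ 2) *
        ∏ i ∈ Finset.range m, (Fintype.card F ^ (2 * (i + 1)) - 1) :=
      Nat.mul_pos (pow_pos hq1 _) hPpos
    omega
  have hfin : Finite (POmega F (quadFormOdd m F)) := Nat.finite_of_card_ne_zero hcne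
  have h : 2 * Nat.card (POmega F (quadFormOdd m F)) =
      p ^ (f * m ^ 2) * ∏ i ∈ Finset.range m, (Fintype.card F ^ (2 * (i + 1)) - 1) := by
    rw [hcard]
    congr 1
    rw [hq, ← pow_mul]
  refine concl_of_mul hp 2 (f * m ^ 2) _ h hd hP ?_
  have hlt1 : ∏ i ∈ Finset.range m, (Fintype.card F ^ (2 * (i + 1)) - 1) <
      Fintype.card F ^ (m * (m + 1)) := by
    have := prod_sub_one_lt hq1 (fun i => 2 * (i + 1)) (m := m) (by omega)
    rwa [h19_sum_two_mul] at this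
  have h3m : 3 * m ≤ m * m := Nat.mul_le_mul_right m hm
  calc (∏ i ∈ Finset.range m, (Fintype.card F ^ (2 * (i + 1)) - 1)) ^ 3
      < (Fintype.card F ^ (m * (m + 1))) ^ 3 := Nat.pow_lt_pow_left hlt1 (by norm_num)
    _ = Fintype.card F ^ (3 * (m * (m + 1))) := by rw [← pow_mul]; congr 1; ring
    _ ≤ Fintype.card F ^ (5 * m ^ 2) := Nat.pow_le_pow_right hq1 (by nlinarith)
    _ = p ^ (5 * (f * m ^ 2)) := by rw [hq, ← pow_mul]; congr 1; ring
    _ ≤ 2 ^ 3 * p ^ (5 * (f * m ^ 2)) := Nat.le_mul_of_pos_left _ (by norm_num)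

end Cfsg.Agent.Helper19.O3K
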