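import Mathlib
import Cfsg.Agent.Lib.Helper18.O3K0
import Cfsg.Agent.S0293

set_option autoImplicit false

namespace Cfsg.Agent.Helper19.O3K

open Cfsg Cfsg.Agent.Helper18.O3K

variable {p : ℕ}

theorem h19p_sum_two_mul (m : ℕ) : ∑ i ∈ Finset.range m, 2 * (i + 1) = m * (m + 1) := by
  induction m with
  | zero => simp
  | succ k ih => rw [Finset.sum_range_succ, ih]; ring

/-- (OPLUS) -/
theorem concl_pomega_plus (hp : p.Prime) (F : Type) [Field F] [Fintype F] [CharP F p] (m : ℕ) (hm : 4 ≤ m) :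
    Concl p (POmega F (quadFormPlus m F)) := by
  obtain ⟨f, hf, hq⟩ := card_eq_pow hp F
  have hcard := Cfsg.Agent.S0293.result (F := F) (q := Fintype.card F) rfl m hm
  have hq1 : 1 ≤ Fintype.card F := by rw [hq]; exact Nat.one_le_pow _ _ hp.pos
  have hA : ¬ p ∣ Fintype.card F ^ m - 1 := not_dvd_pow_sub_one hp hq hf (by omega)
  have hB : ¬ p ∣ ∏ i ∈ Finset.range (m - 1), (Fintype.card F ^ (2 * (i + 1)) - 1) :=
    not_dvd_prod_sub_one hp hq hf (fun i => 2 * (i + 1)) (fun i => by omega) (m - 1)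
  have hP : ¬ p ∣ (Fintype.card F ^ m - 1) *
      ∏ i ∈ Finset.range (m - 1), (Fintype.card F ^ (2 * (i + 1)) - 1) := by
    intro h
    rcases (Nat.Prime.dvd_mul hp).mp h with h | h
    · exact hA h
    · exact hB h
  have hd : ¬ p ∣ Nat.gcd 4 (Fintype.card F ^ m - 1) := fun h =>
    hA (h.trans (Nat.gcd_dvd_right _ _))
  have hdpos : 0 < Nat.gcd 4 (Fintype.card F ^ m - 1) := Nat.gcd_pos_of_pos_left _ (by norm_num)
  have hPpos : 0 < (Fintype.card F ^ m - 1) *
      ∏ i ∈ Finset.range (m - 1), (Fintype.card F ^ (2 * (i + 1)) - 1) := by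
    rcases Nat.eq_zero_or_pos ((Fintype.card F ^ m - 1) *
      ∏ i ∈ Finset.range (m - 1), (Fintype.card F ^ (2 * (i + 1)) - 1)) with h | h
    · exact absurd (h ▸ dvd_zero p) hP
    · exact h
  have h : Nat.gcd 4 (Fintype.card F ^ m - 1) * Nat.card (POmega F (quadFormPlus m F)) =
      p ^ (f * (m * (m - 1))) * ((Fintype.card F ^ m - 1) *
        ∏ i ∈ Finset.range (m - 1), (Fintype.card F ^ (2 * (i + 1)) - 1)) := by
    rw [hcard, mul_assoc]
    congr 1
    rw [hq, ← pow_mul]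
  have hcne : Nat.card (POmega F (quadFormPlus m F)) ≠ 0 := by
    intro h0
    rw [h0, mul_zero] at h
    have : 0 < p ^ (f * (m * (m - 1))) * ((Fintype.card F ^ m - 1) *
        ∏ i ∈ Finset.range (m - 1), (Fintype.card F ^ (2 * (i + 1)) - 1)) :=
      Nat.mul_pos (pow_pos hp.pos _) hPpos
    omega
  have hfin : Finite (POmega F (quadFormPlus m F)) := Nat.finite_of_card_ne_zero hcne
  refine concl_of_mul hp _ (f * (m * (m - 1))) _ h hd hP ?_
  have hlt1 : ∏ i ∈ Finset.range (m - 1), (Fintype.card F ^ (2 * (i + 1)) - 1) <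
      Fintype.card F ^ ((m - 1) * (m - 1 + 1)) := by
    have := prod_sub_one_lt hq1 (fun i => 2 * (i + 1)) (m := m - 1) (by omega)
    rwa [h19p_sum_two_mul] at this
  have hm1 : m - 1 + 1 = m := by omega
  rw [hm1] at hlt1
  have hlt2 : Fintype.card F ^ m - 1 ≤ Fintype.card F ^ m := Nat.sub_le _ _
  have hlt3 : (Fintype.card F ^ m - 1) *
      ∏ i ∈ Finset.range (m - 1), (Fintype.card F ^ (2 * (i + 1)) - 1) <
      Fintype.card F ^ m * Fintype.card F ^ ((m - 1) * m) := by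
    calc (Fintype.card F ^ m - 1) *
          ∏ i ∈ Finset.range (m - 1), (Fintype.card F ^ (2 * (i + 1)) - 1)
        ≤ Fintype.card F ^ m *
          ∏ i ∈ Finset.range (m - 1), (Fintype.card F ^ (2 * (i + 1)) - 1) :=
          Nat.mul_le_mul_right _ hlt2
      _ < Fintype.card F ^ m * Fintype.card F ^ ((m - 1) * m) :=
          Nat.mul_lt_mul_of_pos_left hlt1 (pow_pos hq1 _)
  obtain ⟨k, rfl⟩ : ∃ k, m = k + 4 := ⟨m - 4, by omega⟩
  have hk : k + 4 - 1 = k + 3 := by omega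
  rw [hk] at hlt3 ⊢
  calc ((Fintype.card F ^ (k + 4) - 1) *
        ∏ i ∈ Finset.range (k + 3), (Fintype.card F ^ (2 * (i + 1)) - 1)) ^ 3
      < (Fintype.card F ^ (k + 4) * Fintype.card F ^ ((k + 3) * (k + 4))) ^ 3 :=
        Nat.pow_lt_pow_left hlt3 (by norm_num)
    _ = Fintype.card F ^ (3 * ((k + 4) + (k + 3) * (k + 4))) := by
        rw [← pow_add, ← pow_mul]; congr 1; ring
    _ ≤ Fintype.card F ^ (5 * ((k + 4) * (k + 3))) := Nat.pow_le_pow_right hq1 (by nlinarith)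
    _ = p ^ (5 * (f * ((k + 4) * (k + 3)))) := by rw [hq, ← pow_mul]; congr 1; ring
    _ ≤ Nat.gcd 4 (Fintype.card F ^ (k + 4) - 1) ^ 3 * p ^ (5 * (f * ((k + 4) * (k + 3)))) :=
        Nat.le_mul_of_pos_left _ (pow_pos hdpos 3)

end Cfsg.Agent.Helper19.O3K
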