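import Mathlib

set_option autoImplicit false

namespace Cfsg.Agent.Helper19.O5760

open MulAction

universe u v

/-- An element `m` with `m ^ 5 = 1` normalizing `zpowers x`, `x` of order 3, centralizes `x`. -/
theorem h19_conj_eq_of_pow_five {G : Type u} [Group G] (m x : G) (hx : orderOf x = 3)
    (hm : m ^ 5 = 1) (h : m * x * m⁻¹ ∈ Subgroup.zpowers x) : m * x * m⁻¹ = x := by
  have hx3 : x ^ 3 = 1 := by rw [← hx]; exact pow_orderOf_eq_one x
  have hx1 : x ≠ 1 := by
    intro h1
    rw [h1, orderOf_one] at hx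
    omega
  obtain ⟨k, hk⟩ := Subgroup.mem_zpowers_iff.mp h
  have h3 : x ^ (k % 3) = m * x * m⁻¹ := by
    rw [← hk]
    have := zpow_mod_orderOf x k
    rw [hx] at this
    exact_mod_cast this
  have hcase : k % 3 = 0 ∨ k % 3 = 1 ∨ k % 3 = 2 := by omega
  rcases hcase with h0 | h1 | h2
  · exfalso
    rw [h0, zpow_zero] at h3
    apply hx1
    have : m * x = m := by
      have := congrArg (· * m) h3
      simpa using this.symm
    exact mul_eq_left.mp this |> fun h => h
  · rw [h1, zpow_one] at h3
    exact h3.symm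
  · exfalso
    rw [h2] at h3
    have h3' : m * x * m⁻¹ = x ^ 2 := by
      rw [← h3]; norm_cast
    have hA : m * x = x ^ 2 * m := by
      have := congrArg (· * m) h3'
      simpa using this
    have hB : m * x ^ 2 = x * m := by
      calc m * x ^ 2 = (m * x) * x := by rw [pow_two, mul_assoc]
        _ = x ^ 2 * (m * x) := by conv_lhs => rw [hA, mul_assoc]
        _ = x ^ 2 * x ^ 2 * m := by rw [hA, mul_assoc]
        _ = x ^ 3 * x * m := by
            congr 1
            rw [← pow_add, ← pow_succ]
        _ = x * m := by rw [hx3, one_mul]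
    have hC : Commute (m * m) x := by
      show m * m * x = x * (m * m)
      calc m * m * x = m * (m * x) := by rw [mul_assoc]
        _ = (m * x ^ 2) * m := by rw [hA, mul_assoc]
        _ = x * (m * m) := by rw [hB, mul_assoc]
    have hD : Commute ((m * m) ^ 3) x := hC.pow_left 3
    have hm6 : (m * m) ^ 3 = m := by
      calc (m * m) ^ 3 = m ^ 5 * m := by
            rw [← pow_two, ← pow_mul, ← pow_succ]
        _ = m := by rw [hm, one_mul]
    rw [hm6] at hD
    have hE : m * x * m⁻¹ = x := by
      rw [hD.eq, mul_assoc, mul_inv_cancel, mul_one]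
    rw [hE] at h3'
    -- x = x^2 → x = 1
    apply hx1
    have : x * 1 = x * x := by rw [mul_one, ← pow_two]; exact h3'
    exact (mul_left_cancel this).symm

/-- (B3) -/
theorem fix_R {G : Type u} [Group G] [Finite G] (R : Sylow 5 G) (hR : Nat.card (R : Subgroup G) = 5)
    (x : G) (hx : orderOf x = 3) (hxC : x ∈ Subgroup.centralizer ((R : Subgroup G) : Set G))
    (huniq : ∀ x' ∈ Subgroup.centralizer ((R : Subgroup G) : Set G), orderOf x' = 3 →
      x' ∈ Subgroup.zpowers x)
    (a : G ⧸ Subgroup.normalizer ((Subgroup.zpowers x : Subgroup G) : Set G))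
    (ha : ∀ r ∈ (R : Subgroup G), r • a = a) :
    a = ((1 : G) : G ⧸ Subgroup.normalizer ((Subgroup.zpowers x : Subgroup G) : Set G)) := by
  induction a using QuotientGroup.induction_on with
  | H g =>
    -- `g⁻¹ r g ∈ M` for all `r ∈ R`
    have hmem : ∀ r ∈ (R : Subgroup G),
        g⁻¹ * r * g ∈ Subgroup.normalizer ((Subgroup.zpowers x : Subgroup G) : Set G) := by
      intro r hr
      have h1 := ha r⁻¹ (inv_mem hr)
      rw [MulAction.Quotient.smul_mk, QuotientGroup.eq] at h1
      have : (r⁻¹ • g)⁻¹ * g = g⁻¹ * r * g := by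
        rw [smul_eq_mul, mul_inv_rev, inv_inv]
      rw [this] at h1
      exact h1
    have hpow : ∀ r ∈ (R : Subgroup G), r ^ 5 = 1 := by
      intro r hr
      have := pow_card_eq_one' (G := (R : Subgroup G)) (x := ⟨r, hr⟩)
      rw [hR] at this
      have h2 := congrArg Subtype.val this
      simpa using h2
    have hcomm : ∀ r ∈ (R : Subgroup G), (g⁻¹ * r * g) * x * (g⁻¹ * r * g)⁻¹ = x := by
      intro r hr
      apply h19_conj_eq_of_pow_five _ _ hx
      · have : (g⁻¹ * r * g) ^ 5 = g⁻¹ * r ^ 5 * g := by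
          have := conj_pow (a := g⁻¹) (b := r) (i := 5)
          rw [inv_inv] at this
          exact this
        rw [this, hpow r hr, mul_one, inv_mul_cancel]
      · have := (Subgroup.mem_normalizer_iff.mp (hmem r hr)) x
        exact this.mp (Subgroup.mem_zpowers x)
    -- `x' = g x g⁻¹ ∈ C(R)`
    have hx'C : g * x * g⁻¹ ∈ Subgroup.centralizer ((R : Subgroup G) : Set G) := by
      rw [Subgroup.mem_centralizer_iff]
      intro r hr
      have h1 := hcomm r hr
      -- (g⁻¹ r g) x (g⁻¹ r g)⁻¹ = x
      have h2 : g⁻¹ * r * g * x = x * (g⁻¹ * r * g) := by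
        have := congrArg (· * (g⁻¹ * r * g)) h1
        simpa [mul_assoc] using this
      calc r * (g * x * g⁻¹) = g * (g⁻¹ * r * g * x) * g⁻¹ := by group
        _ = g * (x * (g⁻¹ * r * g)) * g⁻¹ := by rw [h2]
        _ = g * x * g⁻¹ * r := by group
    have hx'o : orderOf (g * x * g⁻¹) = 3 := by
      have := MulEquiv.orderOf_eq (MulAut.conj g) x
      rw [MulAut.conj_apply] at this
      rw [this, hx]
    have hx'z : g * x * g⁻¹ ∈ Subgroup.zpowers x := huniq _ hx'C hx'o
    have hgM : g ∈ Subgroup.normalizer ((Subgroup.zpowers x : Subgroup G) : Set G) := by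
      apply Subgroup.mem_normalizer_fintype
      intro n hn
      obtain ⟨k, rfl⟩ := Subgroup.mem_zpowers_iff.mp hn
      have : g * x ^ k * g⁻¹ = (g * x * g⁻¹) ^ k := (conj_zpow).symm
      rw [this]
      exact zpow_mem hx'z k
    rw [QuotientGroup.eq]
    rw [mul_one]
    exact inv_mem hgM

end Cfsg.Agent.Helper19.O5760
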