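import Mathlib
import Cfsg.Prelude.Def_FusionSystem
import Cfsg.Agent.Lib.Helper87.Om7Defs

/-!
Piece (API1) of helper87's lemma server "OM7" (row S2647): the frame and the action.
-/

set_option autoImplicit false
set_option linter.unusedSectionVars false

namespace Cfsg.Agent.Helper19.Om7

open Matrix QuadraticMap Cfsg.Agent.Helper36.QuadInv Cfsg.Agent.Helper36.OmegaTrans
  Cfsg.Agent.Helper43 Cfsg.Agent.Helper87.Om7

variable {F : Type*} [Field F] [Fintype F] [DecidableEq F] {ι : Type} [Fintype ι] [DecidableEq ι]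
variable {Q : QuadraticForm F (ι → F)} {c : F} {f : Fin 7 → ι → F}

/-! ## (API1) the frame and the action -/

theorem frame_Q_ne (hF : Frame Q c f) (i : Fin 7) : Q (f i) ≠ 0 := by
  rw [hF.norm]; exact hF.c0

theorem frame_Q_sub (hF : Frame Q c f) {a b : Fin 7} (hab : a ≠ b) : Q (f a - f b) = 2 * c := by
  rw [sub_eq_add_neg, QuadraticMap.map_add Q (f a) (-(f b)), QuadraticMap.map_neg, polar_neg_right,
    hF.norm, hF.norm, hF.orth a b hab]
  ring

theorem frame_Q_sub_ne (hF : Frame Q c f) {a b : Fin 7} (hab : a ≠ b) : Q (f a - f b) ≠ 0 := by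
  rw [frame_Q_sub hF hab]; exact mul_ne_zero hF.two hF.c0

theorem frame_polar_self (hF : Frame Q c f) (i : Fin 7) : polar Q (f i) (f i) = 2 * c := by
  rw [polar_self, hF.norm]
  simp

theorem polar_sum_smul_right (x : ι → F) (a : Fin 7 → F) :
    polar Q x (∑ i, a i • f i) = ∑ i, a i * polar Q x (f i) := by
  rw [← polarBilin_apply_apply, map_sum]
  refine Finset.sum_congr rfl fun i _ => ?_
  rw [map_smul, polarBilin_apply_apply, smul_eq_mul]

theorem frame_polar_sum (hF : Frame Q c f) (a : Fin 7 → F) (j : Fin 7) :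
    polar Q (f j) (∑ i, a i • f i) = a j * (2 * c) := by
  rw [polar_sum_smul_right, Finset.sum_eq_single j]
  · rw [frame_polar_self hF]
  · intro i _ hij
    rw [hF.orth j i (Ne.symm hij), mul_zero]
  · intro h; exact absurd (Finset.mem_univ j) h

theorem frame_linearIndependent (hF : Frame Q c f) : LinearIndependent F f := by
  rw [Fintype.linearIndependent_iff]
  intro a ha j
  have h1 := frame_polar_sum hF a j
  rw [ha, polar_zero_right] at h1
  have h2c : (2 : F) * c ≠ 0 := mul_ne_zero hF.two hF.c0
  rcases mul_eq_zero.1 h1.symm with h | h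
  · exact h
  · exact absurd h h2c

theorem frame_span_eq_top (hF : Frame Q c f) : Submodule.span F (Set.range f) = ⊤ := by
  apply (frame_linearIndependent hF).span_eq_top_of_card_eq_finrank'
  rw [Module.finrank_fintype_fun_eq_card, hF.card, Fintype.card_fin]

theorem frame_coord_ext (hF : Frame Q c f) (v w : ι → F)
    (h : ∀ i, polar Q (f i) v = polar Q (f i) w) : v = w := by
  have h0 : ∀ z, polarBilin Q (v - w) z = 0 := by
    intro z
    have hz : z ∈ Submodule.span F (Set.range f) := by rw [frame_span_eq_top hF]; trivial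
    induction hz using Submodule.span_induction with
    | mem x hx =>
      obtain ⟨i, rfl⟩ := hx
      rw [polarBilin_apply_apply, polar_comm, polar_sub_right, h i, sub_self]
    | zero => rw [map_zero]
    | add x y _ _ hx hy => rw [map_add, hx, hy, add_zero]
    | smul a x _ hx => rw [map_smul, hx, smul_zero]
  exact sub_eq_zero.1 (hF.nd.1 _ h0)

/-- coordinates in the frame -/
theorem frame_repr (hF : Frame Q c f) (v : ι → F) :
    v = ∑ i, ((2 * c)⁻¹ * polar Q (f i) v) • f i := by
  apply frame_coord_ext hF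
  intro j
  rw [frame_polar_sum hF]
  have h2c : (2 : F) * c ≠ 0 := mul_ne_zero hF.two hF.c0
  rw [mul_comm ((2 * c)⁻¹), mul_assoc, inv_mul_cancel₀ h2c, mul_one]

/-- an isometry is determined by its values on the frame -/
theorem frame_ext (hF : Frame Q c f) (g h : OG F ⇑Q)
    (H : ∀ i, actHom (⇑Q) g (f i) = actHom (⇑Q) h (f i)) : g = h := by
  apply act_ext
  intro v
  rw [frame_repr hF v, map_sum, map_sum]
  refine Finset.sum_congr rfl fun i _ => ?_
  rw [map_smul, map_smul, H i]

theorem frame_injective (hF : Frame Q c f) (i j : Fin 7) (h : f i = f j ∨ f i = - f j) :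
    i = j := by
  by_contra hij
  have h0 := hF.orth i j hij
  have h2c : (2 : F) * c ≠ 0 := mul_ne_zero hF.two hF.c0
  rcases h with h | h
  · rw [h, frame_polar_self hF] at h0
    exact h2c h0
  · rw [h, polar_neg_left, frame_polar_self hF, neg_eq_zero] at h0
    exact h2c h0

theorem polar_act (g : OG F ⇑Q) (u v : ι → F) :
    polar Q (actHom (⇑Q) g u) (actHom (⇑Q) g v) = polar Q u v := by
  unfold polar
  rw [← (actHom (⇑Q) g).map_add u v, Q_act g (u + v), Q_act g u, Q_act g v]

theorem act_reflIso' {v : ι → F} (hv : Q v ≠ 0) (x : ι → F) :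
    actHom (⇑Q) (reflIso' Q v) x = x - ((Q v)⁻¹ * polar Q v x) • v := by
  rw [reflIso'_of_ne Q hv]
  exact act_reflIso Q hv x

end Cfsg.Agent.Helper19.Om7
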