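import Mathlib
import Cfsg.Prelude.Def_FusionSystem
import Cfsg.Agent.Lib.Helper87.Om7Defs

/-!
Piece (C4a) `refl_pair_eq` of helper87's lemma server "OM7" (row S2647): the product of the reflections
in an orthogonal basis of a plane depends only on the plane.
-/

set_option autoImplicit false
set_option linter.unusedSectionVars false

namespace Cfsg.Agent.Helper19.Om7

open Matrix QuadraticMap Cfsg.Agent.Helper36.QuadInv Cfsg.Agent.Helper36.OmegaTrans
  Cfsg.Agent.Helper43 Cfsg.Agent.Helper87.Om7

variable {F : Type*} [Field F] [Fintype F] [DecidableEq F] {ι : Type} [Fintype ι] [DecidableEq ι]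
variable {Q : QuadraticForm F (ι → F)} {c : F} {f : Fin 7 → ι → F}

/-- the "projection part" of the product of two orthogonal reflections -/
noncomputable def pairProj (Q : QuadraticForm F (ι → F)) (u v x : ι → F) : ι → F :=
  ((Q u)⁻¹ * polar Q u x) • u + ((Q v)⁻¹ * polar Q v x) • v

theorem refl_pair_act {u v : ι → F} (hu : Q u ≠ 0) (hv : Q v ≠ 0) (huv : polar Q u v = 0)
    (x : ι → F) :
    actHom (⇑Q) (reflIso' Q u * reflIso' Q v) x = x - pairProj Q u v x := by
  rw [act_mul, reflIso'_of_ne Q hv, reflIso'_of_ne Q hu, act_reflIso Q hv, act_reflIso Q hu,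
    polar_sub_right, polar_smul_right, huv]
  unfold pairProj
  simp only [smul_eq_mul, mul_zero, sub_zero]
  abel

theorem polar_pairProj_left {u v : ι → F} (h2 : (2 : F) ≠ 0) (hu : Q u ≠ 0)
    (huv : polar Q u v = 0) (x : ι → F) :
    polar Q u (pairProj Q u v x) = 2 * polar Q u x := by
  unfold pairProj
  rw [polar_add_right, polar_smul_right, polar_smul_right, huv, polar_self]
  simp only [smul_eq_mul, mul_zero, add_zero, nsmul_eq_mul, Nat.cast_ofNat]
  field_simp

theorem polar_pairProj_right {u v : ι → F} (h2 : (2 : F) ≠ 0) (hv : Q v ≠ 0)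
    (huv : polar Q u v = 0) (x : ι → F) :
    polar Q v (pairProj Q u v x) = 2 * polar Q v x := by
  unfold pairProj
  rw [polar_add_right, polar_smul_right, polar_smul_right, polar_comm Q v u, huv, polar_self]
  simp only [smul_eq_mul, mul_zero, zero_add, nsmul_eq_mul, Nat.cast_ofNat]
  field_simp

theorem pairProj_mem (u v x : ι → F) : pairProj Q u v x ∈ Submodule.span F {u, v} := by
  rw [Submodule.mem_span_pair]
  exact ⟨_, _, rfl⟩

/-- (C4a) the product of the reflections in an orthogonal basis of a plane depends only on the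
plane (it is `-1` on the plane and `1` on its orthogonal complement) -/
theorem refl_pair_eq (h2 : (2 : F) ≠ 0) (hQ : (polarBilin Q).Nondegenerate) {u v u' v' : ι → F}
    (hu : Q u ≠ 0) (hv : Q v ≠ 0) (hu' : Q u' ≠ 0) (hv' : Q v' ≠ 0) (huv : polar Q u v = 0)
    (huv' : polar Q u' v' = 0)
    (hspan : Submodule.span F {u, v} = Submodule.span F {u', v'}) :
    reflIso' Q u * reflIso' Q v = reflIso' Q u' * reflIso' Q v' := by
  apply act_ext
  intro x
  rw [refl_pair_act hu hv huv, refl_pair_act hu' hv' huv']
  congr 1
  -- `u`, `v` in terms of `u'`, `v'`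
  have hmu : u ∈ Submodule.span F {u', v'} := by
    rw [← hspan]; exact Submodule.subset_span (by simp)
  have hmv : v ∈ Submodule.span F {u', v'} := by
    rw [← hspan]; exact Submodule.subset_span (by simp)
  obtain ⟨a, b, hab⟩ := Submodule.mem_span_pair.1 hmu
  obtain ⟨a', b', hab'⟩ := Submodule.mem_span_pair.1 hmv
  -- the difference lies in the plane and is orthogonal to it
  set d := pairProj Q u v x - pairProj Q u' v' x with hd
  have hdmem : d ∈ Submodule.span F {u, v} := by
    apply Submodule.sub_mem _ (pairProj_mem u v x)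
    rw [hspan]; exact pairProj_mem u' v' x
  have hgen : ∀ w : ι → F, ∀ s t : F, s • u' + t • v' = w →
      polar Q w (pairProj Q u' v' x) = 2 * polar Q w x := by
    intro w s t hw
    rw [← hw, polar_add_left, polar_smul_left, polar_smul_left,
      polar_pairProj_left h2 hu' huv', polar_pairProj_right h2 hv' huv', polar_add_left,
      polar_smul_left, polar_smul_left]
    simp only [smul_eq_mul]
    ring
  have hdu : polar Q u d = 0 := by
    rw [hd, polar_sub_right, polar_pairProj_left h2 hu huv, hgen u a b hab, sub_self]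
  have hdv : polar Q v d = 0 := by
    rw [hd, polar_sub_right, polar_pairProj_right h2 hv huv, hgen v a' b' hab', sub_self]
  obtain ⟨α, β, hαβ⟩ := Submodule.mem_span_pair.1 hdmem
  have hα : α = 0 := by
    rw [← hαβ, polar_add_right, polar_smul_right, polar_smul_right, huv, polar_self] at hdu
    simp only [smul_eq_mul, mul_zero, add_zero, nsmul_eq_mul, Nat.cast_ofNat] at hdu
    rcases mul_eq_zero.1 hdu with h | h
    · exact h
    · exact absurd h (mul_ne_zero h2 hu)
  have hβ : β = 0 := by
    rw [← hαβ, polar_add_right, polar_smul_right, polar_smul_right, polar_comm Q v u, huv,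
      polar_self] at hdv
    simp only [smul_eq_mul, mul_zero, zero_add, nsmul_eq_mul, Nat.cast_ofNat] at hdv
    rcases mul_eq_zero.1 hdv with h | h
    · exact h
    · exact absurd h (mul_ne_zero h2 hv)
  have hd0 : d = 0 := by rw [← hαβ, hα, hβ, zero_smul, zero_smul, add_zero]
  exact sub_eq_zero.1 hd0

end Cfsg.Agent.Helper19.Om7
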