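import Mathlib
import Cfsg.Agent.S1140

/-!
# Quadratic maps on a finite field of characteristic 2
-/

set_option autoImplicit false

namespace Cfsg.Agent.Helper19

open Finset

section
variable {F : Type*} [Field F] [Fintype F] [CharP F 2] [Fintype (F ≃+* F)]
set_option linter.unusedSectionVars false

/-- linear independence of automorphisms, in sum form. -/
theorem aut_li (g : (F ≃+* F) → F) (h : ∀ x, ∑ σ : F ≃+* F, g σ * σ x = 0) : ∀ σ, g σ = 0 := by
  have hli := Fintype.linearIndependent_iff.mp (Cfsg.Agent.S1140.linIndep (F := F)) g (by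
    ext x
    simpa using h x)
  exact hli

/-- bilinear independence. -/
theorem aut_li2 (c : (F ≃+* F) → (F ≃+* F) → F)
    (h : ∀ x y, ∑ σ : F ≃+* F, ∑ τ : F ≃+* F, c σ τ * (σ x * τ y) = 0) : ∀ σ τ, c σ τ = 0 := by
  have h1 : ∀ y σ, ∑ τ : F ≃+* F, c σ τ * τ y = 0 := by
    intro y
    apply aut_li
    intro x
    rw [← h x y]
    apply sum_congr rfl
    intro σ _
    rw [sum_mul]
    apply sum_congr rfl
    intro τ _
    ring
  intro σ
  exact aut_li (c σ) (fun y => h1 y σ)

/-- the Frobenius as a ring automorphism. -/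
noncomputable def frA : F ≃+* F := frobeniusEquiv F 2

theorem frA_apply (x : F) : frA x = x ^ 2 := frobeniusEquiv_apply F 2 x

theorem frA_symm_sq (x : F) : (frA.symm x) * (frA.symm x) = x := by
  have := frA.apply_symm_apply x
  rw [frA_apply] at this
  rw [← sq]
  exact this

/-- diagonal independence. -/
theorem aut_li_diag (d : (F ≃+* F) → F)
    (h : ∀ x, ∑ σ : F ≃+* F, d σ * (σ x * σ x) = 0) : ∀ σ, d σ = 0 := by
  have h2 : ∀ x, ∑ ρ : F ≃+* F, d (ρ.trans frA.symm) * ρ x = 0 := by
    intro x
    rw [← h x]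
    let e : (F ≃+* F) ≃ (F ≃+* F) :=
      { toFun := fun ρ => ρ.trans frA.symm
        invFun := fun σ => σ.trans frA
        left_inv := by intro ρ; ext x; simp
        right_inv := by intro σ; ext x; simp }
    apply Fintype.sum_equiv e
    intro ρ
    have : ρ x = (e ρ) x * (e ρ) x := by
      change ρ x = frA.symm (ρ x) * frA.symm (ρ x)
      rw [frA_symm_sq]
    rw [this]
    rfl
  have h3 := aut_li _ h2
  intro σ
  have := h3 (σ.trans frA)
  have e : (σ.trans frA).trans frA.symm = σ := by ext x; simp
  rwa [e] at this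

end

theorem sum_split {R A : Type*} [AddCommMonoid R] [Fintype A] [DecidableEq A] (e : A → ℕ)
    (he : Function.Injective e) (f : A → A → R) :
    ∑ σ, ∑ τ, f σ τ
      = (∑ σ, ∑ τ, if e σ < e τ then f σ τ + f τ σ else 0) + ∑ σ, f σ σ := by
  have hpt : ∀ σ τ, f σ τ = (if e σ < e τ then f σ τ else 0) + (if e τ < e σ then f σ τ else 0)
      + (if σ = τ then f σ τ else 0) := by
    intro σ τ
    rcases lt_trichotomy (e σ) (e τ) with h | h | h
    · have hne : σ ≠ τ := fun h' => by rw [h'] at h; exact lt_irrefl _ h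
      rw [if_pos h, if_neg (not_lt_of_gt h), if_neg hne]; simp
    · have heq : σ = τ := he h
      subst heq
      simp
    · have hne : σ ≠ τ := fun h' => by rw [h'] at h; exact lt_irrefl _ h
      rw [if_neg (not_lt_of_gt h), if_pos h, if_neg hne]; simp
  have h1 : ∑ σ, ∑ τ, f σ τ
      = (∑ σ, ∑ τ, if e σ < e τ then f σ τ else 0) + (∑ σ, ∑ τ, if e τ < e σ then f σ τ else 0)
        + ∑ σ, ∑ τ, if σ = τ then f σ τ else 0 := by
    rw [← sum_add_distrib, ← sum_add_distrib]
    apply sum_congr rfl
    intro σ _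
    rw [← sum_add_distrib, ← sum_add_distrib]
    apply sum_congr rfl
    intro τ _
    exact hpt σ τ
  have h2 : (∑ σ, ∑ τ, if e τ < e σ then f σ τ else 0)
      = ∑ σ, ∑ τ, if e σ < e τ then f τ σ else 0 := by
    rw [sum_comm]
  have h3 : (∑ σ, ∑ τ, if σ = τ then f σ τ else 0) = ∑ σ, f σ σ := by
    apply sum_congr rfl
    intro σ _
    rw [sum_ite_eq]
    simp
  rw [h1, h2, h3, ← sum_add_distrib]
  congr 1
  apply sum_congr rfl
  intro σ _
  rw [← sum_add_distrib]
  apply sum_congr rfl
  intro τ _
  split_ifs <;> simp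

section Main
variable {F : Type*} [Field F] [Fintype F] [CharP F 2] [Fintype (F ≃+* F)]
  [DecidableEq (F ≃+* F)]

theorem char2_add_self (x : F) : x + x = 0 := CharTwo.add_self_eq_zero x

theorem char2_eq_of_add_eq_zero {x y : F} (h : x + y = 0) : x = y := by
  have : x = -y := eq_neg_of_add_eq_zero_left h
  rw [this, CharTwo.neg_eq]

theorem quad_main (q : F → F)
    (hq : ∀ x y z : F,
      q (x + y + z) + q (x + y) + q (x + z) + q (y + z) + q x + q y + q z = 0) :
    ∃ c : (F ≃+* F) → (F ≃+* F) → F, ∀ x, q x = ∑ σ, ∑ τ, c σ τ * (σ x * τ x) := by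
  have h2 : (2 : F) = 0 := CharTwo.two_eq_zero
  have hq0 : q 0 = 0 := by
    have := hq 0 0 0
    simp only [add_zero] at this
    linear_combination this - 3 * q 0 * h2
  -- the polar form
  set B : F → F → F := fun x y => q (x + y) + q x + q y with hB
  have Bsymm : ∀ x y, B x y = B y x := by
    intro x y
    simp only [hB]
    rw [add_comm x y]
    ring
  have Badd : ∀ x y z, B (x + y) z = B x z + B y z := by
    intro x y z
    simp only [hB]
    linear_combination hq x y z - (q (x + z) + q x + q (y + z) + q y + q z) * h2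
  have Badd' : ∀ x y z, B x (y + z) = B x y + B x z := by
    intro x y z
    rw [Bsymm x (y + z), Badd, Bsymm y x, Bsymm z x]
  have Bdiag : ∀ x, B x x = 0 := by
    intro x
    simp only [hB]
    rw [char2_add_self, hq0, zero_add, char2_add_self]
  let Bhom : F →+ F →+ F :=
    AddMonoidHom.mk' (fun x => AddMonoidHom.mk' (fun y => B x y) (Badd' x))
      (by intro x x'; ext y; exact Badd x x' y)
  obtain ⟨s, c0, hc0⟩ := (Cfsg.Agent.S1140.result (F := F)).2.2 Bhom
  -- coefficients on all pairs
  classical
  set c : (F ≃+* F) → (F ≃+* F) → F := fun σ τ => if (σ, τ) ∈ s then c0 (σ, τ) else 0 with hc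
  have Bexp : ∀ x y, B x y = ∑ σ, ∑ τ, c σ τ * (σ x * τ y) := by
    intro x y
    have := hc0 x y
    change B x y = _ at this
    rw [this, ← Fintype.sum_prod_type' (f := fun σ τ => c σ τ * (σ x * τ y))]
    simp only [hc]
    rw [← sum_filter_add_sum_filter_not univ (fun p : (F ≃+* F) × (F ≃+* F) => p ∈ s)]
    rw [sum_congr rfl (g := fun p => c0 p * (p.1 x * p.2 y))
      (s₁ := univ.filter (fun p : (F ≃+* F) × (F ≃+* F) => p ∈ s))]
    · rw [sum_eq_zero (s := univ.filter (fun p : (F ≃+* F) × (F ≃+* F) => ¬ p ∈ s)), add_zero]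
      · congr 1
        ext p
        simp
      · intro p hp
        rw [if_neg (mem_filter.1 hp).2, zero_mul]
    · intro p hp
      rw [if_pos (mem_filter.1 hp).2]
  -- symmetry of the coefficients
  have csymm : ∀ σ τ, c σ τ = c τ σ := by
    have := aut_li2 (fun σ τ => c σ τ - c τ σ) (by
      intro x y
      have e1 : ∑ σ : F ≃+* F, ∑ τ : F ≃+* F, (c σ τ - c τ σ) * (σ x * τ y)
          = (∑ σ : F ≃+* F, ∑ τ : F ≃+* F, c σ τ * (σ x * τ y))
            - ∑ σ : F ≃+* F, ∑ τ : F ≃+* F, c τ σ * (σ x * τ y) := by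
        rw [← sum_sub_distrib]
        apply sum_congr rfl
        intro σ _
        rw [← sum_sub_distrib]
        apply sum_congr rfl
        intro τ _
        ring
      have e2 : ∑ σ : F ≃+* F, ∑ τ : F ≃+* F, c τ σ * (σ x * τ y) = B y x := by
        rw [Bexp y x, sum_comm]
        apply sum_congr rfl
        intro σ _
        apply sum_congr rfl
        intro τ _
        ring
      rw [e1, e2, ← Bexp x y, Bsymm x y, sub_self])
    intro σ τ
    exact sub_eq_zero.1 (this σ τ)
  -- an injection into ℕ to order the automorphisms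
  let e : (F ≃+* F) → ℕ := fun σ => (Fintype.equivFin (F ≃+* F) σ : ℕ)
  have he : Function.Injective e := by
    intro σ τ h
    exact (Fintype.equivFin (F ≃+* F)).injective (Fin.ext h)
  -- diagonal coefficients vanish
  have cdiag : ∀ σ, c σ σ = 0 := by
    apply aut_li_diag
    intro x
    have h1 := Bexp x x
    rw [Bdiag, sum_split e he] at h1
    have h3 : (∑ σ : F ≃+* F, ∑ τ : F ≃+* F,
        if e σ < e τ then c σ τ * (σ x * τ x) + c τ σ * (τ x * σ x) else 0) = 0 := by
      apply sum_eq_zero
      intro σ _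
      apply sum_eq_zero
      intro τ _
      split_ifs
      · rw [csymm τ σ, mul_comm (τ x) (σ x)]
        exact char2_add_self _
      · rfl
    rw [h3, zero_add] at h1
    exact h1.symm
  -- the quadratic map with polar form `B`
  set q' : F → F := fun x => ∑ σ, ∑ τ, if e σ < e τ then c σ τ * (σ x * τ x) else 0 with hq'
  have hpolar : ∀ x y, q' (x + y) + q' x + q' y = B x y := by
    intro x y
    rw [Bexp x y, sum_split e he]
    have h3 : ∑ σ : F ≃+* F, c σ σ * (σ x * σ y) = 0 := by
      apply sum_eq_zero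
      intro σ _
      rw [cdiag, zero_mul]
    rw [h3, add_zero]
    simp only [hq']
    rw [← sum_add_distrib, ← sum_add_distrib]
    apply sum_congr rfl
    intro σ _
    rw [← sum_add_distrib, ← sum_add_distrib]
    apply sum_congr rfl
    intro τ _
    split_ifs
    · rw [csymm τ σ, map_add, map_add]
      linear_combination (c σ τ * σ x * τ x + c σ τ * σ y * τ y) * h2
    · simp
  -- the difference is additive
  have radd : ∀ x y, (q (x + y) + q' (x + y)) = (q x + q' x) + (q y + q' y) := by
    intro x y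
    apply char2_eq_of_add_eq_zero
    have h1 := hpolar x y
    have h4 : q (x + y) + q x + q y = B x y := rfl
    have : (q (x + y) + q' (x + y)) + ((q x + q' x) + (q y + q' y))
        = (q (x + y) + q x + q y) + (q' (x + y) + q' x + q' y) := by ring
    rw [this, h1, h4]
    exact char2_add_self _
  let rhom : F →+ F := AddMonoidHom.mk' (fun x => q x + q' x) radd
  obtain ⟨d, hd⟩ := Cfsg.Agent.S1140.exists_comb rhom
  -- assemble
  refine ⟨fun σ τ => (if e σ < e τ then c σ τ else 0)
    + (if σ = τ then d (σ.trans frA) else 0), ?_⟩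
  intro x
  have hx : q x = q' x + (q x + q' x) := by
    apply char2_eq_of_add_eq_zero
    have : q x + (q' x + (q x + q' x)) = (q x + q x) + (q' x + q' x) := by ring
    rw [this, char2_add_self, char2_add_self, add_zero]
  have hr : q x + q' x = ∑ σ : F ≃+* F, d σ * σ x := hd x
  rw [hx, hr]
  simp only [hq']
  have e3 : ∑ σ : F ≃+* F, d σ * σ x
      = ∑ σ : F ≃+* F, ∑ τ : F ≃+* F, (if σ = τ then d (σ.trans frA) else 0) * (σ x * τ x) := by
    have : ∀ σ : F ≃+* F, ∑ τ : F ≃+* F, (if σ = τ then d (σ.trans frA) else 0) * (σ x * τ x)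
        = d (σ.trans frA) * (σ x * σ x) := by
      intro σ
      rw [sum_eq_single σ]
      · simp
      · intro τ _ hne
        rw [if_neg (Ne.symm hne), zero_mul]
      · intro h; exact absurd (mem_univ σ) h
    rw [sum_congr rfl (fun σ _ => this σ)]
    let ee : (F ≃+* F) ≃ (F ≃+* F) :=
      { toFun := fun ρ => ρ.trans frA.symm
        invFun := fun σ => σ.trans frA
        left_inv := by intro ρ; ext x; simp
        right_inv := by intro σ; ext x; simp }
    apply Fintype.sum_equiv ee
    intro ρ
    have h5 : ρ x = (ee ρ) x * (ee ρ) x := by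
      change ρ x = frA.symm (ρ x) * frA.symm (ρ x)
      rw [frA_symm_sq]
    have h6 : (ee ρ).trans frA = ρ := by
      ext y
      change frA (frA.symm (ρ y)) = ρ y
      simp
    rw [h6, ← h5]
  rw [e3, ← sum_add_distrib]
  apply sum_congr rfl
  intro σ _
  rw [← sum_add_distrib]
  apply sum_congr rfl
  intro τ _
  split_ifs <;> ring

end Main

end Cfsg.Agent.Helper19
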