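import Mathlib

/-!
REE lemma server (helper36, S1069/S1091/S1073), piece (CELLS) `rank_one_cells`, by helper19.
-/

set_option autoImplicit false

namespace Cfsg.Agent.Helper19.REE

universe u

/-- (CELLS) -/
theorem rank_one_cells {M : Type u} [Group M] (T B N H U : Subgroup M) (n0 : M)
    (hUB : U ≤ B) (hHB : H ≤ B) (hHN : H ≤ N) (hn0N : n0 ∈ N) (hn0T : n0 ∈ T)
    (hHnorm : ∀ n ∈ N, ∀ h ∈ H, n * h * n⁻¹ ∈ H)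
    (hN : ∀ n ∈ N ⊓ T, n ∈ H ∨ n0 * n ∈ H)
    (hUNU : ∀ g ∈ T, ∃ u₁ ∈ U ⊓ T, ∃ n ∈ N ⊓ T, ∃ u ∈ U ⊓ T, g = u₁ * n * u) :
    ∀ g ∈ T, g ∈ B ∨ ∃ b ∈ B ⊓ T, ∃ u ∈ U ⊓ T, g = b * n0 * u := by
  intro g hg
  obtain ⟨u₁, hu₁, n, hn, u, hu, rfl⟩ := hUNU g hg
  have hinB : n ∈ H → u₁ * n * u ∈ B := fun hnH =>
    B.mul_mem (B.mul_mem (hUB hu₁.1) (hHB hnH)) (hUB hu.1)
  rcases hN n hn with hnH | hnH
  · exact Or.inl (hinB hnH)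
  rcases hN n0 ⟨hn0N, hn0T⟩ with h0 | h0
  · -- `n0 ∈ H`, so `n = n0⁻¹ * (n0 * n) ∈ H`
    left
    apply hinB
    have : n = n0⁻¹ * (n0 * n) := by group
    rw [this]
    exact H.mul_mem (H.inv_mem h0) hnH
  · right
    have h3 : n * n0⁻¹ ∈ H := by
      have e : n * n0⁻¹ = (n0 * n0)⁻¹ * (n0 * (n0 * n) * n0⁻¹) := by group
      rw [e]
      exact H.mul_mem (H.inv_mem h0) (hHnorm n0 hn0N _ hnH)
    have h3T : n * n0⁻¹ ∈ T := T.mul_mem hn.2 (T.inv_mem hn0T)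
    refine ⟨u₁ * (n * n0⁻¹), ⟨B.mul_mem (hUB hu₁.1) (hHB h3), T.mul_mem hu₁.2 h3T⟩, u, hu, ?_⟩
    group

end Cfsg.Agent.Helper19.REE
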