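import Mathlib

/-!
REE lemma server (helper36, S1069/S1091/S1073), piece (CORE) `fixed_bruhat`, by helper19.
-/

set_option autoImplicit false

namespace Cfsg.Agent.Helper19.REE

universe u

/-- (CORE) -/
theorem fixed_bruhat {M : Type u} [Group M] (Gr B N H U T : Subgroup M) (Um : M → Subgroup M) (s : M → M)
    (hs_mul : ∀ x ∈ Gr, ∀ y ∈ Gr, s (x * y) = s x * s y)
    (hBG : B ≤ Gr) (hNG : N ≤ Gr) (hTG : T ≤ Gr)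
    (hUB : U ≤ B) (hHB : H ≤ B) (hHN : H ≤ N)
    (hsB : ∀ x ∈ B, s x ∈ B) (hsN : ∀ x ∈ N, s x ∈ N) (hsU : ∀ x ∈ U, s x ∈ U)
    (hUmU : ∀ n ∈ N, Um n ≤ U)
    (hsUm : ∀ n ∈ N, ∀ x ∈ Um n, s x ∈ Um (s n))
    (hUmH : ∀ n ∈ N, ∀ h ∈ H, Um (n * h) = Um n)
    (hHnorm : ∀ n ∈ N, ∀ h ∈ H, n * h * n⁻¹ ∈ H)
    (hBUH : ∀ b ∈ B, ∃ u ∈ U, ∃ h ∈ H, b = u * h)
    (hUN : ∀ x ∈ U, x ∈ N → x = 1)
    (hBr : ∀ g ∈ Gr, ∃ b ∈ B, ∃ n ∈ N, ∃ u ∈ Um n, g = b * n * u)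
    (hUniq : ∀ b b' n n' u u' : M, b ∈ B → b' ∈ B → n ∈ N → n' ∈ N → u ∈ Um n → u' ∈ Um n' →
      b * n * u = b' * n' * u' → n⁻¹ * n' ∈ H ∧ (n = n' → b = b' ∧ u = u'))
    (hTfix : ∀ g ∈ T, s g = g)
    (hUT : ∀ x ∈ U, s x = x → x ∈ T) :
    ∀ g ∈ T, ∃ u₁ ∈ U ⊓ T, ∃ n ∈ N ⊓ T, ∃ u ∈ U ⊓ T, g = u₁ * n * u := by
  intro g hgT
  obtain ⟨b, hb, n, hn, u, hu, hg⟩ := hBr g (hTG hgT)
  have huU : u ∈ U := hUmU n hn hu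
  have hbG : b ∈ Gr := hBG hb
  have hnG : n ∈ Gr := hNG hn
  have huG : u ∈ Gr := hBG (hUB huU)
  -- apply `s`
  have hsg : b * n * u = s b * s n * s u := by
    rw [← hs_mul b hbG n hnG, ← hs_mul (b * n) (Gr.mul_mem hbG hnG) u huG, ← hg, hTfix g hgT]
  have hsb : s b ∈ B := hsB b hb
  have hsn : s n ∈ N := hsN n hn
  have hsu : s u ∈ Um (s n) := hsUm n hn u hu
  obtain ⟨hh0, -⟩ := hUniq b (s b) n (s n) u (s u) hb hsb hn hsn hu hsu hsg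
  have hsn' : s n = n * (n⁻¹ * s n) := by group
  have hUm : Um (s n) = Um n := by
    rw [hsn']
    exact hUmH n hn _ hh0
  have hsu' : s u ∈ Um n := hUm ▸ hsu
  have hb' : s b * (n * (n⁻¹ * s n) * n⁻¹) ∈ B := B.mul_mem hsb (hHB (hHnorm n hn _ hh0))
  have hsg' : b * n * u = s b * (n * (n⁻¹ * s n) * n⁻¹) * n * s u := by
    rw [hsg]
    group
  obtain ⟨-, h2⟩ := hUniq b (s b * (n * (n⁻¹ * s n) * n⁻¹)) n n u (s u) hb hb' hn hn hu hsu' hsg'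
  obtain ⟨-, hus⟩ := h2 rfl
  have huT : u ∈ T := hUT u huU hus.symm
  -- `b * n ∈ T`
  have hbnT : b * n ∈ T := by
    have : b * n = g * u⁻¹ := by rw [hg]; group
    rw [this]
    exact T.mul_mem hgT (T.inv_mem huT)
  obtain ⟨u₁, hu₁, h₁, hh₁, hbuh⟩ := hBUH b hb
  have hu₁G : u₁ ∈ Gr := hBG (hUB hu₁)
  have hh₁n : h₁ * n ∈ N := N.mul_mem (hHN hh₁) hn
  have hx : b * n = u₁ * (h₁ * n) := by rw [hbuh]; group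
  have hsx : u₁ * (h₁ * n) = s u₁ * s (h₁ * n) := by
    rw [← hs_mul u₁ hu₁G (h₁ * n) (hNG hh₁n), ← hx, hTfix _ hbnT]
  have hw : u₁⁻¹ * s u₁ = (h₁ * n) * (s (h₁ * n))⁻¹ := by
    have e1 : s u₁ = u₁ * (h₁ * n) * (s (h₁ * n))⁻¹ := by rw [hsx]; group
    rw [e1]
    group
  have hwU : u₁⁻¹ * s u₁ ∈ U := U.mul_mem (U.inv_mem hu₁) (hsU u₁ hu₁)
  have hwN : u₁⁻¹ * s u₁ ∈ N := by
    rw [hw]
    exact N.mul_mem hh₁n (N.inv_mem (hsN _ hh₁n))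
  have hw1 : u₁⁻¹ * s u₁ = 1 := hUN _ hwU hwN
  have hsu₁ : s u₁ = u₁ := by
    have := inv_mul_eq_one.1 hw1
    exact this.symm
  have hu₁T : u₁ ∈ T := hUT u₁ hu₁ hsu₁
  have hn'T : h₁ * n ∈ T := by
    have : h₁ * n = u₁⁻¹ * (b * n) := by rw [hx]; group
    rw [this]
    exact T.mul_mem (T.inv_mem hu₁T) hbnT
  refine ⟨u₁, ⟨hu₁, hu₁T⟩, h₁ * n, ⟨hh₁n, hn'T⟩, u, ⟨huU, huT⟩, ?_⟩
  rw [hg, hbuh]
  group

end Cfsg.Agent.Helper19.REE
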