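import Mathlib
import Cfsg.Prelude.Def_Characters
import Cfsg.Prelude.Def_Blocks
import Cfsg.Agent.Lib.Helper80.RMKDefs

/-!
# RMK (helper80 server, S4581), pieces GT1 and QNS: normalizers of Sylow subgroups in quotients.
-/

set_option autoImplicit false
set_option linter.style.haveILetI false

namespace Cfsg.Agent.Helper19.RMK

open Cfsg Cfsg.Agent.Helper80 Cfsg.Agent.Helper80.RMK
open scoped ComplexConjugate

universe u

/-- (GT1) normalizers of Sylow subgroups map onto normalizers in quotients -/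
theorem normalizer_map_eq {G : Type u} [Group G] [Finite G] (p : ℕ) [Fact p.Prime]
    (M : Subgroup G) [M.Normal] (P : Sylow p G) :
    Subgroup.normalizer (((P.mapSurjective (QuotientGroup.mk'_surjective M) :
        Sylow p (G ⧸ M)) : Subgroup (G ⧸ M)) : Set (G ⧸ M)) =
      (Subgroup.normalizer ((P : Subgroup G) : Set G)).map (QuotientGroup.mk' M) := by
  apply le_antisymm
  · intro gb hgb
    obtain ⟨g, rfl⟩ := QuotientGroup.mk'_surjective M gb
    obtain ⟨Pb, hPb⟩ : ∃ Pb : Subgroup (G ⧸ M), Pb = (P : Subgroup G).map (QuotientGroup.mk' M) :=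
      ⟨_, rfl⟩
    have hgb' : ∀ n : G ⧸ M, n ∈ Pb ↔ QuotientGroup.mk' M g * n * (QuotientGroup.mk' M g)⁻¹ ∈ Pb := by
      intro n
      rw [hPb]
      exact hgb n
    have hPH : (P : Subgroup G) ≤ Pb.comap (QuotientGroup.mk' M) := by
      rw [hPb]
      exact Subgroup.le_comap_map _ _
    have hgPH : ((g • P : Sylow p G) : Subgroup G) ≤ Pb.comap (QuotientGroup.mk' M) := by
      intro y hy
      rw [Sylow.coe_subgroup_smul, Subgroup.mem_smul_pointwise_iff_exists] at hy
      obtain ⟨x, hx, rfl⟩ := hy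
      rw [Subgroup.mem_comap, MulAut.smul_def, MulAut.conj_apply, map_mul, map_mul, map_inv]
      exact (hgb' _).mp (hPH hx)
    obtain ⟨h, hh⟩ := MulAction.exists_smul_eq ↥(Pb.comap (QuotientGroup.mk' M))
      (P.subtype hPH) ((g • P).subtype hgPH)
    rw [Sylow.smul_subtype] at hh
    have h1 : h • P = g • P := Sylow.subtype_injective hh
    have h2 : (g⁻¹ * (h : G)) • P = P := by
      rw [mul_smul, ← Subgroup.smul_def, h1, inv_smul_smul]
    have h3 : g⁻¹ * (h : G) ∈ Subgroup.normalizer ((P : Subgroup G) : Set G) :=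
      Sylow.smul_eq_iff_mem_normalizer.mp h2
    have hh' : ∀ Pc : Subgroup (G ⧸ M), Pb = Pc → QuotientGroup.mk' M (h : G) ∈ Pc := by
      intro Pc hPc
      rw [← hPc]
      exact h.2
    obtain ⟨x, hx, hxh⟩ := Subgroup.mem_map.mp (hh' _ hPb)
    refine Subgroup.mem_map.mpr ⟨x * (g⁻¹ * (h : G))⁻¹,
      Subgroup.mul_mem _ (Subgroup.le_normalizer hx) (Subgroup.inv_mem _ h3), ?_⟩
    rw [map_mul, hxh, ← map_mul]
    congr 1
    group
  · exact Subgroup.le_normalizer_map _

/-- (QNS) self-normalizing passes to quotients -/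
theorem self_normalizing_quotient {G : Type u} [Group G] [Finite G]
    (M : Subgroup G) [M.Normal] (P : Sylow 2 G)
    (hself : Subgroup.normalizer ((P : Subgroup G) : Set G) = (P : Subgroup G)) :
    Subgroup.normalizer (((P.mapSurjective (QuotientGroup.mk'_surjective M) :
        Sylow 2 (G ⧸ M)) : Subgroup (G ⧸ M)) : Set (G ⧸ M)) =
      ((P.mapSurjective (QuotientGroup.mk'_surjective M) : Sylow 2 (G ⧸ M)) :
        Subgroup (G ⧸ M)) := by
  rw [normalizer_map_eq, hself]
  rfl

end Cfsg.Agent.Helper19.RMK
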