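import Mathlib
import Cfsg.Prelude.Def_Characters
import Cfsg.Prelude.Def_Blocks
import Cfsg.Agent.Lib.Helper80.RMKDefs
import Cfsg.Agent.Lib.Helper80.RMKBasic
import Cfsg.Agent.Lib.Helper19.RMKGT1
import Cfsg.Agent.Lib.Helper42.RMKISO
import Cfsg.Agent.Lib.Helper42.RMKKERQ

/-!
# RMK (helper80 server, S4581), pieces QN, QGA, QNA: counting good characters of normalizers in
quotients (first isomorphism theorem + GT1 + ISO + KERQ of helper42).
-/

set_option autoImplicit false
set_option linter.style.haveILetI false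

namespace Cfsg.Agent.Helper19.RMK

open Cfsg Cfsg.Agent.Helper80 Cfsg.Agent.Helper80.RMK
open scoped ComplexConjugate

universe u

/-- (QN) the good characters of the normalizer of the image of `P` in `G ⧸ M` are the good
characters of `N_G(P)` trivial on `M ⊓ N_G(P)` -/
theorem cnt_normalizer_quotient (r : Bool) {G : Type u} [Group G] [Finite G]
    (M : Subgroup G) [M.Normal] (P : Sylow 2 G) :
    cnt r ↥(Subgroup.normalizer (((P.mapSurjective (QuotientGroup.mk'_surjective M) :
        Sylow 2 (G ⧸ M)) : Subgroup (G ⧸ M)) : Set (G ⧸ M))) =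
      Nat.card {ψ : IrrCharacter ↥(Subgroup.normalizer ((P : Subgroup G) : Set G)) //
        Good r ψ ∧ ∀ k : ↥(Subgroup.normalizer ((P : Subgroup G) : Set G)), (k : G) ∈ M →
          (ψ : ↥(Subgroup.normalizer ((P : Subgroup G) : Set G)) → ℂ) k =
            (ψ : ↥(Subgroup.normalizer ((P : Subgroup G) : Set G)) → ℂ) 1} := by
  have hker : ((QuotientGroup.mk' M).comp
      (Subgroup.normalizer ((P : Subgroup G) : Set G)).subtype).ker =
      M.subgroupOf (Subgroup.normalizer ((P : Subgroup G) : Set G)) := by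
    ext x
    rw [MonoidHom.mem_ker, Subgroup.mem_subgroupOf, MonoidHom.comp_apply, QuotientGroup.mk'_apply,
      QuotientGroup.eq_one_iff]
    rfl
  have hrange : ((QuotientGroup.mk' M).comp
      (Subgroup.normalizer ((P : Subgroup G) : Set G)).subtype).range =
      Subgroup.normalizer (((P.mapSurjective (QuotientGroup.mk'_surjective M) :
        Sylow 2 (G ⧸ M)) : Subgroup (G ⧸ M)) : Set (G ⧸ M)) := by
    rw [normalizer_map_eq, ← MonoidHom.map_range, Subgroup.range_subtype]
  rw [← Cfsg.Agent.Helper42.RMK.cnt_congr r ((QuotientGroup.quotientMulEquivOfEq hker.symm).trans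
      ((QuotientGroup.quotientKerEquivRange _).trans (MulEquiv.subgroupCongr hrange))),
    ← Cfsg.Agent.Helper42.RMK.cnt_quotient r (M.subgroupOf (Subgroup.normalizer ((P : Subgroup G) : Set G)))]
  rfl

/-- (QGA) the good characters of `T` trivial on `M` are the good characters of `T ⧸ M` -/
theorem cnt_quotient_sub (r : Bool) {G : Type u} [Group G] [Finite G] (M : Subgroup G)
    [hM : M.Normal] (T : Subgroup G) (hMT : M ≤ T) :
    Nat.card {ψ : IrrCharacter ↥T // Good r ψ ∧
        ∀ m : ↥M, (ψ : ↥T → ℂ) (Subgroup.inclusion hMT m) = (ψ : ↥T → ℂ) 1} =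
      cnt r (↥T ⧸ M.subgroupOf T) := by
  rw [← Cfsg.Agent.Helper42.RMK.cnt_quotient r (M.subgroupOf T)]
  refine Nat.card_congr (Equiv.subtypeEquivRight fun ψ => and_congr Iff.rfl ⟨?_, ?_⟩)
  · intro h k hk
    rw [Subgroup.mem_subgroupOf] at hk
    exact h ⟨(k : G), hk⟩
  · intro h m
    exact h _ (Subgroup.mem_subgroupOf.mpr m.2)

/-- (QNA) the good characters of the normalizer of the image of `P` in `T ⧸ M` are the good
characters of `N_G(P) ⊓ T` trivial on `M` -/
theorem cnt_normalizer_quotient_sub (r : Bool) {G : Type u} [Group G] [Finite G]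
    (M : Subgroup G) [hM : M.Normal] (P : Sylow 2 G) (T : Subgroup G)
    (hMP : M ≤ (P : Subgroup G)) (hPT : (P : Subgroup G) ≤ T) :
    cnt r ↥(Subgroup.normalizer ((((P.subtype hPT).mapSurjective
        (QuotientGroup.mk'_surjective (M.subgroupOf T)) : Sylow 2 (↥T ⧸ M.subgroupOf T)) :
        Subgroup (↥T ⧸ M.subgroupOf T)) : Set (↥T ⧸ M.subgroupOf T))) =
      Nat.card {ψ : IrrCharacter ↥(Subgroup.normalizer ((P : Subgroup G) : Set G) ⊓ T) //
        Good r ψ ∧ ∀ m : ↥M,
          (ψ : ↥(Subgroup.normalizer ((P : Subgroup G) : Set G) ⊓ T) → ℂ)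
            (Subgroup.inclusion (le_inf (le_trans hMP Subgroup.le_normalizer)
              (le_trans hMP hPT)) m) =
          (ψ : ↥(Subgroup.normalizer ((P : Subgroup G) : Set G) ⊓ T) → ℂ) 1} := by
  have hker : ((QuotientGroup.mk' (M.subgroupOf T)).comp
      (Subgroup.inclusion (inf_le_right :
        Subgroup.normalizer ((P : Subgroup G) : Set G) ⊓ T ≤ T))).ker =
      M.subgroupOf (Subgroup.normalizer ((P : Subgroup G) : Set G) ⊓ T) := by
    ext x
    rw [MonoidHom.mem_ker, Subgroup.mem_subgroupOf, MonoidHom.comp_apply, QuotientGroup.mk'_apply,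
      QuotientGroup.eq_one_iff, Subgroup.mem_subgroupOf]
    rfl
  have hrange : ((QuotientGroup.mk' (M.subgroupOf T)).comp
      (Subgroup.inclusion (inf_le_right :
        Subgroup.normalizer ((P : Subgroup G) : Set G) ⊓ T ≤ T))).range =
      Subgroup.normalizer ((((P.subtype hPT).mapSurjective
        (QuotientGroup.mk'_surjective (M.subgroupOf T)) : Sylow 2 (↥T ⧸ M.subgroupOf T)) :
        Subgroup (↥T ⧸ M.subgroupOf T)) : Set (↥T ⧸ M.subgroupOf T)) := by
    rw [normalizer_map_eq, Sylow.coe_subtype, ← Subgroup.subgroupOf_normalizer_eq hPT,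
      ← MonoidHom.map_range, Subgroup.inclusion_range, Subgroup.inf_subgroupOf_right]
  rw [← Cfsg.Agent.Helper42.RMK.cnt_congr r ((QuotientGroup.quotientMulEquivOfEq hker.symm).trans
      ((QuotientGroup.quotientKerEquivRange _).trans (MulEquiv.subgroupCongr hrange))),
    ← Cfsg.Agent.Helper42.RMK.cnt_quotient r
      (M.subgroupOf (Subgroup.normalizer ((P : Subgroup G) : Set G) ⊓ T))]
  refine Nat.card_congr (Equiv.subtypeEquivRight fun ψ => and_congr Iff.rfl ⟨?_, ?_⟩)
  · intro h m
    exact h _ (Subgroup.mem_subgroupOf.mpr m.2)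
  · intro h k hk
    rw [Subgroup.mem_subgroupOf] at hk
    exact h ⟨(k : G), hk⟩

end Cfsg.Agent.Helper19.RMK
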