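import Mathlib
import Cfsg.Prelude.Def_Characters
import Cfsg.Prelude.Def_Blocks
import Cfsg.Agent.Lib.Helper80.RMKDefs
import Cfsg.Agent.Lib.Helper80.RMKBasic
import Cfsg.Agent.Lib.Helper19.RMKGT1

/-!
# RMK (helper80 server, S4581), piece QNSA: self-normalizing passes to `T ⧸ M`.
-/

set_option autoImplicit false
set_option linter.style.haveILetI false

namespace Cfsg.Agent.Helper19.RMK

open Cfsg Cfsg.Agent.Helper80 Cfsg.Agent.Helper80.RMK
open scoped ComplexConjugate

universe u

/-- (QNSA) self-normalizing passes to `T ⧸ M` -/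
theorem self_normalizing_quotient_sub {G : Type u} [Group G] [Finite G]
    (M : Subgroup G) [hM : M.Normal] (P : Sylow 2 G) (T : Subgroup G)
    (hMP : M ≤ (P : Subgroup G)) (hPT : (P : Subgroup G) ≤ T)
    (hself : Subgroup.normalizer ((P : Subgroup G) : Set G) = (P : Subgroup G)) :
    Subgroup.normalizer ((((P.subtype hPT).mapSurjective
        (QuotientGroup.mk'_surjective (M.subgroupOf T)) : Sylow 2 (↥T ⧸ M.subgroupOf T)) :
        Subgroup (↥T ⧸ M.subgroupOf T)) : Set (↥T ⧸ M.subgroupOf T)) =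
      (((P.subtype hPT).mapSurjective
        (QuotientGroup.mk'_surjective (M.subgroupOf T)) : Sylow 2 (↥T ⧸ M.subgroupOf T)) :
        Subgroup (↥T ⧸ M.subgroupOf T)) := by
  apply self_normalizing_quotient (M.subgroupOf T) (P.subtype hPT)
  rw [Sylow.coe_subtype, ← Subgroup.subgroupOf_normalizer_eq hPT, hself]

end Cfsg.Agent.Helper19.RMK
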