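import Mathlib
import Cfsg.Prelude.Def_LieRecognition
import Cfsg.Agent.Lib.Helper19.RankOneCount
import Cfsg.Agent.S1123

set_option autoImplicit false

namespace Cfsg.Agent.Helper19

open MulAction
open scoped Pointwise

variable {G Ω : Type*} [Group G] [MulAction G Ω] {a : Ω} {t : G} {Q : Subgroup G}

/-- The set-up only depends on `t` through `t • a`. -/
theorem setup_of_swap (hS : Cfsg.IsRankOneSetup G Ω a t Q) {u : G} (hu2 : u * u = 1)
    (hua : u • a = t • a) : Cfsg.IsRankOneSetup G Ω a u Q where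
  two_transitive := hS.two_transitive
  mul_self := hu2
  ne_one := by
    intro e
    rw [e, one_smul] at hua
    exact ta_ne hS hua.symm
  not_mem := by
    intro e
    have : u • a = a := e
    rw [hua] at this
    exact ta_ne hS this
  le := hS.le
  conj_mem := hS.conj_mem
  inf_eq_bot := by rw [hua]; exact hS.inf_eq_bot
  sup_eq := by rw [hua]; exact hS.sup_eq
  even_card := hS.even_card
  odd_card := by rw [hua]; exact hS.odd_card

theorem pair_unique [Finite G] (hS : Cfsg.IsRankOneSetup G Ω a t Q) {s r s' r' : G}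
    (hs : s ∈ Cfsg.involutionsIn (stabilizer G a : Set G)) (hr : r ∈ Q)
    (h : t * s * t = r⁻¹ * t * r)
    (hs' : s' ∈ Cfsg.involutionsIn (stabilizer G a : Set G)) (hr' : r' ∈ Q)
    (h' : t * s' * t = r'⁻¹ * t * r') : s = s' ∧ r = r' := by
  have := (Cfsg.Agent.S1123.result hS).unique (y₁ := (s, r)) (y₂ := (s', r')) ⟨hs, hr, h⟩ ⟨hs', hr', h'⟩
  simpa using this

theorem pair_exists [Finite G] (hS : Cfsg.IsRankOneSetup G Ω a t Q) :
    ∃ s r : G, s ∈ Cfsg.involutionsIn (stabilizer G a : Set G) ∧ r ∈ Q ∧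
      t * s * t = r⁻¹ * t * r := by
  obtain ⟨p, hp, _⟩ := Cfsg.Agent.S1123.result hS
  exact ⟨p.1, p.2, hp⟩

theorem t_normalizes_D (hS : Cfsg.IsRankOneSetup G Ω a t Q) :
    ∀ d ∈ stabilizer G a ⊓ stabilizer G (t • a), t * d * t⁻¹ ∈ stabilizer G a ⊓ stabilizer G (t • a) := by
  intro d hd
  have htinv : t⁻¹ = t := inv_eq_self_of_mul_self hS.mul_self
  have hda : d • a = a := hd.1
  have hdb : d • (t • a) = t • a := hd.2
  rw [htinv]
  refine Subgroup.mem_inf.mpr ⟨?_, ?_⟩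
  · rw [mem_stabilizer_iff]
    simp only [mul_smul]
    rw [hdb, t_smul_ta hS]
  · rw [mem_stabilizer_iff]
    simp only [mul_smul]
    rw [t_smul_ta hS, hda]

theorem one_mem_inverted (hS : Cfsg.IsRankOneSetup G Ω a t Q) :
    (1 : G) ∈ Cfsg.invertedBy (stabilizer G a ⊓ stabilizer G (t • a)) t :=
  ⟨one_mem _, by simp⟩

/-- Conjugation of a fixed involution of `G_a` by the elements of `D` inverted by `t` is injective. -/
theorem inverted_conj_inj [Finite G] (hS : Cfsg.IsRankOneSetup G Ω a t Q) {s : G}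
    (hs : s ∈ Cfsg.involutionsIn (stabilizer G a : Set G)) {k k' : G}
    (hk : k ∈ Cfsg.invertedBy (stabilizer G a ⊓ stabilizer G (t • a)) t)
    (hk' : k' ∈ Cfsg.invertedBy (stabilizer G a ⊓ stabilizer G (t • a)) t)
    (h : k⁻¹ * s * k = k'⁻¹ * s * k') : k = k' := by
  have hmem : ∀ k ∈ Cfsg.invertedBy (stabilizer G a ⊓ stabilizer G (t • a)) t,
      k⁻¹ * s * k ∈ Cfsg.involutionsIn (stabilizer G a : Set G) := by
    intro k hk
    obtain ⟨hsa, hs1, hs2⟩ := hs
    refine ⟨?_, ?_, ?_⟩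
    · exact mul_mem (mul_mem (inv_mem hk.1.1) hsa) hk.1.1
    · intro e
      apply hs1
      have : s = k * (k⁻¹ * s * k) * k⁻¹ := by group
      rw [this, e]; group
    · have : (k⁻¹ * s * k) * (k⁻¹ * s * k) = k⁻¹ * (s * s) * k := by group
      rw [this, hs2]; group
  let f : (Cfsg.invertedBy (stabilizer G a ⊓ stabilizer G (t • a)) t) →
      (Cfsg.involutionsIn (stabilizer G a : Set G)) := fun k => ⟨_, hmem k.1 k.2⟩
  have hsurj : Function.Surjective f := by
    rintro ⟨s', hs'⟩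
    obtain ⟨k, hk, hks⟩ := inverted_trans hS hs hs'
    exact ⟨⟨k, hk⟩, Subtype.ext hks⟩
  have hbij := hsurj.bijective_of_nat_card_le (le_of_eq (card_inverted_eq hS))
  have := hbij.1 (a₁ := ⟨k, hk⟩) (a₂ := ⟨k', hk'⟩) (Subtype.ext h)
  exact congrArg Subtype.val this

theorem cent_t_le_cent_s [Finite G] (hS : Cfsg.IsRankOneSetup G Ω a t Q) {s r : G}
    (hs : s ∈ Cfsg.involutionsIn (stabilizer G a : Set G)) (hr : r ∈ Q)
    (h : t * s * t = r⁻¹ * t * r) {d : G}
    (hd : d ∈ (stabilizer G a ⊓ stabilizer G (t • a)) ⊓ Subgroup.centralizer {t}) :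
    s * d = d * s := by
  obtain ⟨hdD, hdt⟩ := Subgroup.mem_inf.mp hd
  have hdt' : t * d = d * t := (Subgroup.mem_centralizer_iff.mp hdt) t (Set.mem_singleton t)
  obtain ⟨hsa, hs1, hs2⟩ := hs
  have hs' : d * s * d⁻¹ ∈ Cfsg.involutionsIn (stabilizer G a : Set G) := by
    refine ⟨mul_mem (mul_mem hdD.1 hsa) (inv_mem hdD.1), ?_, ?_⟩
    · intro e
      apply hs1
      have : s = d⁻¹ * (d * s * d⁻¹) * d := by group
      rw [this, e]; group
    · have : (d * s * d⁻¹) * (d * s * d⁻¹) = d * (s * s) * d⁻¹ := by group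
      rw [this, hs2]; group
  have hr' : d * r * d⁻¹ ∈ Q := hS.conj_mem d hdD.1 r hr
  have hdt'' : d⁻¹ * t = t * d⁻¹ := by
    have : d⁻¹ * t = d⁻¹ * (t * d) * d⁻¹ := by group
    rw [this, hdt']; group
  have hrel : t * (d * s * d⁻¹) * t = (d * r * d⁻¹)⁻¹ * t * (d * r * d⁻¹) := by
    have e1 : t * (d * s * d⁻¹) * t = (t * d) * s * (d⁻¹ * t) := by group
    rw [e1, hdt', hdt'']
    have e2 : d * t * s * (t * d⁻¹) = d * (t * s * t) * d⁻¹ := by group
    rw [e2, h]
    have e3 : (d * r * d⁻¹)⁻¹ * t * (d * r * d⁻¹) = d * r⁻¹ * (d⁻¹ * t) * d * r * d⁻¹ := by group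
    rw [e3, hdt'']; group
  have := (pair_unique hS ⟨hsa, hs1, hs2⟩ hr h hs' hr' hrel).1
  have e : d * s = (d * s * d⁻¹) * d := by group
  rw [e, ← this]

/-- `C_D(t) = C_D(s)` for the distinguished involution `s`. -/
theorem cent_t_eq_cent_s [Finite G] (hS : Cfsg.IsRankOneSetup G Ω a t Q) {s r : G}
    (hs : s ∈ Cfsg.involutionsIn (stabilizer G a : Set G)) (hr : r ∈ Q)
    (h : t * s * t = r⁻¹ * t * r) :
    (stabilizer G a ⊓ stabilizer G (t • a)) ⊓ Subgroup.centralizer {t} =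
      (stabilizer G a ⊓ stabilizer G (t • a)) ⊓ Subgroup.centralizer {s} := by
  apply le_antisymm
  · intro d hd
    refine Subgroup.mem_inf.mpr ⟨(Subgroup.mem_inf.mp hd).1, ?_⟩
    rw [Subgroup.mem_centralizer_iff]
    intro y hy
    rw [Set.mem_singleton_iff] at hy
    rw [hy]
    exact cent_t_le_cent_s hS hs hr h hd
  · intro d hd
    obtain ⟨hdD, hds⟩ := Subgroup.mem_inf.mp hd
    have hds' : s * d = d * s := (Subgroup.mem_centralizer_iff.mp hds) s (Set.mem_singleton s)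
    obtain ⟨p, ⟨hp1, hp2, hp3⟩, _⟩ :=
      odd_factor hS.mul_self hS.odd_card (t_normalizes_D hS) hdD
    have hc := cent_t_le_cent_s hS hs hr h hp1
    -- `p.2` commutes with `s`
    have hk : p.2⁻¹ * s * p.2 = (1 : G)⁻¹ * s * 1 := by
      have e1 : p.2 = p.1⁻¹ * d := by rw [hp3]; group
      rw [e1]
      have e2 : (p.1⁻¹ * d)⁻¹ * s * (p.1⁻¹ * d) = d⁻¹ * (p.1 * s) * p.1⁻¹ * d := by group
      rw [e2, ← hc]
      have e3 : d⁻¹ * (s * p.1) * p.1⁻¹ * d = d⁻¹ * (s * d) := by group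
      rw [e3, hds']; group
    have := inverted_conj_inj hS hs hp2 (one_mem_inverted hS) hk
    rw [this, mul_one] at hp3
    rw [hp3]
    exact hp1

end Cfsg.Agent.Helper19
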