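import Mathlib
import Cfsg.Agent.Lib.Helper64.S4017Defs
import Cfsg.Agent.Lib.Helper60.S4017PGN
import Cfsg.Agent.Lib.Helper30.S4017C2

/-!
# S4017M (helper64 server), piece C3, core: case C is impossible for `a ≥ 3`
(with (C1) `eigen_generate` passed as a hypothesis; (C2) from helper30, (PGN) from helper60).
-/

set_option autoImplicit false

namespace Cfsg.Agent.Helper19.S4017M

open Cfsg.Agent.Helper64.S4017 Cfsg.Agent.Helper60.S4017M

variable {G : Type*} [Group G] [Finite G] {a p : ℕ} {Q : Subgroup G} {x : G}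

omit [Finite G] in
/-- conjugation by `g` preserves `closure S` if it maps `S` into `closure S`. -/
theorem h19_conj_closure_mem {S : Set G} {g : G}
    (hS : ∀ w ∈ S, g * w * g⁻¹ ∈ Subgroup.closure S) :
    ∀ e ∈ Subgroup.closure S, g * e * g⁻¹ ∈ Subgroup.closure S := by
  intro e he
  induction he using Subgroup.closure_induction with
  | mem w hw => exact hS w hw
  | one => simp
  | mul a b _ _ iha ihb =>
    have e1 : g * (a * b) * g⁻¹ = (g * a * g⁻¹) * (g * b * g⁻¹) := by group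
    rw [e1]
    exact Subgroup.mul_mem _ iha ihb
  | inv a _ iha =>
    have e1 : g * a⁻¹ * g⁻¹ = (g * a * g⁻¹)⁻¹ := by group
    rw [e1]
    exact Subgroup.inv_mem _ iha

omit [Finite G] in
/-- a subgroup generated by pairwise commuting elements is abelian. -/
theorem h19_closure_comm {S : Set G} (hS : ∀ w ∈ S, ∀ w' ∈ S, w * w' = w' * w) :
    ∀ e ∈ Subgroup.closure S, ∀ e' ∈ Subgroup.closure S, e * e' = e' * e := by
  have h1 : ∀ w ∈ S, ∀ e' ∈ Subgroup.closure S, w * e' = e' * w := by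
    intro w hw e' he'
    have h2 : Subgroup.closure S ≤ Subgroup.centralizer {w} := by
      rw [Subgroup.closure_le]
      intro v hv
      rw [SetLike.mem_coe, Subgroup.mem_centralizer_iff]
      intro k hk
      rw [Set.mem_singleton_iff] at hk
      rw [hk]
      exact hS w hw v hv
    have h3 := h2 he'
    rw [Subgroup.mem_centralizer_iff] at h3
    exact h3 w rfl
  intro e he e' he'
  have h2 : Subgroup.closure S ≤ Subgroup.centralizer {e'} := by
    rw [Subgroup.closure_le]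
    intro v hv
    rw [SetLike.mem_coe, Subgroup.mem_centralizer_iff]
    intro k hk
    rw [Set.mem_singleton_iff] at hk
    rw [hk]
    exact (h1 v hv e' he').symm
  have h3 := h2 he
  rw [Subgroup.mem_centralizer_iff] at h3
  exact (h3 e' rfl).symm

omit [Finite G] in
/-- an abelian subgroup generated by `p`-elements consists of `p`-elements. -/
theorem h19_closure_isPel (hp : p.Prime) {S : Set G}
    (hcomm : ∀ e ∈ Subgroup.closure S, ∀ e' ∈ Subgroup.closure S, e * e' = e' * e)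
    (hS : ∀ w ∈ S, IsPel p w) : ∀ e ∈ Subgroup.closure S, IsPel p e := by
  intro e he
  induction he using Subgroup.closure_induction with
  | mem w hw => exact hS w hw
  | one => exact ⟨0, by simp⟩
  | mul a b ha hb iha ihb =>
    obtain ⟨i, hi⟩ := iha
    obtain ⟨j, hj⟩ := ihb
    have hc : Commute a b := hcomm a ha b hb
    have h1 : (a * b) ^ (p ^ (i + j)) = 1 := by
      rw [hc.mul_pow, pow_add, pow_mul, ← hi, pow_orderOf_eq_one, one_pow, mul_comm (orderOf a),
        pow_mul, ← hj, pow_orderOf_eq_one, one_pow, one_mul]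
    obtain ⟨k, _, hk⟩ := (Nat.dvd_prime_pow hp).mp (orderOf_dvd_of_pow_eq_one h1)
    exact ⟨k, hk⟩
  | inv a _ iha =>
    obtain ⟨i, hi⟩ := iha
    exact ⟨i, by rw [orderOf_inv, hi]⟩

/-- (C3), with (C1) as a hypothesis. -/
theorem false_of_three_le_core
    (hC1 : ∀ Z : Subgroup G, (∀ z ∈ Z, ∀ z' ∈ Z, z * z' = z' * z) →
      (∀ s ∈ Q, ∀ z ∈ Z, s * z * s⁻¹ ∈ Z) → (∀ z ∈ Z, Odd (orderOf z)) →
      Z ≤ Subgroup.closure {w | w ∈ Z ∧ IsEig Q w})
    (h : Setting a p Q x) (T : Tools a p Q x) (h3 : 3 ≤ a)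
    (hP1 : ¬ P1ne p Q)
    (hZ : ∃ t ∈ Q, t ≠ 1 ∧ ∃ z : G, z ≠ 1 ∧ IsPel p z ∧ z * t = t * z) : False := by
  have hp := h.prime
  have hp2 : p ≠ 2 := aux_p_ne_two h
  have hQc := aux_Q_comm h
  obtain ⟨S, hSdef⟩ : ∃ S : Set G, S = {w | IsPel p w ∧ IsEig Q w} := ⟨_, rfl⟩
  have hSmem : ∀ w, w ∈ S ↔ (IsPel p w ∧ IsEig Q w) := by
    intro w; rw [hSdef]; exact Iff.rfl
  -- (1) abelian
  have hcomm : ∀ e ∈ Subgroup.closure S, ∀ e' ∈ Subgroup.closure S, e * e' = e' * e :=
    h19_closure_comm (fun w hw w' hw' =>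
      Cfsg.Agent.Helper30.S4017M.eig_comm h T h3 ((hSmem w).mp hw).1 ((hSmem w').mp hw').1
        ((hSmem w).mp hw).2 ((hSmem w').mp hw').2)
  -- (2) p-group
  have hpel : ∀ e ∈ Subgroup.closure S, IsPel p e :=
    h19_closure_isPel hp hcomm (fun w hw => ((hSmem w).mp hw).1)
  -- (3) normalised by Q
  have hQn : ∀ s ∈ Q, ∀ e ∈ Subgroup.closure S, s * e * s⁻¹ ∈ Subgroup.closure S := by
    intro s hs
    apply h19_conj_closure_mem
    intro w hw
    rcases ((hSmem w).mp hw).2 s hs with e1 | e1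
    · rw [e1]; exact Subgroup.subset_closure hw
    · rw [e1]; exact Subgroup.inv_mem _ (Subgroup.subset_closure hw)
  -- (4) normalised by x
  have hxinv := aux_inv_conj_mem (H := Q) (g := x) h.x_norm
  have hxn : ∀ e ∈ Subgroup.closure S, x * e * x⁻¹ ∈ Subgroup.closure S := by
    apply h19_conj_closure_mem
    intro w hw
    apply Subgroup.subset_closure
    rw [hSmem]
    refine ⟨aux_isPel_conj x ((hSmem w).mp hw).1, ?_⟩
    intro s hs
    have hs' := hxinv s hs
    have e0 : s * (x * w * x⁻¹) * s⁻¹ = x * ((x⁻¹ * s * x) * w * (x⁻¹ * s * x)⁻¹) * x⁻¹ := by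
      group
    rcases ((hSmem w).mp hw).2 _ hs' with e1 | e1
    · left; rw [e0, e1]
    · right; rw [e0, e1]; group
  -- (5) PGN
  have hcent := Setting.pgroup_normalized h T (Subgroup.closure S) hpel hQn hxn
  -- (6) trivial
  have htriv : ∀ e ∈ Subgroup.closure S, e = 1 := by
    intro e he
    by_contra he1
    exact hP1 ⟨e, he1, hpel e he, hcent e he⟩
  -- (7) contradiction
  obtain ⟨t, ht, ht1, z, hz1, hzp, hzt⟩ := hZ
  obtain ⟨Z, hZmem, hZab⟩ := T.ct t ht ht1
  have hnorm : ∀ s ∈ Q, ∀ z ∈ Z, s * z * s⁻¹ ∈ Z := by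
    intro s hs z' hz'
    rw [hZmem] at hz' ⊢
    refine ⟨?_, aux_isPel_conj s hz'.2⟩
    have hst : s * t = t * s := hQc s hs t ht
    have hst' : s⁻¹ * t = t * s⁻¹ := by
      rw [eq_mul_inv_iff_mul_eq, mul_assoc, ← hst, ← mul_assoc, inv_mul_cancel, one_mul]
    calc s * z' * s⁻¹ * t = s * z' * (s⁻¹ * t) := by group
      _ = s * z' * (t * s⁻¹) := by rw [hst']
      _ = s * (z' * t) * s⁻¹ := by group
      _ = s * (t * z') * s⁻¹ := by rw [hz'.1]
      _ = (s * t) * z' * s⁻¹ := by group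
      _ = (t * s) * z' * s⁻¹ := by rw [hst]
      _ = t * (s * z' * s⁻¹) := by group
  have hodd : ∀ z ∈ Z, Odd (orderOf z) := by
    intro z' hz'
    obtain ⟨j, hj⟩ := ((hZmem z').mp hz').2
    rw [hj]
    exact (hp.odd_of_ne_two hp2).pow
  have hle := hC1 Z hZab hnorm hodd
  have hzZ : z ∈ Z := (hZmem z).mpr ⟨hzt, hzp⟩
  have hzE : z ∈ Subgroup.closure S := by
    refine Subgroup.closure_mono ?_ (hle hzZ)
    intro w hw
    rw [hSmem]
    exact ⟨((hZmem w).mp hw.1).2, hw.2⟩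
  exact hz1 (htriv z hzE)

end Cfsg.Agent.Helper19.S4017M
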