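import Mathlib
import Cfsg.Agent.Lib.Helper64.S4017Defs
import Cfsg.Agent.Lib.Helper19.S4017C3core
import Cfsg.Agent.Lib.Helper90.S4017C1

/-!
# S4017M (helper64 server), piece C3: case C is impossible for `a ≥ 3`
((C1) helper90, (C2) helper30, (PGN) helper60).
-/

set_option autoImplicit false

namespace Cfsg.Agent.Helper19.S4017M

open Cfsg.Agent.Helper64.S4017

variable {G : Type*} [Group G] [Finite G] {a p : ℕ} {Q : Subgroup G} {x : G}

/-- (C3) `E = ⟨p-elements that are eigenvectors⟩` is abelian (C2), a `p`-group, normalised by `Q`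
and `x`, so centralises `Q` (PGN), so is trivial; but `Z_t ≤ E` by (C1). -/
theorem false_of_three_le (h : Setting a p Q x) (T : Tools a p Q x) (h3 : 3 ≤ a)
    (hP1 : ¬ P1ne p Q)
    (hZ : ∃ t ∈ Q, t ≠ 1 ∧ ∃ z : G, z ≠ 1 ∧ IsPel p z ∧ z * t = t * z) : False :=
  false_of_three_le_core (fun Z hZab hnorm hodd =>
    Cfsg.Agent.Helper90.S4017M.eigen_generate Z Q hZab (Cfsg.Agent.Helper60.S4017M.aux_Q_comm h)
      h.elem hnorm hodd) h T h3 hP1 hZ

end Cfsg.Agent.Helper19.S4017M
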