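import Mathlib
import Cfsg.Agent.Lib.Helper64.S4017Defs

/-!
# S4017M (helper64 server), piece SYLC: `C(y)` is a Sylow `p`-subgroup.
-/

set_option autoImplicit false

namespace Cfsg.Agent.Helper19.S4017M

open Cfsg.Agent.Helper64.S4017

variable {G : Type*} [Group G] [Finite G] {a p : ℕ} {Q : Subgroup G} {x : G}

/-- (SYLC) if `u` inverts the `p`-element `y ≠ 1` and no involution centralises `y`, then `C(y)` is
a Sylow `p`-subgroup: `C(y)⟨u⟩` is a proper subgroup of even order. -/
theorem centralizer_eq_sylow (h : Setting a p Q x) {u y : G} (hu : IsInv u)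
    (hy : IsPel p y) (hy1 : y ≠ 1) (huy : u * y * u⁻¹ = y⁻¹)
    (hodd : ∀ s : G, IsInv s → s * y ≠ y * s) :
    ∃ P : Sylow p G, (P : Subgroup G) = Subgroup.centralizer {y} := by
  classical
  have hp := h.prime
  have : Fact p.Prime := ⟨hp⟩
  have : Fact (Nat.Prime 2) := ⟨Nat.prime_two⟩
  obtain ⟨N, hN⟩ : ∃ N : Subgroup G, N = Subgroup.normalizer (Subgroup.zpowers y : Set G) :=
    ⟨_, rfl⟩
  have huN : u ∈ N := by
    rw [hN]
    apply Subgroup.mem_normalizer_fintype
    intro n hn
    rw [SetLike.mem_coe, Subgroup.mem_zpowers_iff] at hn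
    obtain ⟨k, rfl⟩ := hn
    rw [SetLike.mem_coe, ← conj_zpow, huy]
    exact Subgroup.zpow_mem _ (Subgroup.inv_mem _ (Subgroup.mem_zpowers y)) k
  have hCN : Subgroup.centralizer {y} ≤ N := by
    intro g hg
    rw [hN]
    apply Subgroup.mem_normalizer_fintype
    intro n hn
    rw [SetLike.mem_coe, Subgroup.mem_zpowers_iff] at hn
    obtain ⟨k, rfl⟩ := hn
    rw [Subgroup.mem_centralizer_iff] at hg
    have h1 : y * g = g * y := hg y rfl
    have h2 : g * y * g⁻¹ = y := by rw [← h1, mul_inv_cancel_right]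
    rw [SetLike.mem_coe, ← conj_zpow, h2]
    exact Subgroup.zpow_mem _ (Subgroup.mem_zpowers y) k
  have hNtop : N ≠ ⊤ := by
    intro htop
    rw [hN, Subgroup.normalizer_eq_top_iff] at htop
    have := h.simple
    rcases htop.eq_bot_or_eq_top with hb | ht
    · exact hy1 (Subgroup.zpowers_eq_bot.mp hb)
    · have hu' : u ∈ Subgroup.zpowers y := by rw [ht]; exact Subgroup.mem_top u
      rw [Subgroup.mem_zpowers_iff] at hu'
      obtain ⟨k, rfl⟩ := hu'
      exact hodd _ hu ((Commute.zpow_self y k).eq)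
  have hu2 : orderOf u = 2 := orderOf_eq_prime (by rw [pow_two]; exact hu.2) hu.1
  have h2N : 2 ∣ Nat.card N := by
    rw [← hu2]
    exact Subgroup.orderOf_dvd_natCard N huN
  have hord := h.star N hNtop h2N
  have hCdvd : Nat.card (Subgroup.centralizer {y}) ∣ Nat.card N := Subgroup.card_dvd_of_le hCN
  have h2C : ¬ 2 ∣ Nat.card (Subgroup.centralizer ({y} : Set G)) := by
    intro hd
    obtain ⟨s, hs⟩ := exists_prime_orderOf_dvd_card' 2 hd
    have hs1 : (s : G) ≠ 1 := by
      intro e
      have : s = 1 := Subtype.ext e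
      rw [this, orderOf_one] at hs
      omega
    have hs2 : (s : G) * (s : G) = 1 := by
      have h1 : s ^ 2 = 1 := by rw [← hs]; exact pow_orderOf_eq_one s
      have h2 := congrArg Subtype.val h1
      simpa [pow_two] using h2
    have hsy := s.2
    rw [Subgroup.mem_centralizer_iff] at hsy
    exact hodd (s : G) ⟨hs1, hs2⟩ (hsy y rfl).symm
  have hCp : IsPGroup p (Subgroup.centralizer ({y} : Set G)) := by
    have hne : Nat.card (Subgroup.centralizer ({y} : Set G)) ≠ 0 := Nat.card_pos.ne'
    have h3 := Nat.eq_prime_pow_of_unique_prime_dvd (p := p) hne (by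
      intro d hd hdvd
      rcases hord d hd (hdvd.trans hCdvd) with rfl | rfl
      · exact absurd hdvd h2C
      · rfl)
    exact IsPGroup.of_card h3
  obtain ⟨P, hP⟩ := hCp.exists_le_sylow
  refine ⟨P, le_antisymm ?_ hP⟩
  intro g hg
  have hyC : y ∈ Subgroup.centralizer ({y} : Set G) := by
    rw [Subgroup.mem_centralizer_iff]
    intro k hk
    rw [Set.mem_singleton_iff] at hk
    rw [hk]
  rw [Subgroup.mem_centralizer_iff]
  intro k hk
  rw [Set.mem_singleton_iff] at hk
  rw [hk]
  exact h.abel P y (hP hyC) g hg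

end Cfsg.Agent.Helper19.S4017M
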