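import Mathlib
import Cfsg.Agent.Lib.Helper31.SCHDefs

/-!
# SCH (helper31 server, S4394), piece G2a: `L ⊓ C_G(Y) ≤ Y` when `O_{p'}(G) = 1`
(Burnside's transfer theorem in `C = L ⊓ C_G(Y)`, whose Sylow `p`-subgroup `Y` is central).
-/

set_option autoImplicit false

namespace Cfsg.Agent.Helper19.SCH
open Cfsg Cfsg.Agent.Helper31.SCH

variable {G : Type*} [Group G] [Finite G] {p : ℕ} [Fact p.Prime]

/-- (G2a) [M-L] `C = L ⊓ centralizer Y` is normal in `G`, `Y ≤ Z(C)` is a central Sylow `p`-subgroup of `C`;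
Burnside's transfer theorem (`MonoidHom.ker_transferSylow_isComplement'`) or Schur–Zassenhaus gives a
normal `p`-complement `D` of `C`, `D = O_{p'}(C)` is characteristic in `C`, so normal in `G`, so
`D ≤ pPrimeCore p G = ⊥` and `C = Y`. -/
theorem centralizer_inf_le (hO : pPrimeCore p G = ⊥) (Y L : Subgroup G) [Y.Normal] [L.Normal]
    (hYL : Y ≤ L) (hYp : IsPGroup p Y) (hYab : ∀ a ∈ Y, ∀ b ∈ Y, a * b = b * a)
    (hidx : (Y.relIndex L).Coprime p) : L ⊓ Subgroup.centralizer (Y : Set G) ≤ Y := by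
  have hp : p.Prime := Fact.out
  have hYn : Y.Normal := inferInstance
  have hLn : L.Normal := inferInstance
  obtain ⟨C, hC⟩ : ∃ C : Subgroup G, C = L ⊓ Subgroup.centralizer (Y : Set G) := ⟨_, rfl⟩
  rw [← hC]
  have hCL : C ≤ L := hC ▸ inf_le_left
  have hCcent : ∀ c ∈ C, ∀ y ∈ Y, y * c = c * y := by
    intro c hc y hy
    rw [hC] at hc
    exact (Subgroup.mem_centralizer_iff.mp hc.2) y hy
  have hYC : Y ≤ C := by
    intro y hy
    rw [hC]
    exact ⟨hYL hy, Subgroup.mem_centralizer_iff.mpr (fun z hz => hYab z hz y hy)⟩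
  have hCn : ∀ c ∈ C, ∀ g : G, g * c * g⁻¹ ∈ C := by
    intro c hc g
    rw [hC] at hc ⊢
    refine ⟨hLn.conj_mem c hc.1 g, Subgroup.mem_centralizer_iff.mpr ?_⟩
    intro y hy
    have hy' : g⁻¹ * y * g ∈ Y := by
      have := hYn.conj_mem y hy g⁻¹
      rwa [inv_inv] at this
    have h1 := (Subgroup.mem_centralizer_iff.mp hc.2) _ hy'
    calc y * (g * c * g⁻¹) = g * ((g⁻¹ * y * g) * c) * g⁻¹ := by group
      _ = g * (c * (g⁻¹ * y * g)) * g⁻¹ := by rw [h1]
      _ = g * c * g⁻¹ * y := by group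
  have hY'p : IsPGroup p (Y.subgroupOf C) :=
    hYp.of_equiv (Subgroup.subgroupOfEquivOfLe hYC).symm
  have hY'idx : ¬ p ∣ (Y.subgroupOf C).index := by
    have h1 : Y.relIndex C ∣ Y.relIndex L :=
      ⟨C.relIndex L, (Subgroup.relIndex_mul_relIndex Y C L hYC hCL).symm⟩
    intro hd
    have h2 : p ∣ Y.relIndex L := hd.trans h1
    exact hp.one_lt.ne' (Nat.Coprime.eq_one_of_dvd hidx.symm h2)
  obtain ⟨S, hS⟩ : ∃ S : Sylow p ↥C, (S : Subgroup ↥C) = Y.subgroupOf C :=
    ⟨hY'p.toSylow hY'idx, IsPGroup.toSylow_coe _ _⟩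
  have hcentS : Subgroup.normalizer (S : Set ↥C) ≤ Subgroup.centralizer (S : Set ↥C) := by
    intro c _
    rw [Subgroup.mem_centralizer_iff]
    intro y hy
    have hy' : y ∈ Y.subgroupOf C := by
      rw [← hS]
      exact hy
    rw [Subgroup.mem_subgroupOf] at hy'
    exact Subtype.ext (hCcent c c.2 y hy')
  have hcompl := MonoidHom.ker_transferSylow_isComplement' S hcentS
  obtain ⟨N, hN⟩ : ∃ N : Subgroup ↥C, N = (MonoidHom.transferSylow S hcentS).ker := ⟨_, rfl⟩
  rw [← hN] at hcompl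
  have hNn : N.Normal := by
    rw [hN]
    infer_instance
  have hNcard : (Nat.card N).Coprime p := by
    have h1 : (S : Subgroup ↥C).index = Nat.card N := hcompl.index_eq_card
    rw [← h1, hS]
    exact ((Nat.Prime.coprime_iff_not_dvd hp).mpr hY'idx).symm
  have hNidx : ∃ a : ℕ, N.index = p ^ a := by
    have h1 : N.index = Nat.card (S : Subgroup ↥C) := hcompl.symm.index_eq_card
    obtain ⟨a, ha⟩ := IsPGroup.iff_card.mp S.2
    exact ⟨a, h1.trans ha⟩
  have hpel : ∀ c : ↥C, (orderOf c).Coprime p → c ∈ N := by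
    intro c hc
    obtain ⟨a, ha⟩ := hNidx
    have h1 : c ^ (p ^ a) ∈ N := by
      rw [← QuotientGroup.eq_one_iff, QuotientGroup.mk_pow, ← ha, Subgroup.index_eq_card]
      exact pow_card_eq_one'
    obtain ⟨m, hm⟩ := exists_pow_eq_self_of_coprime (x := c) (n := p ^ a)
      (Nat.Coprime.pow_left a hc.symm)
    rw [← hm]
    exact Subgroup.pow_mem _ h1 m
  have hDn : (N.map C.subtype).Normal := by
    constructor
    intro x hx g
    obtain ⟨n, hn, rfl⟩ := Subgroup.mem_map.mp hx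
    refine Subgroup.mem_map.mpr ⟨⟨g * (n : G) * g⁻¹, hCn _ n.2 g⟩, hpel _ ?_, rfl⟩
    have h1 : orderOf (⟨g * (n : G) * g⁻¹, hCn _ n.2 g⟩ : ↥C) = orderOf n := by
      rw [← Subgroup.orderOf_coe, ← Subgroup.orderOf_coe n]
      exact (SemiconjBy.orderOf_eq g (show SemiconjBy g (n : G) (g * (n : G) * g⁻¹) by
        unfold SemiconjBy; group)).symm
    rw [h1]
    exact Nat.Coprime.coprime_dvd_left (Subgroup.orderOf_dvd_natCard N hn) hNcard
  have hDcard : (Nat.card (N.map C.subtype)).Coprime p := by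
    rw [Subgroup.card_map_of_injective C.subtype_injective]
    exact hNcard
  have hDbot : N.map C.subtype = ⊥ := by
    rw [eq_bot_iff, ← hO]
    exact le_sSup ⟨hDn, hDcard⟩
  have hNbot : N = ⊥ := by
    rw [eq_bot_iff]
    intro n hn
    have h1 : (n : G) ∈ N.map C.subtype := Subgroup.mem_map_of_mem _ hn
    rw [hDbot, Subgroup.mem_bot] at h1
    exact Subgroup.mem_bot.mpr (Subtype.ext h1)
  rw [hNbot, Subgroup.isComplement'_bot_left, hS] at hcompl
  intro c hc
  have h1 : (⟨c, hc⟩ : ↥C) ∈ Y.subgroupOf C := by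
    rw [hcompl]
    exact Subgroup.mem_top _
  exact Subgroup.mem_subgroupOf.mp h1

end Cfsg.Agent.Helper19.SCH
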