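import Mathlib
import Cfsg.Agent.Lib.Helper31.SCHDefs

/-!
# SCH (helper31 server, S4394), piece G2b: `P` is normal, from the chain `Y ≤ L ≤ M`.
-/

set_option autoImplicit false

namespace Cfsg.Agent.Helper19.SCH
open Cfsg Cfsg.Agent.Helper31.SCH

variable {G : Type*} [Group G] [Finite G] {p : ℕ} [Fact p.Prime]

/-- (G2b) [M-L] `P ≤ M` (normal, `p'`-index).  For `l ∈ L`, `g ∈ P`: `cmt l g ∈ L` centralises `Y`
(`g` centralises `Y`, `l` normalises `Y`), so `cmt l g ∈ Y ≤ P` and `l g l⁻¹ = cmt l g * g ∈ P`: `L` normalises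
`P`.  `M = L P` by orders (`P ⊓ L = Y`, `|M : L| = p^m = |P : Y|`), so `P` is normal in `M`, the only
Sylow `p`-subgroup of the normal subgroup `M`, hence normal in `G`. -/
theorem normal_of_chain (P : Sylow p G) (Y L M : Subgroup G) [Y.Normal] [L.Normal] [M.Normal]
    (hYP : Y ≤ (P : Subgroup G)) (hYZ : ∀ y ∈ Y, ∀ x ∈ (P : Subgroup G), x * y = y * x)
    (hYL : Y ≤ L) (hLM : L ≤ M) (hLY : (Y.relIndex L).Coprime p)
    (hML : ∃ m : ℕ, L.relIndex M = p ^ m) (hGM : M.index.Coprime p)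
    (hcent : L ⊓ Subgroup.centralizer (Y : Set G) ≤ Y) : (P : Subgroup G).Normal := by
  have hp : p.Prime := Fact.out
  have hYn : Y.Normal := inferInstance
  have hLn : L.Normal := inferInstance
  -- step 1: `P ≤ M`
  have hPM : (P : Subgroup G) ≤ M := by
    intro x hx
    obtain ⟨k, hk⟩ := P.2 ⟨x, hx⟩
    have hk' : x ^ (p ^ k) = 1 := by
      have := congrArg Subtype.val hk
      simpa using this
    have h1 : orderOf (QuotientGroup.mk' M x) ∣ p ^ k :=
      (orderOf_map_dvd (QuotientGroup.mk' M) x).trans (orderOf_dvd_of_pow_eq_one hk')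
    have h2 : orderOf (QuotientGroup.mk' M x) ∣ M.index := by
      rw [Subgroup.index_eq_card]
      exact orderOf_dvd_natCard _
    have h3 : orderOf (QuotientGroup.mk' M x) = 1 :=
      Nat.eq_one_of_dvd_coprimes (Nat.Coprime.pow_right k hGM) h2 h1
    rw [orderOf_eq_one_iff] at h3
    exact (QuotientGroup.eq_one_iff x).mp h3
  -- step 2: `L` normalises `P`
  have hLP : ∀ l ∈ L, ∀ g ∈ (P : Subgroup G), l * g * l⁻¹ ∈ (P : Subgroup G) := by
    intro l hl g hg
    have hc1 : l * g * l⁻¹ * g⁻¹ ∈ L := by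
      have h1 : g * l⁻¹ * g⁻¹ ∈ L := hLn.conj_mem _ (Subgroup.inv_mem _ hl) g
      have h2 : l * g * l⁻¹ * g⁻¹ = l * (g * l⁻¹ * g⁻¹) := by group
      rw [h2]
      exact Subgroup.mul_mem _ hl h1
    have hc2 : l * g * l⁻¹ * g⁻¹ ∈ Subgroup.centralizer (Y : Set G) := by
      rw [Subgroup.mem_centralizer_iff]
      intro y hy
      have hy1 : g⁻¹ * y * g = y := by
        have := hYZ y hy g hg
        rw [mul_assoc, ← this, inv_mul_cancel_left]
      have hy2 : l⁻¹ * y * l ∈ Y := by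
        have := hYn.conj_mem y hy l⁻¹
        rwa [inv_inv] at this
      have hy3 : g * (l⁻¹ * y * l) * g⁻¹ = l⁻¹ * y * l := by
        have := hYZ _ hy2 g hg
        rw [this, mul_inv_cancel_right]
      have e1 : (l * g * l⁻¹ * g⁻¹) * y * (l * g * l⁻¹ * g⁻¹)⁻¹ =
          l * (g * (l⁻¹ * (g⁻¹ * y * g) * l) * g⁻¹) * l⁻¹ := by group
      have e2 : (l * g * l⁻¹ * g⁻¹) * y * (l * g * l⁻¹ * g⁻¹)⁻¹ = y := by
        rw [e1, hy1, hy3]
        group
      calc y * (l * g * l⁻¹ * g⁻¹)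
          = ((l * g * l⁻¹ * g⁻¹) * y * (l * g * l⁻¹ * g⁻¹)⁻¹) * (l * g * l⁻¹ * g⁻¹) := by rw [e2]
        _ = (l * g * l⁻¹ * g⁻¹) * y := by group
    have hc3 : l * g * l⁻¹ * g⁻¹ ∈ (P : Subgroup G) := hYP (hcent ⟨hc1, hc2⟩)
    have e : l * g * l⁻¹ = (l * g * l⁻¹ * g⁻¹) * g := by group
    rw [e]
    exact Subgroup.mul_mem _ hc3 hg
  -- step 3: `M ≤ L ⊔ P`
  have hMLP : M ≤ L ⊔ (P : Subgroup G) := by
    obtain ⟨m, hm⟩ := hML
    have h1 : (L ⊔ (P : Subgroup G)).relIndex M ∣ L.relIndex M :=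
      Subgroup.relIndex_dvd_of_le_left M le_sup_left
    have h2 : (L ⊔ (P : Subgroup G)).relIndex M ∣ (P : Subgroup G).relIndex M :=
      Subgroup.relIndex_dvd_of_le_left M le_sup_right
    have h3 : (P : Subgroup G).relIndex M ∣ (P : Subgroup G).index :=
      ⟨M.index, (Subgroup.relIndex_mul_index hPM).symm⟩
    have h4 : ¬ p ∣ (P : Subgroup G).index := P.not_dvd_index
    rw [hm] at h1
    obtain ⟨j, _, hj⟩ := (Nat.dvd_prime_pow hp).mp h1
    rcases Nat.eq_zero_or_pos j with hj0 | hjpos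
    · rw [hj0, pow_zero] at hj
      exact Subgroup.relIndex_eq_one.mp hj
    · exfalso
      apply h4
      refine dvd_trans ?_ (h2.trans h3)
      rw [hj]
      exact dvd_pow_self p hjpos.ne'
  -- step 4: `M` normalises `P`
  have hMN : M ≤ Subgroup.normalizer ((P : Subgroup G) : Set G) := by
    refine hMLP.trans (sup_le ?_ Subgroup.le_normalizer)
    intro l hl
    exact Subgroup.mem_normalizer_fintype (fun g hg => hLP l hl g hg)
  -- step 5: Frattini
  have hfr : Subgroup.normalizer ((P : Subgroup G) : Set G) ⊔ M = ⊤ :=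
    Sylow.normalizer_sup_eq_top' P hPM
  rw [sup_eq_left.mpr hMN] at hfr
  exact Subgroup.normalizer_eq_top_iff.mp hfr

end Cfsg.Agent.Helper19.SCH
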