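import Mathlib
import Cfsg.Agent.Lib.Helper98.SPE0

/-!
# SPE project (S2333): basic algebra of `qv`, `bv` (local copies used by the helper19 pieces).
-/

set_option autoImplicit false

namespace Cfsg.Agent.Helper19.SPE

open Matrix Cfsg.Agent.Helper93.U2 Cfsg.Agent.Helper98.SPE

variable {F : Type*} [Field F] {n : ℕ}

theorem h19_qv_smul (S : Matrix (Fin n) (Fin n) F) (c : F) (x : Fin n → F) :
    qv S (c • x) = c ^ 2 * qv S x := by
  unfold qv
  rw [Finset.mul_sum]
  refine Finset.sum_congr rfl fun i _ => ?_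
  rw [Finset.mul_sum]
  refine Finset.sum_congr rfl fun j _ => ?_
  split_ifs
  · simp only [Pi.smul_apply, smul_eq_mul]; ring
  · simp

theorem h19_bv_eq_sum (S : Matrix (Fin n) (Fin n) F) (x y : Fin n → F) :
    bv S x y = ∑ i, ∑ j, if i ≤ j then S i j * (x i * y j + y i * x j) else 0 := by
  unfold bv qv
  rw [← Finset.sum_sub_distrib, ← Finset.sum_sub_distrib]
  refine Finset.sum_congr rfl fun i _ => ?_
  rw [← Finset.sum_sub_distrib, ← Finset.sum_sub_distrib]
  refine Finset.sum_congr rfl fun j _ => ?_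
  split_ifs
  · simp only [Pi.add_apply]; ring
  · simp

theorem h19_bv_add_left (S : Matrix (Fin n) (Fin n) F) (x x' y : Fin n → F) :
    bv S (x + x') y = bv S x y + bv S x' y := by
  rw [h19_bv_eq_sum, h19_bv_eq_sum, h19_bv_eq_sum, ← Finset.sum_add_distrib]
  refine Finset.sum_congr rfl fun i _ => ?_
  rw [← Finset.sum_add_distrib]
  refine Finset.sum_congr rfl fun j _ => ?_
  split_ifs
  · simp only [Pi.add_apply]; ring
  · simp

theorem h19_bv_smul_left (S : Matrix (Fin n) (Fin n) F) (c : F) (x y : Fin n → F) :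
    bv S (c • x) y = c * bv S x y := by
  rw [h19_bv_eq_sum, h19_bv_eq_sum, Finset.mul_sum]
  refine Finset.sum_congr rfl fun i _ => ?_
  rw [Finset.mul_sum]
  refine Finset.sum_congr rfl fun j _ => ?_
  split_ifs
  · simp only [Pi.smul_apply, smul_eq_mul]; ring
  · simp

theorem h19_bv_add_right (S : Matrix (Fin n) (Fin n) F) (x y y' : Fin n → F) :
    bv S x (y + y') = bv S x y + bv S x y' := by
  rw [bv_symm, h19_bv_add_left, bv_symm S y x, bv_symm S y' x]

theorem h19_bv_smul_right (S : Matrix (Fin n) (Fin n) F) (c : F) (x y : Fin n → F) :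
    bv S x (c • y) = c * bv S x y := by
  rw [bv_symm, h19_bv_smul_left, bv_symm S y x]

theorem h19_qv_add (S : Matrix (Fin n) (Fin n) F) (x y : Fin n → F) :
    qv S (x + y) = qv S x + qv S y + bv S x y := by
  unfold bv; ring

theorem h19_bv_self (S : Matrix (Fin n) (Fin n) F) (x : Fin n → F) :
    bv S x x = 2 * qv S x := by
  have h1 : x + x = (2 : F) • x := by rw [two_smul]
  unfold bv
  rw [h1, h19_qv_smul]; ring

/-- `bv` of a combination `x - s • x₁ - t • y₁` on the left. -/
theorem h19_bv_comb_left (S : Matrix (Fin n) (Fin n) F) (x x₁ y₁ z : Fin n → F) (s t : F) :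
    bv S (x - s • x₁ - t • y₁) z = bv S x z - s * bv S x₁ z - t * bv S y₁ z := by
  have h1 : x - s • x₁ - t • y₁ = x + ((-s) • x₁ + (-t) • y₁) := by
    rw [neg_smul, neg_smul]; abel
  rw [h1, h19_bv_add_left, h19_bv_add_left, h19_bv_smul_left, h19_bv_smul_left]; ring

/-- `bv` of a combination `s • x₁ + t • y₁ + w` on the left. -/
theorem h19_bv_comb3_left (S : Matrix (Fin n) (Fin n) F) (x₁ y₁ w z : Fin n → F) (s t : F) :
    bv S (s • x₁ + t • y₁ + w) z = s * bv S x₁ z + t * bv S y₁ z + bv S w z := by
  rw [h19_bv_add_left, h19_bv_add_left, h19_bv_smul_left, h19_bv_smul_left]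

theorem h19_qv_single (S : Matrix (Fin n) (Fin n) F) (k : Fin n) :
    qv S (Pi.single k 1) = S k k := by
  classical
  unfold qv
  rw [Finset.sum_eq_single k]
  · rw [Finset.sum_eq_single k]
    · simp
    · intro j _ hj
      simp [Pi.single_apply, hj]
    · simp
  · intro i _ hi
    apply Finset.sum_eq_zero
    intro j _
    simp [Pi.single_apply, hi]
  · simp

theorem h19_bv_single (S : Matrix (Fin n) (Fin n) F) (k l : Fin n) (h : k < l) :
    bv S (Pi.single k 1) (Pi.single l 1) = S k l := by
  classical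
  rw [h19_bv_eq_sum]
  rw [Finset.sum_eq_single k]
  · rw [Finset.sum_eq_single l]
    · simp [Pi.single_apply, h.le, h.ne, h.ne']
    · intro j _ hj
      simp [Pi.single_apply, hj, h.ne, h.ne']
    · simp
  · intro i _ hi
    apply Finset.sum_eq_zero
    intro j _
    split_ifs with hle
    · have h1 : (Pi.single k (1 : F) : Fin n → F) i = 0 := by simp [Pi.single_apply, hi]
      by_cases hil : i = l
      · subst hil
        have h2 : (Pi.single k (1 : F) : Fin n → F) j = 0 := by
          have : j ≠ k := fun e => by subst e; exact absurd hle (not_le.mpr h)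
          simp [Pi.single_apply, this]
        rw [h1, h2]; ring
      · have h2 : (Pi.single l (1 : F) : Fin n → F) i = 0 := by simp [Pi.single_apply, hil]
        rw [h1, h2]; ring
    · rfl
  · simp

end Cfsg.Agent.Helper19.SPE
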