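import Mathlib
import Cfsg.Agent.Lib.Helper98.SPE0
import Cfsg.Agent.Lib.Helper19.SPEAux

/-!
# SPE project (S2333), piece K1a: the orthogonal complement of a hyperbolic pair has index `q²`.
-/

set_option autoImplicit false

namespace Cfsg.Agent.Helper19.SPE

open Matrix Cfsg.Agent.Helper93.U2 Cfsg.Agent.Helper98.SPE

variable {F : Type*} [Field F] [Fintype F] {q : ℕ} (hq : Fintype.card F = q) {n : ℕ}

include hq in
/-- piece K1a (uses Q2, Q3). `(s,t,w) ↦ s • x₁ + t • y₁ + w` is a bijection `F × F × W → V`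
(`W` = the set below): given `x` put `s = bv S x y₁ / b`, `t = bv S x₁ x / b`
(`b = bv S x₁ y₁`; in characteristic 2 `bv S z z = 0` by Q3 + `h2` and signs do not matter). -/
theorem card_perp_pair (h2 : (2 : F) = 0) (S : Matrix (Fin n) (Fin n) F) (x₁ y₁ : Fin n → F)
    (hb : bv S x₁ y₁ ≠ 0) :
    q ^ 2 * {w : Fin n → F | bv S w x₁ = 0 ∧ bv S w y₁ = 0}.ncard = q ^ n := by
  classical
  have hxx : ∀ z, bv S z z = 0 := fun z => by rw [h19_bv_self, h2, zero_mul]
  obtain ⟨b, hbdef⟩ : ∃ b, b = bv S x₁ y₁ := ⟨_, rfl⟩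
  have hb' : b ≠ 0 := hbdef ▸ hb
  have hyx : bv S y₁ x₁ = b := by rw [bv_symm, hbdef]
  have hmem : ∀ x : Fin n → F,
      (x - (bv S x y₁ / b) • x₁ - (bv S x₁ x / b) • y₁) ∈
        {w : Fin n → F | bv S w x₁ = 0 ∧ bv S w y₁ = 0} := by
    intro x
    refine ⟨?_, ?_⟩
    · rw [h19_bv_comb_left, hxx, hyx, bv_symm S x x₁, div_mul_cancel₀ _ hb']
      ring
    · rw [h19_bv_comb_left, ← hbdef, hxx, div_mul_cancel₀ _ hb']
      ring
  let e : (F × F × ↥{w : Fin n → F | bv S w x₁ = 0 ∧ bv S w y₁ = 0}) ≃ (Fin n → F) :=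
    { toFun := fun r => r.1 • x₁ + r.2.1 • y₁ + (r.2.2 : Fin n → F)
      invFun := fun x => (bv S x y₁ / b, bv S x₁ x / b, ⟨_, hmem x⟩)
      left_inv := by
        rintro ⟨s, t, ⟨w, hw1, hw2⟩⟩
        have hs : bv S (s • x₁ + t • y₁ + w) y₁ / b = s := by
          rw [h19_bv_comb3_left, ← hbdef, hxx, hw2, mul_zero, add_zero, add_zero,
            mul_div_cancel_right₀ _ hb']
        have ht : bv S x₁ (s • x₁ + t • y₁ + w) / b = t := by
          rw [bv_symm, h19_bv_comb3_left, hxx, hyx, hw1, mul_zero, zero_add, add_zero,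
            mul_div_cancel_right₀ _ hb']
        refine Prod.ext hs (Prod.ext ht (Subtype.ext ?_))
        simp only
        rw [hs, ht]
        abel
      right_inv := by
        intro x
        simp only
        abel }
  have h1 := Nat.card_congr e
  rw [Nat.card_prod, Nat.card_prod, Nat.card_fun, Nat.card_fin, Nat.card_coe_set_eq,
    Nat.card_eq_fintype_card, hq] at h1
  rw [pow_two, mul_assoc]
  exact h1

end Cfsg.Agent.Helper19.SPE
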