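import Mathlib
import Cfsg.Agent.Lib.Helper98.SPE0
import Cfsg.Agent.Lib.Helper19.SPEAux

/-!
# SPE project (S2333), piece K1c: decomposition of `qv` along a hyperbolic pair.
-/

set_option autoImplicit false

namespace Cfsg.Agent.Helper19.SPE

open Matrix Cfsg.Agent.Helper93.U2 Cfsg.Agent.Helper98.SPE

variable {F : Type*} [Field F] [Fintype F] {q : ℕ} (hq : Fintype.card F = q) {n : ℕ}

/-- piece K1c (uses Q1, Q2, Q3'). No characteristic assumption. -/
theorem qv_decomp (S : Matrix (Fin n) (Fin n) F) (x₁ y₁ w : Fin n → F) (s t : F)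
    (hw1 : bv S w x₁ = 0) (hw2 : bv S w y₁ = 0) :
    qv S (s • x₁ + t • y₁ + w) =
      qv S x₁ * s ^ 2 + bv S x₁ y₁ * s * t + qv S y₁ * t ^ 2 + qv S w := by
  rw [h19_qv_add, h19_qv_add, h19_qv_smul, h19_qv_smul, h19_bv_add_left, h19_bv_smul_left,
    h19_bv_smul_left, h19_bv_smul_left, h19_bv_smul_right, bv_symm S x₁ w, bv_symm S y₁ w, hw1, hw2]
  ring

end Cfsg.Agent.Helper19.SPE
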