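import Mathlib
import Cfsg.Agent.Lib.Helper98.SPE0
import Cfsg.Agent.Lib.Helper19.SPEAux

/-!
# SPE project (S2333), pieces Q9 and Q11.
-/

set_option autoImplicit false

namespace Cfsg.Agent.Helper19.SPE

open Matrix Cfsg.Agent.Helper93.U2 Cfsg.Agent.Helper98.SPE

variable {F : Type*} [Field F] {n : ℕ}

/-- piece Q9 (uses Q5, Q3'). `S k k = qv S e_k`; for `k < l`: `S k l = bv S e_k e_l` is
determined by `qv S`; for `k > l` use the symmetry of `S` and `T`. -/
theorem sym_ext_of_qv (S T : Matrix (Fin n) (Fin n) F) (hS : Sᵀ = S) (hT : Tᵀ = T)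
    (h : ∀ x, qv S x = qv T x) : S = T := by
  have hb : ∀ x y, bv S x y = bv T x y := by
    intro x y
    unfold bv
    rw [h, h, h]
  have hlt : ∀ k l : Fin n, k < l → S k l = T k l := by
    intro k l hkl
    rw [← h19_bv_single S k l hkl, ← h19_bv_single T k l hkl, hb]
  ext k l
  rcases lt_trichotomy k l with hkl | hkl | hkl
  · exact hlt k l hkl
  · subst hkl
    rw [← h19_qv_single S k, ← h19_qv_single T k, h]
  · have h1 : S k l = S l k := by
      conv_lhs => rw [← hS]
      rfl
    have h2 : T k l = T l k := by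
      conv_lhs => rw [← hT]
      rfl
    rw [h1, h2]
    exact hlt l k hkl

end Cfsg.Agent.Helper19.SPE
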