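import Mathlib
import Cfsg.Agent.Lib.Helper98.SPE0
import Cfsg.Agent.Lib.Helper19.SPEQ9
import Cfsg.Agent.Lib.Helper22.SPEQ6

/-!
# SPE project (S2333), piece Q10 (uses Q6 of helper22 and Q9).
-/

set_option autoImplicit false

namespace Cfsg.Agent.Helper19.SPE

open Matrix Cfsg.Agent.Helper93.U2 Cfsg.Agent.Helper98.SPE

variable {F : Type*} [Field F] {n : ℕ}

/-- piece Q10 (uses Q6, Q9). `Subtype.ext`, Q9 (both sides symmetric: `congQ_transpose`, `a.2`),
then Q6 twice and `g * g⁻¹ = 1` on vectors (`Matrix.mulVec_mulVec`). -/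
theorem congS_inv_congS (g : GL (Fin n) F) (a : ↥(symSub F n)) :
    congS ((g⁻¹ : GL (Fin n) F) : Matrix (Fin n) (Fin n) F)
      (congS (g : Matrix (Fin n) (Fin n) F) a) = a := by
  apply Subtype.ext
  rw [congS_val, congS_val]
  apply sym_ext_of_qv _ _ (congQ_transpose _ _) a.2
  intro x
  have h1 : (g : Matrix (Fin n) (Fin n) F) *
      ((g⁻¹ : GL (Fin n) F) : Matrix (Fin n) (Fin n) F) = 1 := by
    rw [← Units.val_mul, mul_inv_cancel, Units.val_one]
  rw [Cfsg.Agent.Helper22.SPE.qv_congQ, Cfsg.Agent.Helper22.SPE.qv_congQ, Matrix.mulVec_mulVec,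
    h1, Matrix.one_mulVec]

end Cfsg.Agent.Helper19.SPE
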