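import Mathlib
import Cfsg.Agent.Lib.Helper98.SPE0

/-!
# SPE project (S2333), piece Q11.
-/

set_option autoImplicit false

namespace Cfsg.Agent.Helper19.SPE

open Matrix Cfsg.Agent.Helper93.U2 Cfsg.Agent.Helper98.SPE

variable {F : Type*} [Field F] {n : ℕ}

/-- piece Q11. `tauS a (shortS i j) = a i j` for `i < j`: only `(i,j)` is counted (`j ≤ i` fails
for the other entry). -/
theorem tauS_shortS (a : Matrix (Fin n) (Fin n) F) (i j : Fin n) (h : i < j) :
    tauS a (shortS F n i j) = a i j := by
  classical
  unfold tauS shortS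
  rw [Finset.sum_eq_single i]
  · rw [Finset.sum_eq_single j]
    · rw [if_pos h.le]
      simp [Matrix.single_apply, h.ne, h.ne']
    · intro j' _ hj'
      split_ifs with hle
      · have : ¬ (j = i ∧ i = j') := fun e => h.ne' e.1
        simp [Matrix.single_apply, hj', Ne.symm hj', this]
      · rfl
    · simp
  · intro i' _ hi'
    apply Finset.sum_eq_zero
    intro j' _
    split_ifs with hle
    · have h1 : ¬ (i = i' ∧ j = j') := fun e => hi' e.1.symm
      have h2 : ¬ (j = i' ∧ i = j') := by
        rintro ⟨e1, e2⟩
        subst e1 e2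
        exact absurd hle (not_le.mpr h)
      simp [Matrix.single_apply, h1, h2]
    · rfl
  · simp

end Cfsg.Agent.Helper19.SPE
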