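import Mathlib
import Cfsg.Agent.Lib.Helper14.SPIDefs
import Cfsg.Agent.Lib.Helper48.SPIMIN
import Cfsg.Agent.Lib.Helper66.SPIPOLAR
import Cfsg.Agent.Lib.Helper29.SPIEVEN
import Cfsg.Agent.Lib.Helper46.SPIIRR

set_option autoImplicit false

/-!
SPI lemma server (helper14, S5961), piece (ST) `exists_block_on`: the core, with (PAIR) as a
hypothesis (monomorphic in `F V`), by helper19.
-/

namespace Cfsg.Agent.Helper19.SPI

open Module Polynomial Cfsg.Agent.Helper14.SPI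

/-- the radical of `B` on `Y`, with the side of `NondegOn` -/
def h19_radOn {F V : Type*} [Field F] [AddCommGroup V] [Module F V]
    (B : LinearMap.BilinForm F V) (Y : Submodule F V) : Submodule F V where
  carrier := {u | u ∈ Y ∧ ∀ v ∈ Y, B u v = 0}
  add_mem' := by
    rintro a b ⟨ha, ha'⟩ ⟨hb, hb'⟩
    refine ⟨Y.add_mem ha hb, fun v hv => ?_⟩
    rw [map_add, LinearMap.add_apply, ha' v hv, hb' v hv, add_zero]
  zero_mem' := ⟨Y.zero_mem, fun v _ => by simp⟩
  smul_mem' := by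
    rintro c a ⟨ha, ha'⟩
    refine ⟨Y.smul_mem c ha, fun v hv => ?_⟩
    rw [map_smul, LinearMap.smul_apply, ha' v hv, smul_zero]

theorem h19_mem_radOn {F V : Type*} [Field F] [AddCommGroup V] [Module F V]
    (B : LinearMap.BilinForm F V) (Y : Submodule F V) (u : V) :
    u ∈ h19_radOn B Y ↔ u ∈ Y ∧ ∀ v ∈ Y, B u v = 0 := Iff.rfl

theorem h19_radOn_le {F V : Type*} [Field F] [AddCommGroup V] [Module F V]
    (B : LinearMap.BilinForm F V) (Y : Submodule F V) : h19_radOn B Y ≤ Y := fun _ hu => hu.1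

/-- an invariant subspace of an operator of finite order is mapped ONTO itself -/
theorem h19_exists_preimage {F V : Type*} [Field F] [AddCommGroup V] [Module F V]
    (x : V →ₗ[F] V) (r : ℕ) (hr : 0 < r) (hxr : x ^ r = 1) (Y : Submodule F V)
    (hYx : Y.map x ≤ Y) {y : V} (hy : y ∈ Y) : ∃ y' ∈ Y, x y' = y := by
  refine ⟨(x ^ (r - 1)) y, Cfsg.Agent.Helper46.SPI.h46_pow_mem x Y hYx (r - 1) hy, ?_⟩
  have h1 : x * x ^ (r - 1) = 1 := by
    rw [← pow_succ', Nat.sub_add_cancel hr, hxr]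
  have := congrArg (fun f : V →ₗ[F] V => f y) h1
  simpa [Module.End.mul_apply] using this

/-- the radical of an invariant subspace is invariant -/
theorem h19_radOn_map_le {F V : Type*} [Field F] [AddCommGroup V] [Module F V]
    (B : LinearMap.BilinForm F V) (x : V →ₗ[F] V) (hx : IsIsom B x) (r : ℕ) (hr : 0 < r)
    (hxr : x ^ r = 1) (Y : Submodule F V) (hYx : Y.map x ≤ Y) :
    (h19_radOn B Y).map x ≤ h19_radOn B Y := by
  rintro _ ⟨u, hu, rfl⟩
  have hu' := (h19_mem_radOn B Y u).1 hu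
  refine (h19_mem_radOn B Y _).2 ⟨hYx (Submodule.mem_map_of_mem hu'.1), fun v hv => ?_⟩
  obtain ⟨v', hv', rfl⟩ := h19_exists_preimage x r hr hxr Y hYx hv
  rw [hx u v']
  exact hu'.2 v' hv'

/-- trivial radical means nondegenerate -/
theorem h19_nondegOn_of_radOn_eq_bot {F V : Type*} [Field F] [AddCommGroup V] [Module F V]
    (B : LinearMap.BilinForm F V) (Y : Submodule F V) (h : h19_radOn B Y = ⊥) :
    NondegOn B Y := by
  intro u hu hu0
  by_contra hcon
  push Not at hcon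
  have : u ∈ h19_radOn B Y := (h19_mem_radOn B Y u).2 ⟨hu, hcon⟩
  rw [h] at this
  exact hu0 ((Submodule.mem_bot F).1 this)

/-- inside a "prime" fixed-point-free invariant subspace, an invariant subspace of dimension
`i = orderOf q mod r` is minimal -/
theorem h19_min_of_finrank {F V : Type*} [Field F] [Fintype F] [AddCommGroup V] [Module F V]
    [FiniteDimensional F V] (x : V →ₗ[F] V) (r : ℕ) [Fact r.Prime]
    (hrq : ¬ r ∣ Fintype.card F) (hxr : x ^ r = 1)
    (Z : Submodule F V) (hfpf : ∀ v ∈ Z, x v = v → v = 0)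
    (hprime : ∀ g : F[X], (∀ z ∈ Z, aeval x g z = 0) ∨ (∀ z ∈ Z, aeval x g z = 0 → z = 0))
    (Y : Submodule F V) (hYZ : Y ≤ Z)
    (hYdim : finrank F Y = orderOf ((Fintype.card F : ℕ) : ZMod r))
    (Z' : Submodule F V) (hZ'Y : Z' ≤ Y) (hZ'x : Z'.map x ≤ Z') : Z' = ⊥ ∨ Z' = Y := by
  by_cases h0 : Z' = ⊥
  · exact Or.inl h0
  right
  obtain ⟨u, hu, hu0⟩ := Submodule.exists_mem_ne_zero_of_ne_bot h0
  have hZ'Z : Z' ≤ Z := hZ'Y.trans hYZ
  have hprime' : ∀ g : F[X], (∀ z ∈ Z', aeval x g z = 0) ∨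
      (∀ z ∈ Z', aeval x g z = 0 → z = 0) := by
    intro g
    rcases hprime g with h | h
    · exact Or.inl fun z hz => h z (hZ'Z hz)
    · exact Or.inr fun z hz => h z (hZ'Z hz)
  obtain ⟨Y'', hY''Z', -, -, hY''dim⟩ :=
    Cfsg.Agent.Helper46.SPI.exists_cyclic_of_prime x r hrq hxr Z' hZ'x
      (fun v hv => hfpf v (hZ'Z hv)) hprime' u hu hu0
  have hle : Y'' ≤ Y := hY''Z'.trans hZ'Y
  have heq : Y'' = Y := Submodule.eq_of_le_of_finrank_eq hle (by rw [hY''dim, hYdim])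
  exact le_antisymm hZ'Y (heq ▸ hY''Z')

/-- (ST) with (PAIR) as a hypothesis -/
theorem exists_block_on_core {F V : Type*} [Field F] [Fintype F] [AddCommGroup V] [Module F V]
    [FiniteDimensional F V] (B : LinearMap.BilinForm F V) (hB : B.IsAlt)
    (x : V →ₗ[F] V) (hx : IsIsom B x) (r : ℕ) [Fact r.Prime] (hr2 : r ≠ 2)
    (hrq : ¬ r ∣ Fintype.card F) (hxr : x ^ r = 1)
    (R : Submodule F V) (hRx : R.map x ≤ R)
    (hfpf : ∀ v ∈ R, x v = v → v = 0) (hR0 : R ≠ ⊥)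
    (hPAIR : ∀ Y : Submodule F V, Y ≤ R → Y.map x ≤ Y →
      (∀ Z : Submodule F V, Z ≤ Y → Z.map x ≤ Z → Z = ⊥ ∨ Z = Y) →
      (∀ u ∈ Y, ∀ v ∈ Y, B u v = 0) →
      ∃ W : Submodule F V, W ≤ R ∧ Y ≤ W ∧ W.map x ≤ W ∧ NondegOn B W ∧
        finrank F W = 2 * finrank F Y ∧
        (Even (orderOf ((Fintype.card F : ℕ) : ZMod r)) →
          ∀ g : F[X], (∀ z ∈ W, aeval x g z = 0) ∨ (∀ z ∈ W, aeval x g z = 0 → z = 0))) :
    ∃ W : Submodule F V, W ≤ R ∧ W.map x ≤ W ∧ NondegOn B W ∧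
      finrank F W = cOf (Fintype.card F) r := by
  classical
  have hrp : r.Prime := Fact.out
  have hr : 0 < r := hrp.pos
  obtain ⟨Y, hYR, hY0, hYx, hmin⟩ :=
    Cfsg.Agent.Helper48.SPI.exists_min_invariant x R hRx hR0
  have hprimeY := Cfsg.Agent.Helper48.SPI.prime_of_min x Y hYx hmin
  have hfpfY : ∀ v ∈ Y, x v = v → v = 0 := fun v hv => hfpf v (hYR hv)
  obtain ⟨u, hu, hu0⟩ := Submodule.exists_mem_ne_zero_of_ne_bot hY0
  obtain ⟨Y1, hY1Y, huY1, hY1x, hY1dim⟩ :=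
    Cfsg.Agent.Helper46.SPI.exists_cyclic_of_prime x r hrq hxr Y hYx hfpfY hprimeY u hu hu0
  have hY1 : Y1 = Y := by
    rcases hmin Y1 hY1Y hY1x with h | h
    · exfalso
      rw [h] at huY1
      exact hu0 ((Submodule.mem_bot F).1 huY1)
    · exact h
  have hYdim : finrank F Y = orderOf ((Fintype.card F : ℕ) : ZMod r) := hY1 ▸ hY1dim
  by_cases hiso : ∀ u ∈ Y, ∀ v ∈ Y, B u v = 0
  · -- totally isotropic: use (PAIR)
    obtain ⟨W, hWR, hYW, hWx, hWnd, hWdim, hWprime⟩ := hPAIR Y hYR hYx hmin hiso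
    by_cases hev : Even (orderOf ((Fintype.card F : ℕ) : ZMod r))
    · have hWp := hWprime hev
      have hW0 : W ≠ ⊥ := by
        intro h
        rw [h] at hYW
        exact hY0 (le_bot_iff.1 hYW)
      have hfpfW : ∀ v ∈ W, x v = v → v = 0 := fun v hv => hfpf v (hWR hv)
      obtain ⟨w, hwW, hw⟩ := Cfsg.Agent.Helper66.SPI.exists_nonisotropic B hB x hx r
        (hrp.odd_of_ne_two hr2) hxr W hWx hWnd hW0 hfpfW
      have hw0 : w ≠ 0 := by
        rintro rfl
        exact hw (by simp)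
      obtain ⟨Y', hY'W, hwY', hY'x, hY'dim⟩ :=
        Cfsg.Agent.Helper46.SPI.exists_cyclic_of_prime x r hrq hxr W hWx hfpfW hWp w hwW hw0
      have hrad := h19_min_of_finrank x r hrq hxr W hfpfW hWp Y' hY'W hY'dim
        (h19_radOn B Y') (h19_radOn_le B Y') (h19_radOn_map_le B x hx r hr hxr Y' hY'x)
      rcases hrad with h | h
      · refine ⟨Y', hY'W.trans hWR, hY'x, h19_nondegOn_of_radOn_eq_bot B Y' h, ?_⟩
        rw [hY'dim, cOf, if_pos hev]
      · exfalso
        have hwr : w ∈ h19_radOn B Y' := by rw [h]; exact hwY'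
        exact hw (((h19_mem_radOn B Y' w).1 hwr).2 (x w)
          (hY'x (Submodule.mem_map_of_mem hwY')))
    · refine ⟨W, hWR, hWx, hWnd, ?_⟩
      rw [hWdim, hYdim, cOf, if_neg hev]
  · -- not totally isotropic: `Y` itself is nondegenerate
    have hrad := hmin (h19_radOn B Y) (h19_radOn_le B Y)
      (h19_radOn_map_le B x hx r hr hxr Y hYx)
    rcases hrad with h | h
    · have hnd : NondegOn B Y := h19_nondegOn_of_radOn_eq_bot B Y h
      have hev : Even (finrank F Y) :=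
        Cfsg.Agent.Helper29.SPI.even_finrank_of_nondegOn B hB Y hnd
      refine ⟨Y, hYR, hYx, hnd, ?_⟩
      rw [hYdim] at hev
      rw [hYdim, cOf, if_pos hev]
    · exfalso
      apply hiso
      intro u hu v hv
      have : u ∈ h19_radOn B Y := by rw [h]; exact hu
      exact ((h19_mem_radOn B Y u).1 this).2 v hv

end Cfsg.Agent.Helper19.SPI
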