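import Mathlib
import Cfsg.Agent.Lib.Helper40.Sp4Exc.Defs

/-!
Piece (F) `phiMat_phiMat` of helper40's lemma server "SPX" (rows S0814, S2600).
The sixteen entries are closed by explicit polynomial certificates (found by linear algebra over `GF(2)`):
each entry of `phiMat (phiMat g)` minus the square of the entry of `g` is a combination of three entries of
`g J gᵀ - J` with monomial coefficients, plus a multiple of `2`.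
-/

set_option autoImplicit false
set_option linter.unusedSimpArgs false
set_option linter.unusedVariables false

namespace Cfsg.Agent.Helper19.SPX

open Cfsg Cfsg.Agent.Helper40.Sp4Exc

/-- **(F) the square of the construction is the Frobenius.** -/
theorem phiMat_phiMat {F : Type*} [Field F] (h2 : (2 : F) = 0)
    (g : Matrix (Fin 2 ⊕ Fin 2) (Fin 2 ⊕ Fin 2) F)
    (hg : g * Matrix.J (Fin 2) F * g.transpose = Matrix.J (Fin 2) F)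
    (hg' : g.transpose * Matrix.J (Fin 2) F * g = Matrix.J (Fin 2) F)
    (hdet : g.det = 1) :
    phiMat (phiMat g) = g.map (fun x => x ^ 2) := by
  have p0 : pr (Sum.inl 0) = (Sum.inl 0, Sum.inl 1) := rfl
  have p1 : pr (Sum.inl 1) = (Sum.inl 0, Sum.inr 1) := rfl
  have p2 : pr (Sum.inr 0) = (Sum.inr 0, Sum.inr 1) := rfl
  have p3 : pr (Sum.inr 1) = (Sum.inl 1, Sum.inr 0) := rfl
  have r01 : -g (Sum.inl 0) (Sum.inl 0) * g (Sum.inl 1) (Sum.inr 0) - g (Sum.inl 0) (Sum.inl 1) * g (Sum.inl 1) (Sum.inr 1) + g (Sum.inl 0) (Sum.inr 0) * g (Sum.inl 1) (Sum.inl 0) + g (Sum.inl 0) (Sum.inr 1) * g (Sum.inl 1) (Sum.inl 1) = 0 := by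
    have h : -g (Sum.inl 0) (Sum.inl 0) * g (Sum.inl 1) (Sum.inr 0) - g (Sum.inl 0) (Sum.inl 1) * g (Sum.inl 1) (Sum.inr 1) + g (Sum.inl 0) (Sum.inr 0) * g (Sum.inl 1) (Sum.inl 0) + g (Sum.inl 0) (Sum.inr 1) * g (Sum.inl 1) (Sum.inl 1) = (g * Matrix.J (Fin 2) F * g.transpose) (Sum.inl 0) (Sum.inl 1)
        - Matrix.J (Fin 2) F (Sum.inl 0) (Sum.inl 1) := by
      simp [Matrix.mul_apply, Fintype.sum_sum_type, Fin.sum_univ_two, Matrix.J, Matrix.one_apply]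
      try ring
    rw [h, hg, sub_self]
  have r02 : 1 - g (Sum.inl 0) (Sum.inl 0) * g (Sum.inr 0) (Sum.inr 0) - g (Sum.inl 0) (Sum.inl 1) * g (Sum.inr 0) (Sum.inr 1) + g (Sum.inl 0) (Sum.inr 0) * g (Sum.inr 0) (Sum.inl 0) + g (Sum.inl 0) (Sum.inr 1) * g (Sum.inr 0) (Sum.inl 1) = 0 := by
    have h : 1 - g (Sum.inl 0) (Sum.inl 0) * g (Sum.inr 0) (Sum.inr 0) - g (Sum.inl 0) (Sum.inl 1) * g (Sum.inr 0) (Sum.inr 1) + g (Sum.inl 0) (Sum.inr 0) * g (Sum.inr 0) (Sum.inl 0) + g (Sum.inl 0) (Sum.inr 1) * g (Sum.inr 0) (Sum.inl 1) = (g * Matrix.J (Fin 2) F * g.transpose) (Sum.inl 0) (Sum.inr 0)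
        - Matrix.J (Fin 2) F (Sum.inl 0) (Sum.inr 0) := by
      simp [Matrix.mul_apply, Fintype.sum_sum_type, Fin.sum_univ_two, Matrix.J, Matrix.one_apply]
      try ring
    rw [h, hg, sub_self]
  have r03 : -g (Sum.inl 0) (Sum.inl 0) * g (Sum.inr 1) (Sum.inr 0) - g (Sum.inl 0) (Sum.inl 1) * g (Sum.inr 1) (Sum.inr 1) + g (Sum.inl 0) (Sum.inr 0) * g (Sum.inr 1) (Sum.inl 0) + g (Sum.inl 0) (Sum.inr 1) * g (Sum.inr 1) (Sum.inl 1) = 0 := by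
    have h : -g (Sum.inl 0) (Sum.inl 0) * g (Sum.inr 1) (Sum.inr 0) - g (Sum.inl 0) (Sum.inl 1) * g (Sum.inr 1) (Sum.inr 1) + g (Sum.inl 0) (Sum.inr 0) * g (Sum.inr 1) (Sum.inl 0) + g (Sum.inl 0) (Sum.inr 1) * g (Sum.inr 1) (Sum.inl 1) = (g * Matrix.J (Fin 2) F * g.transpose) (Sum.inl 0) (Sum.inr 1)
        - Matrix.J (Fin 2) F (Sum.inl 0) (Sum.inr 1) := by
      simp [Matrix.mul_apply, Fintype.sum_sum_type, Fin.sum_univ_two, Matrix.J, Matrix.one_apply]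
      try ring
    rw [h, hg, sub_self]
  have r12 : -g (Sum.inl 1) (Sum.inl 0) * g (Sum.inr 0) (Sum.inr 0) - g (Sum.inl 1) (Sum.inl 1) * g (Sum.inr 0) (Sum.inr 1) + g (Sum.inl 1) (Sum.inr 0) * g (Sum.inr 0) (Sum.inl 0) + g (Sum.inl 1) (Sum.inr 1) * g (Sum.inr 0) (Sum.inl 1) = 0 := by
    have h : -g (Sum.inl 1) (Sum.inl 0) * g (Sum.inr 0) (Sum.inr 0) - g (Sum.inl 1) (Sum.inl 1) * g (Sum.inr 0) (Sum.inr 1) + g (Sum.inl 1) (Sum.inr 0) * g (Sum.inr 0) (Sum.inl 0) + g (Sum.inl 1) (Sum.inr 1) * g (Sum.inr 0) (Sum.inl 1) = (g * Matrix.J (Fin 2) F * g.transpose) (Sum.inl 1) (Sum.inr 0)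
        - Matrix.J (Fin 2) F (Sum.inl 1) (Sum.inr 0) := by
      simp [Matrix.mul_apply, Fintype.sum_sum_type, Fin.sum_univ_two, Matrix.J, Matrix.one_apply]
      try ring
    rw [h, hg, sub_self]
  have r13 : 1 - g (Sum.inl 1) (Sum.inl 0) * g (Sum.inr 1) (Sum.inr 0) - g (Sum.inl 1) (Sum.inl 1) * g (Sum.inr 1) (Sum.inr 1) + g (Sum.inl 1) (Sum.inr 0) * g (Sum.inr 1) (Sum.inl 0) + g (Sum.inl 1) (Sum.inr 1) * g (Sum.inr 1) (Sum.inl 1) = 0 := by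
    have h : 1 - g (Sum.inl 1) (Sum.inl 0) * g (Sum.inr 1) (Sum.inr 0) - g (Sum.inl 1) (Sum.inl 1) * g (Sum.inr 1) (Sum.inr 1) + g (Sum.inl 1) (Sum.inr 0) * g (Sum.inr 1) (Sum.inl 0) + g (Sum.inl 1) (Sum.inr 1) * g (Sum.inr 1) (Sum.inl 1) = (g * Matrix.J (Fin 2) F * g.transpose) (Sum.inl 1) (Sum.inr 1)
        - Matrix.J (Fin 2) F (Sum.inl 1) (Sum.inr 1) := by
      simp [Matrix.mul_apply, Fintype.sum_sum_type, Fin.sum_univ_two, Matrix.J, Matrix.one_apply]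
      try ring
    rw [h, hg, sub_self]
  have r23 : -g (Sum.inr 0) (Sum.inl 0) * g (Sum.inr 1) (Sum.inr 0) - g (Sum.inr 0) (Sum.inl 1) * g (Sum.inr 1) (Sum.inr 1) + g (Sum.inr 0) (Sum.inr 0) * g (Sum.inr 1) (Sum.inl 0) + g (Sum.inr 0) (Sum.inr 1) * g (Sum.inr 1) (Sum.inl 1) = 0 := by
    have h : -g (Sum.inr 0) (Sum.inl 0) * g (Sum.inr 1) (Sum.inr 0) - g (Sum.inr 0) (Sum.inl 1) * g (Sum.inr 1) (Sum.inr 1) + g (Sum.inr 0) (Sum.inr 0) * g (Sum.inr 1) (Sum.inl 0) + g (Sum.inr 0) (Sum.inr 1) * g (Sum.inr 1) (Sum.inl 1) = (g * Matrix.J (Fin 2) F * g.transpose) (Sum.inr 0) (Sum.inr 1)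
        - Matrix.J (Fin 2) F (Sum.inr 0) (Sum.inr 1) := by
      simp [Matrix.mul_apply, Fintype.sum_sum_type, Fin.sum_univ_two, Matrix.J, Matrix.one_apply]
      try ring
    rw [h, hg, sub_self]
  have h00 : phiMat (phiMat g) (Sum.inl 0) (Sum.inl 0) = g (Sum.inl 0) (Sum.inl 0) ^ 2 := by
    simp only [phiMat_apply, p0, p1, p2, p3]
    linear_combination (g (Sum.inl 0) (Sum.inl 0) * g (Sum.inr 1) (Sum.inl 0)) * r01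
      + (g (Sum.inl 0) (Sum.inl 0) * g (Sum.inl 1) (Sum.inl 0)) * r03
      + (g (Sum.inl 0) (Sum.inl 0) * g (Sum.inl 0) (Sum.inl 0)) * r13
      + (-g (Sum.inl 0) (Sum.inl 0) * g (Sum.inl 0) (Sum.inl 0) + g (Sum.inl 0) (Sum.inl 0) * g (Sum.inl 0) (Sum.inl 0) * g (Sum.inl 1) (Sum.inl 0) * g (Sum.inr 1) (Sum.inr 0) + g (Sum.inl 0) (Sum.inl 0) * g (Sum.inl 0) (Sum.inl 0) * g (Sum.inl 1) (Sum.inl 1) * g (Sum.inr 1) (Sum.inr 1) - g (Sum.inl 0) (Sum.inl 0) * g (Sum.inl 0) (Sum.inl 0) * g (Sum.inl 1) (Sum.inr 1) * g (Sum.inr 1) (Sum.inl 1) + g (Sum.inl 0) (Sum.inl 0) * g (Sum.inl 0) (Sum.inl 1) * g (Sum.inl 1) (Sum.inr 1) * g (Sum.inr 1) (Sum.inl 0) - g (Sum.inl 0) (Sum.inl 0) * g (Sum.inl 0) (Sum.inr 0) * g (Sum.inl 1) (Sum.inl 0) * g (Sum.inr 1) (Sum.inl 0) - g (Sum.inl 0) (Sum.inl 0) * g (Sum.inl 0) (Sum.inr 1) * g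 (Sum.inl 1) (Sum.inl 1) * g (Sum.inr 1) (Sum.inl 0)) * h2
  have h01 : phiMat (phiMat g) (Sum.inl 0) (Sum.inl 1) = g (Sum.inl 0) (Sum.inl 1) ^ 2 := by
    simp only [phiMat_apply, p0, p1, p2, p3]
    linear_combination (g (Sum.inl 0) (Sum.inl 1) * g (Sum.inr 1) (Sum.inl 1)) * r01
      + (g (Sum.inl 0) (Sum.inl 1) * g (Sum.inl 1) (Sum.inl 1)) * r03
      + (g (Sum.inl 0) (Sum.inl 1) * g (Sum.inl 0) (Sum.inl 1)) * r13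
      + (g (Sum.inl 0) (Sum.inl 0) * g (Sum.inl 0) (Sum.inl 1) * g (Sum.inl 1) (Sum.inl 1) * g (Sum.inr 1) (Sum.inr 0) - g (Sum.inl 0) (Sum.inl 1) * g (Sum.inl 0) (Sum.inl 1) + g (Sum.inl 0) (Sum.inl 1) * g (Sum.inl 0) (Sum.inl 1) * g (Sum.inl 1) (Sum.inl 1) * g (Sum.inr 1) (Sum.inr 1) - g (Sum.inl 0) (Sum.inl 1) * g (Sum.inl 0) (Sum.inr 0) * g (Sum.inl 1) (Sum.inl 1) * g (Sum.inr 1) (Sum.inl 0) - g (Sum.inl 0) (Sum.inl 1) * g (Sum.inl 0) (Sum.inr 1) * g (Sum.inl 1) (Sum.inl 1) * g (Sum.inr 1) (Sum.inl 1)) * h2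
  have h02 : phiMat (phiMat g) (Sum.inl 0) (Sum.inr 0) = g (Sum.inl 0) (Sum.inr 0) ^ 2 := by
    simp only [phiMat_apply, p0, p1, p2, p3]
    linear_combination (g (Sum.inl 0) (Sum.inr 0) * g (Sum.inr 1) (Sum.inr 0)) * r01
      + (g (Sum.inl 0) (Sum.inr 0) * g (Sum.inl 1) (Sum.inr 0)) * r03
      + (g (Sum.inl 0) (Sum.inr 0) * g (Sum.inl 0) (Sum.inr 0)) * r13
      + (g (Sum.inl 0) (Sum.inl 0) * g (Sum.inl 0) (Sum.inr 0) * g (Sum.inl 1) (Sum.inr 0) * g (Sum.inr 1) (Sum.inr 0) + g (Sum.inl 0) (Sum.inl 1) * g (Sum.inl 0) (Sum.inr 0) * g (Sum.inl 1) (Sum.inr 1) * g (Sum.inr 1) (Sum.inr 0) - g (Sum.inl 0) (Sum.inr 0) * g (Sum.inl 0) (Sum.inr 0) + g (Sum.inl 0) (Sum.inr 0) * g (Sum.inl 0) (Sum.inr 0) * g (Sum.inl 1) (Sum.inl 1) * g (Sum.inr 1) (Sum.inr 1) - g (Sum.inl 0) (Sum.inr 0) * g (Sum.inl 0) (Sum.inr 0) * g (Sum.inl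 1) (Sum.inr 0) * g (Sum.inr 1) (Sum.inl 0) - g (Sum.inl 0) (Sum.inr 0) * g (Sum.inl 0) (Sum.inr 0) * g (Sum.inl 1) (Sum.inr 1) * g (Sum.inr 1) (Sum.inl 1) - g (Sum.inl 0) (Sum.inr 0) * g (Sum.inl 0) (Sum.inr 1) * g (Sum.inl 1) (Sum.inl 1) * g (Sum.inr 1) (Sum.inr 0)) * h2
  have h03 : phiMat (phiMat g) (Sum.inl 0) (Sum.inr 1) = g (Sum.inl 0) (Sum.inr 1) ^ 2 := by
    simp only [phiMat_apply, p0, p1, p2, p3]
    linear_combination (g (Sum.inl 0) (Sum.inr 1) * g (Sum.inr 1) (Sum.inr 1)) * r01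
      + (g (Sum.inl 0) (Sum.inr 1) * g (Sum.inl 1) (Sum.inr 1)) * r03
      + (g (Sum.inl 0) (Sum.inr 1) * g (Sum.inl 0) (Sum.inr 1)) * r13
      + (g (Sum.inl 0) (Sum.inl 0) * g (Sum.inl 0) (Sum.inr 1) * g (Sum.inl 1) (Sum.inr 0) * g (Sum.inr 1) (Sum.inr 1) + g (Sum.inl 0) (Sum.inl 1) * g (Sum.inl 0) (Sum.inr 1) * g (Sum.inl 1) (Sum.inr 1) * g (Sum.inr 1) (Sum.inr 1) - g (Sum.inl 0) (Sum.inr 0) * g (Sum.inl 0) (Sum.inr 1) * g (Sum.inl 1) (Sum.inl 0) * g (Sum.inr 1) (Sum.inr 1) - g (Sum.inl 0) (Sum.inr 1) * g (Sum.inl 0) (Sum.inr 1) + g (Sum.inl 0) (Sum.inr 1) * g (Sum.inl 0) (Sum.inr 1) * g (Sum.inl 1) (Sum.inl 0) * g (Sum.inr 1) (Sum.inr 0) - g (Sum.inl 0) (Sum.inr 1) * g (Sum.inl 0) (Sum.inr 1) * g (Sum.inl 1) (Sum.inr 0) * g (Sum.inr 1) (Sum.inl 0) - g (Sum.inl 0) (Sum.inr 1) * g (Sum.inl 0) (Sum.inr 1) * g (Sum.inl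 1) (Sum.inr 1) * g (Sum.inr 1) (Sum.inl 1)) * h2
  have h10 : phiMat (phiMat g) (Sum.inl 1) (Sum.inl 0) = g (Sum.inl 1) (Sum.inl 0) ^ 2 := by
    simp only [phiMat_apply, p0, p1, p2, p3]
    linear_combination (g (Sum.inl 1) (Sum.inl 0) * g (Sum.inr 0) (Sum.inl 0)) * r01
      + (g (Sum.inl 1) (Sum.inl 0) * g (Sum.inl 1) (Sum.inl 0)) * r02
      + (g (Sum.inl 0) (Sum.inl 0) * g (Sum.inl 1) (Sum.inl 0)) * r12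
      + (g (Sum.inl 0) (Sum.inl 0) * g (Sum.inl 1) (Sum.inl 0) * g (Sum.inl 1) (Sum.inl 0) * g (Sum.inr 0) (Sum.inr 0) + g (Sum.inl 0) (Sum.inl 0) * g (Sum.inl 1) (Sum.inl 0) * g (Sum.inl 1) (Sum.inl 1) * g (Sum.inr 0) (Sum.inr 1) - g (Sum.inl 0) (Sum.inl 0) * g (Sum.inl 1) (Sum.inl 0) * g (Sum.inl 1) (Sum.inr 1) * g (Sum.inr 0) (Sum.inl 1) + g (Sum.inl 0) (Sum.inl 1) * g (Sum.inl 1) (Sum.inl 0) * g (Sum.inl 1) (Sum.inr 1) * g (Sum.inr 0) (Sum.inl 0) - g (Sum.inl 0) (Sum.inr 0) * g (Sum.inl 1) (Sum.inl 0) * g (Sum.inl 1) (Sum.inl 0) * g (Sum.inr 0) (Sum.inl 0) - g (Sum.inl 0) (Sum.inr 1) * g (Sum.inl 1) (Sum.inl 0) * g (Sum.inl 1) (Sum.inl 1) * g (Sum.inr 0) (Sum.inl 0) - g (Sum.inl 1) (Sum.inl 0) * g (Sum.inl 1) (Sum.inl 0)) * h2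
  have h11 : phiMat (phiMat g) (Sum.inl 1) (Sum.inl 1) = g (Sum.inl 1) (Sum.inl 1) ^ 2 := by
    simp only [phiMat_apply, p0, p1, p2, p3]
    linear_combination (g (Sum.inl 1) (Sum.inl 1) * g (Sum.inr 0) (Sum.inl 1)) * r01
      + (g (Sum.inl 1) (Sum.inl 1) * g (Sum.inl 1) (Sum.inl 1)) * r02
      + (g (Sum.inl 0) (Sum.inl 1) * g (Sum.inl 1) (Sum.inl 1)) * r12
      + (g (Sum.inl 0) (Sum.inl 0) * g (Sum.inl 1) (Sum.inl 1) * g (Sum.inl 1) (Sum.inl 1) * g (Sum.inr 0) (Sum.inr 0) + g (Sum.inl 0) (Sum.inl 1) * g (Sum.inl 1) (Sum.inl 1) * g (Sum.inl 1) (Sum.inl 1) * g (Sum.inr 0) (Sum.inr 1) - g (Sum.inl 0) (Sum.inr 0) * g (Sum.inl 1) (Sum.inl 1) * g (Sum.inl 1) (Sum.inl 1) * g (Sum.inr 0) (Sum.inl 0) - g (Sum.inl 0) (Sum.inr 1) * g (Sum.inl 1) (Sum.inl 1) * g (Sum.inl 1) (Sum.inl 1) * g (Sum.inr 0) (Sum.inl 1) - g (Sum.inl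 1) (Sum.inl 1) * g (Sum.inl 1) (Sum.inl 1)) * h2
  have h12 : phiMat (phiMat g) (Sum.inl 1) (Sum.inr 0) = g (Sum.inl 1) (Sum.inr 0) ^ 2 := by
    simp only [phiMat_apply, p0, p1, p2, p3]
    linear_combination (g (Sum.inl 1) (Sum.inr 0) * g (Sum.inr 0) (Sum.inr 0)) * r01
      + (g (Sum.inl 1) (Sum.inr 0) * g (Sum.inl 1) (Sum.inr 0)) * r02
      + (g (Sum.inl 0) (Sum.inr 0) * g (Sum.inl 1) (Sum.inr 0)) * r12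
      + (g (Sum.inl 0) (Sum.inl 0) * g (Sum.inl 1) (Sum.inr 0) * g (Sum.inl 1) (Sum.inr 0) * g (Sum.inr 0) (Sum.inr 0) + g (Sum.inl 0) (Sum.inl 1) * g (Sum.inl 1) (Sum.inr 0) * g (Sum.inl 1) (Sum.inr 1) * g (Sum.inr 0) (Sum.inr 0) + g (Sum.inl 0) (Sum.inr 0) * g (Sum.inl 1) (Sum.inl 1) * g (Sum.inl 1) (Sum.inr 0) * g (Sum.inr 0) (Sum.inr 1) - g (Sum.inl 0) (Sum.inr 0) * g (Sum.inl 1) (Sum.inr 0) * g (Sum.inl 1) (Sum.inr 0) * g (Sum.inr 0) (Sum.inl 0) - g (Sum.inl 0) (Sum.inr 0) * g (Sum.inl 1) (Sum.inr 0) * g (Sum.inl 1) (Sum.inr 1) * g (Sum.inr 0) (Sum.inl 1) - g (Sum.inl 0) (Sum.inr 1) * g (Sum.inl 1) (Sum.inl 1) * g (Sum.inl 1) (Sum.inr 0) * g (Sum.inr 0) (Sum.inr 0) - g (Sum.inl 1) (Sum.inr 0) * g (Sum.inl 1) (Sum.inr 0)) * h2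
  have h13 : phiMat (phiMat g) (Sum.inl 1) (Sum.inr 1) = g (Sum.inl 1) (Sum.inr 1) ^ 2 := by
    simp only [phiMat_apply, p0, p1, p2, p3]
    linear_combination (g (Sum.inl 1) (Sum.inr 1) * g (Sum.inr 0) (Sum.inr 1)) * r01
      + (g (Sum.inl 1) (Sum.inr 1) * g (Sum.inl 1) (Sum.inr 1)) * r02
      + (g (Sum.inl 0) (Sum.inr 1) * g (Sum.inl 1) (Sum.inr 1)) * r12
      + (g (Sum.inl 0) (Sum.inl 0) * g (Sum.inl 1) (Sum.inr 0) * g (Sum.inl 1) (Sum.inr 1) * g (Sum.inr 0) (Sum.inr 1) + g (Sum.inl 0) (Sum.inl 1) * g (Sum.inl 1) (Sum.inr 1) * g (Sum.inl 1) (Sum.inr 1) * g (Sum.inr 0) (Sum.inr 1) - g (Sum.inl 0) (Sum.inr 0) * g (Sum.inl 1) (Sum.inl 0) * g (Sum.inl 1) (Sum.inr 1) * g (Sum.inr 0) (Sum.inr 1) + g (Sum.inl 0) (Sum.inr 1) * g (Sum.inl 1) (Sum.inl 0) * g (Sum.inl 1) (Sum.inr 1) * g (Sum.inr 0) (Sum.inr 0) - g (Sum.inl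 0) (Sum.inr 1) * g (Sum.inl 1) (Sum.inr 0) * g (Sum.inl 1) (Sum.inr 1) * g (Sum.inr 0) (Sum.inl 0) - g (Sum.inl 0) (Sum.inr 1) * g (Sum.inl 1) (Sum.inr 1) * g (Sum.inl 1) (Sum.inr 1) * g (Sum.inr 0) (Sum.inl 1) - g (Sum.inl 1) (Sum.inr 1) * g (Sum.inl 1) (Sum.inr 1)) * h2
  have h20 : phiMat (phiMat g) (Sum.inr 0) (Sum.inl 0) = g (Sum.inr 0) (Sum.inl 0) ^ 2 := by
    simp only [phiMat_apply, p0, p1, p2, p3]
    linear_combination (g (Sum.inr 0) (Sum.inl 0) * g (Sum.inr 1) (Sum.inl 0)) * r12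
      + (g (Sum.inr 0) (Sum.inl 0) * g (Sum.inr 0) (Sum.inl 0)) * r13
      + (g (Sum.inl 1) (Sum.inl 0) * g (Sum.inr 0) (Sum.inl 0)) * r23
      + (g (Sum.inl 1) (Sum.inl 0) * g (Sum.inr 0) (Sum.inl 0) * g (Sum.inr 0) (Sum.inl 0) * g (Sum.inr 1) (Sum.inr 0) + g (Sum.inl 1) (Sum.inl 1) * g (Sum.inr 0) (Sum.inl 0) * g (Sum.inr 0) (Sum.inl 0) * g (Sum.inr 1) (Sum.inr 1) - g (Sum.inl 1) (Sum.inr 0) * g (Sum.inr 0) (Sum.inl 0) * g (Sum.inr 0) (Sum.inl 0) * g (Sum.inr 1) (Sum.inl 0) - g (Sum.inl 1) (Sum.inr 1) * g (Sum.inr 0) (Sum.inl 0) * g (Sum.inr 0) (Sum.inl 0) * g (Sum.inr 1) (Sum.inl 1) - g (Sum.inr 0) (Sum.inl 0) * g (Sum.inr 0) (Sum.inl 0)) * h2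
  have h21 : phiMat (phiMat g) (Sum.inr 0) (Sum.inl 1) = g (Sum.inr 0) (Sum.inl 1) ^ 2 := by
    simp only [phiMat_apply, p0, p1, p2, p3]
    linear_combination (g (Sum.inr 0) (Sum.inl 1) * g (Sum.inr 1) (Sum.inl 1)) * r12
      + (g (Sum.inr 0) (Sum.inl 1) * g (Sum.inr 0) (Sum.inl 1)) * r13
      + (g (Sum.inl 1) (Sum.inl 1) * g (Sum.inr 0) (Sum.inl 1)) * r23
      + (g (Sum.inl 1) (Sum.inl 0) * g (Sum.inr 0) (Sum.inl 1) * g (Sum.inr 0) (Sum.inr 0) * g (Sum.inr 1) (Sum.inl 1) + g (Sum.inl 1) (Sum.inl 1) * g (Sum.inr 0) (Sum.inl 0) * g (Sum.inr 0) (Sum.inl 1) * g (Sum.inr 1) (Sum.inr 0) + g (Sum.inl 1) (Sum.inl 1) * g (Sum.inr 0) (Sum.inl 1) * g (Sum.inr 0) (Sum.inl 1) * g (Sum.inr 1) (Sum.inr 1) - g (Sum.inl 1) (Sum.inl 1) * g (Sum.inr 0) (Sum.inl 1) * g (Sum.inr 0) (Sum.inr 0) * g (Sum.inr 1) (Sum.inl 0) - g (Sum.inl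 1) (Sum.inr 0) * g (Sum.inr 0) (Sum.inl 0) * g (Sum.inr 0) (Sum.inl 1) * g (Sum.inr 1) (Sum.inl 1) - g (Sum.inl 1) (Sum.inr 1) * g (Sum.inr 0) (Sum.inl 1) * g (Sum.inr 0) (Sum.inl 1) * g (Sum.inr 1) (Sum.inl 1) - g (Sum.inr 0) (Sum.inl 1) * g (Sum.inr 0) (Sum.inl 1)) * h2
  have h22 : phiMat (phiMat g) (Sum.inr 0) (Sum.inr 0) = g (Sum.inr 0) (Sum.inr 0) ^ 2 := by
    simp only [phiMat_apply, p0, p1, p2, p3]
    linear_combination (g (Sum.inr 0) (Sum.inr 0) * g (Sum.inr 1) (Sum.inr 0)) * r12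
      + (g (Sum.inr 0) (Sum.inr 0) * g (Sum.inr 0) (Sum.inr 0)) * r13
      + (g (Sum.inl 1) (Sum.inr 0) * g (Sum.inr 0) (Sum.inr 0)) * r23
      + (g (Sum.inl 1) (Sum.inl 0) * g (Sum.inr 0) (Sum.inr 0) * g (Sum.inr 0) (Sum.inr 0) * g (Sum.inr 1) (Sum.inr 0) + g (Sum.inl 1) (Sum.inl 1) * g (Sum.inr 0) (Sum.inr 0) * g (Sum.inr 0) (Sum.inr 0) * g (Sum.inr 1) (Sum.inr 1) - g (Sum.inl 1) (Sum.inr 0) * g (Sum.inr 0) (Sum.inr 0) * g (Sum.inr 0) (Sum.inr 0) * g (Sum.inr 1) (Sum.inl 0) - g (Sum.inl 1) (Sum.inr 1) * g (Sum.inr 0) (Sum.inr 0) * g (Sum.inr 0) (Sum.inr 0) * g (Sum.inr 1) (Sum.inl 1) - g (Sum.inr 0) (Sum.inr 0) * g (Sum.inr 0) (Sum.inr 0)) * h2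
  have h23 : phiMat (phiMat g) (Sum.inr 0) (Sum.inr 1) = g (Sum.inr 0) (Sum.inr 1) ^ 2 := by
    simp only [phiMat_apply, p0, p1, p2, p3]
    linear_combination (g (Sum.inr 0) (Sum.inr 1) * g (Sum.inr 1) (Sum.inr 1)) * r12
      + (g (Sum.inr 0) (Sum.inr 1) * g (Sum.inr 0) (Sum.inr 1)) * r13
      + (g (Sum.inl 1) (Sum.inr 1) * g (Sum.inr 0) (Sum.inr 1)) * r23
      + (g (Sum.inl 1) (Sum.inl 0) * g (Sum.inr 0) (Sum.inr 1) * g (Sum.inr 0) (Sum.inr 1) * g (Sum.inr 1) (Sum.inr 0) + g (Sum.inl 1) (Sum.inl 1) * g (Sum.inr 0) (Sum.inr 1) * g (Sum.inr 0) (Sum.inr 1) * g (Sum.inr 1) (Sum.inr 1) - g (Sum.inl 1) (Sum.inr 0) * g (Sum.inr 0) (Sum.inr 1) * g (Sum.inr 0) (Sum.inr 1) * g (Sum.inr 1) (Sum.inl 0) - g (Sum.inl 1) (Sum.inr 1) * g (Sum.inr 0) (Sum.inr 1) * g (Sum.inr 0) (Sum.inr 1) * g (Sum.inr 1) (Sum.inl 1) - g (Sum.inr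 0) (Sum.inr 1) * g (Sum.inr 0) (Sum.inr 1)) * h2
  have h30 : phiMat (phiMat g) (Sum.inr 1) (Sum.inl 0) = g (Sum.inr 1) (Sum.inl 0) ^ 2 := by
    simp only [phiMat_apply, p0, p1, p2, p3]
    linear_combination (g (Sum.inr 1) (Sum.inl 0) * g (Sum.inr 1) (Sum.inl 0)) * r02
      + (g (Sum.inr 0) (Sum.inl 0) * g (Sum.inr 1) (Sum.inl 0)) * r03
      + (g (Sum.inl 0) (Sum.inl 0) * g (Sum.inr 1) (Sum.inl 0)) * r23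
      + (g (Sum.inl 0) (Sum.inl 0) * g (Sum.inr 0) (Sum.inl 0) * g (Sum.inr 1) (Sum.inl 0) * g (Sum.inr 1) (Sum.inr 0) + g (Sum.inl 0) (Sum.inl 0) * g (Sum.inr 0) (Sum.inl 1) * g (Sum.inr 1) (Sum.inl 0) * g (Sum.inr 1) (Sum.inr 1) - g (Sum.inl 0) (Sum.inl 0) * g (Sum.inr 0) (Sum.inr 1) * g (Sum.inr 1) (Sum.inl 0) * g (Sum.inr 1) (Sum.inl 1) + g (Sum.inl 0) (Sum.inl 1) * g (Sum.inr 0) (Sum.inr 1) * g (Sum.inr 1) (Sum.inl 0) * g (Sum.inr 1) (Sum.inl 0) - g (Sum.inl 0) (Sum.inr 0) * g (Sum.inr 0) (Sum.inl 0) * g (Sum.inr 1) (Sum.inl 0) * g (Sum.inr 1) (Sum.inl 0) - g (Sum.inl 0) (Sum.inr 1) * g (Sum.inr 0) (Sum.inl 1) * g (Sum.inr 1) (Sum.inl 0) * g (Sum.inr 1) (Sum.inl 0) - g (Sum.inr 1) (Sum.inl 0) * g (Sum.inr 1) (Sum.inl 0)) * h2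
  have h31 : phiMat (phiMat g) (Sum.inr 1) (Sum.inl 1) = g (Sum.inr 1) (Sum.inl 1) ^ 2 := by
    simp only [phiMat_apply, p0, p1, p2, p3]
    linear_combination (g (Sum.inr 1) (Sum.inl 1) * g (Sum.inr 1) (Sum.inl 1)) * r02
      + (g (Sum.inr 0) (Sum.inl 1) * g (Sum.inr 1) (Sum.inl 1)) * r03
      + (g (Sum.inl 0) (Sum.inl 1) * g (Sum.inr 1) (Sum.inl 1)) * r23
      + (g (Sum.inl 0) (Sum.inl 0) * g (Sum.inr 0) (Sum.inl 1) * g (Sum.inr 1) (Sum.inl 1) * g (Sum.inr 1) (Sum.inr 0) + g (Sum.inl 0) (Sum.inl 1) * g (Sum.inr 0) (Sum.inl 1) * g (Sum.inr 1) (Sum.inl 1) * g (Sum.inr 1) (Sum.inr 1) - g (Sum.inl 0) (Sum.inr 0) * g (Sum.inr 0) (Sum.inl 1) * g (Sum.inr 1) (Sum.inl 0) * g (Sum.inr 1) (Sum.inl 1) - g (Sum.inl 0) (Sum.inr 1) * g (Sum.inr 0) (Sum.inl 1) * g (Sum.inr 1) (Sum.inl 1) * g (Sum.inr 1) (Sum.inl 1) - g (Sum.inr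 1) (Sum.inl 1) * g (Sum.inr 1) (Sum.inl 1)) * h2
  have h32 : phiMat (phiMat g) (Sum.inr 1) (Sum.inr 0) = g (Sum.inr 1) (Sum.inr 0) ^ 2 := by
    simp only [phiMat_apply, p0, p1, p2, p3]
    linear_combination (g (Sum.inr 1) (Sum.inr 0) * g (Sum.inr 1) (Sum.inr 0)) * r02
      + (g (Sum.inr 0) (Sum.inr 0) * g (Sum.inr 1) (Sum.inr 0)) * r03
      + (g (Sum.inl 0) (Sum.inr 0) * g (Sum.inr 1) (Sum.inr 0)) * r23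
      + (g (Sum.inl 0) (Sum.inl 0) * g (Sum.inr 0) (Sum.inr 0) * g (Sum.inr 1) (Sum.inr 0) * g (Sum.inr 1) (Sum.inr 0) + g (Sum.inl 0) (Sum.inl 1) * g (Sum.inr 0) (Sum.inr 1) * g (Sum.inr 1) (Sum.inr 0) * g (Sum.inr 1) (Sum.inr 0) + g (Sum.inl 0) (Sum.inr 0) * g (Sum.inr 0) (Sum.inl 1) * g (Sum.inr 1) (Sum.inr 0) * g (Sum.inr 1) (Sum.inr 1) - g (Sum.inl 0) (Sum.inr 0) * g (Sum.inr 0) (Sum.inr 0) * g (Sum.inr 1) (Sum.inl 0) * g (Sum.inr 1) (Sum.inr 0) - g (Sum.inl 0) (Sum.inr 0) * g (Sum.inr 0) (Sum.inr 1) * g (Sum.inr 1) (Sum.inl 1) * g (Sum.inr 1) (Sum.inr 0) - g (Sum.inl 0) (Sum.inr 1) * g (Sum.inr 0) (Sum.inl 1) * g (Sum.inr 1) (Sum.inr 0) * g (Sum.inr 1) (Sum.inr 0) - g (Sum.inr 1) (Sum.inr 0) * g (Sum.inr 1) (Sum.inr 0)) * h2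
  have h33 : phiMat (phiMat g) (Sum.inr 1) (Sum.inr 1) = g (Sum.inr 1) (Sum.inr 1) ^ 2 := by
    simp only [phiMat_apply, p0, p1, p2, p3]
    linear_combination (g (Sum.inr 1) (Sum.inr 1) * g (Sum.inr 1) (Sum.inr 1)) * r02
      + (g (Sum.inr 0) (Sum.inr 1) * g (Sum.inr 1) (Sum.inr 1)) * r03
      + (g (Sum.inl 0) (Sum.inr 1) * g (Sum.inr 1) (Sum.inr 1)) * r23
      + (g (Sum.inl 0) (Sum.inl 0) * g (Sum.inr 0) (Sum.inr 0) * g (Sum.inr 1) (Sum.inr 1) * g (Sum.inr 1) (Sum.inr 1) + g (Sum.inl 0) (Sum.inl 1) * g (Sum.inr 0) (Sum.inr 1) * g (Sum.inr 1) (Sum.inr 1) * g (Sum.inr 1) (Sum.inr 1) - g (Sum.inl 0) (Sum.inr 0) * g (Sum.inr 0) (Sum.inl 0) * g (Sum.inr 1) (Sum.inr 1) * g (Sum.inr 1) (Sum.inr 1) + g (Sum.inl 0) (Sum.inr 1) * g (Sum.inr 0) (Sum.inl 0) * g (Sum.inr 1) (Sum.inr 0) * g (Sum.inr 1) (Sum.inr 1) - g (Sum.inl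 0) (Sum.inr 1) * g (Sum.inr 0) (Sum.inr 0) * g (Sum.inr 1) (Sum.inl 0) * g (Sum.inr 1) (Sum.inr 1) - g (Sum.inl 0) (Sum.inr 1) * g (Sum.inr 0) (Sum.inr 1) * g (Sum.inr 1) (Sum.inl 1) * g (Sum.inr 1) (Sum.inr 1) - g (Sum.inr 1) (Sum.inr 1) * g (Sum.inr 1) (Sum.inr 1)) * h2
  ext I J
  rw [Matrix.map_apply]
  rcases I with i | i <;> rcases J with j | j <;> fin_cases i <;> fin_cases j
  · exact h00
  · exact h01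
  · exact h10
  · exact h11
  · exact h02
  · exact h03
  · exact h12
  · exact h13
  · exact h20
  · exact h21
  · exact h30
  · exact h31
  · exact h22
  · exact h23
  · exact h32
  · exact h33

end Cfsg.Agent.Helper19.SPX
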