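import Mathlib
import Cfsg.Agent.Lib.Helper40.Sp4Exc.Defs

/-!
Piece (M) `phiMat_mul` of helper40's lemma server "SPX" (rows S0814, S2600).
-/

set_option autoImplicit false

namespace Cfsg.Agent.Helper19.SPX

open Cfsg Cfsg.Agent.Helper40.Sp4Exc

/-- **(M) multiplicativity of the minors matrix on symplectic matrices in characteristic 2.** -/
theorem phiMat_mul {R : Type*} [CommRing R] (h2 : (2 : R) = 0)
    (g h : Matrix (Fin 2 ⊕ Fin 2) (Fin 2 ⊕ Fin 2) R)
    (hg : g * Matrix.J (Fin 2) R * g.transpose = Matrix.J (Fin 2) R)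
    (hh : h.transpose * Matrix.J (Fin 2) R * h = Matrix.J (Fin 2) R) :
    phiMat (g * h) = phiMat g * phiMat h := by
  ext I J
  have hJI : Matrix.J (Fin 2) R (pr I).1 (pr I).2 = 0 := by
    rcases I with i | i <;> fin_cases i <;> simp [pr, Matrix.J]
  have hJJ : Matrix.J (Fin 2) R (pr J).1 (pr J).2 = 0 := by
    rcases J with i | i <;> fin_cases i <;> simp [pr, Matrix.J]
  have e1 := congrFun (congrFun hg (pr I).1) (pr I).2
  have e2 := congrFun (congrFun hh (pr J).1) (pr J).2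
  rw [hJI] at e1
  rw [hJJ] at e2
  simp [Matrix.mul_apply, Fintype.sum_sum_type, Fin.sum_univ_two, Matrix.J, Matrix.one_apply]
    at e1 e2
  have p0 : pr (Sum.inl 0) = (Sum.inl 0, Sum.inl 1) := rfl
  have p1 : pr (Sum.inl 1) = (Sum.inl 0, Sum.inr 1) := rfl
  have p2 : pr (Sum.inr 0) = (Sum.inr 0, Sum.inr 1) := rfl
  have p3 : pr (Sum.inr 1) = (Sum.inl 1, Sum.inr 0) := rfl
  rw [Matrix.mul_apply]
  simp only [phiMat_apply, Fintype.sum_sum_type, Fin.sum_univ_two, Matrix.mul_apply, p0, p1, p2, p3]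
  linear_combination
    (-(h (Sum.inl 0) (pr J).1 * h (Sum.inr 0) (pr J).2
        - h (Sum.inl 0) (pr J).2 * h (Sum.inr 0) (pr J).1)) * e1
    + (-(g (pr I).1 (Sum.inl 1) * g (pr I).2 (Sum.inr 1)
        - g (pr I).1 (Sum.inr 1) * g (pr I).2 (Sum.inl 1))) * e2
    + (-((g (pr I).1 (Sum.inl 1) * g (pr I).2 (Sum.inr 1)
        - g (pr I).1 (Sum.inr 1) * g (pr I).2 (Sum.inl 1))
        * (h (Sum.inl 0) (pr J).1 * h (Sum.inr 0) (pr J).2
        - h (Sum.inl 0) (pr J).2 * h (Sum.inr 0) (pr J).1))) * h2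

end Cfsg.Agent.Helper19.SPX
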