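import Mathlib
import Cfsg.Agent.Lib.Helper62.SUO0

/-!
# SUO piece (E3) `exists_opp` for helper62's S2282 server
-/

set_option autoImplicit false
set_option linter.unusedSectionVars false
set_option linter.unusedVariables false
set_option quotPrecheck false

namespace Cfsg.Agent.Helper19.SUO

open Matrix Cfsg Cfsg.Agent.Helper13 Cfsg.Agent.Helper87.PsuA Cfsg.Agent.Helper62.SUO

section E
variable {F : Type*} [Field F] [Fintype F] {q n : ℕ} (hF : Fintype.card F = q ^ 2)
  {Hs : Subgroup ↥(Cfsg.SU n F q)}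

local notation "V" => Fin n → F
local notation "G" => ↥(Cfsg.SU n F q)
local notation "H" => Cfsg.hermForm n F q

include hF

/-- (E3) `e, v` isotropic nonzero, `v ⊥ e`: some `x` has `H x e ≠ 0`, `H x v ≠ 0` (one of
`x1`, `x2`, `x1 + x2`), then `v' = x + t • e` with `t * H e x + (t * H e x)^q = - H x x`
(`exists_trace`) -/
theorem exists_opp {e v : V} (he : e ≠ 0) (hv : v ≠ 0) (hee : H e e = 0) (hev : H e v = 0) :
    ∃ v' : V, H v' v' = 0 ∧ H v' e ≠ 0 ∧ H v' v ≠ 0 := by
  have nd : ∀ z : V, z ≠ 0 → ∃ x : V, H x z ≠ 0 := by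
    intro z hz
    obtain ⟨i, hi⟩ : ∃ i, z i ≠ 0 := by
      by_contra hcon
      push Not at hcon
      exact hz (funext hcon)
    refine ⟨Pi.single i 1, ?_⟩
    have hval : H (Pi.single i 1) z = (z i) ^ q := by
      unfold Cfsg.hermForm
      rw [Finset.sum_eq_single i]
      · simp
      · intro j _ hji
        simp [hji]
      · intro h
        exact absurd (Finset.mem_univ i) h
    rw [hval]
    exact pow_ne_zero _ hi
  obtain ⟨x1, h1⟩ := nd e he
  obtain ⟨x2, h2⟩ := nd v hv
  obtain ⟨x, hxe, hxv⟩ : ∃ x : V, H x e ≠ 0 ∧ H x v ≠ 0 := by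
    by_cases h1v : H x1 v = 0
    · by_cases h2e : H x2 e = 0
      · refine ⟨x1 + x2, ?_, ?_⟩
        · rw [hermForm_add_left, h2e, add_zero]
          exact h1
        · rw [hermForm_add_left, h1v, zero_add]
          exact h2
      · exact ⟨x2, h2e, h2⟩
    · exact ⟨x1, h1, h1v⟩
  have hex : H e x ≠ 0 := by
    rw [← hermForm_conj hF x e]
    exact pow_ne_zero _ hxe
  have hxxq : (-(H x x)) ^ q = -(H x x) := by
    rw [frob_neg hF, hermForm_conj hF]
  obtain ⟨a, ha⟩ := Cfsg.Agent.Helper87.PsuB0.exists_trace hF (-(H x x)) hxxq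
  have ht : a / H e x * H e x = a := div_mul_cancel₀ a hex
  have hxe' : H x e = (H e x) ^ q := (hermForm_conj hF e x).symm
  have ht2 : (a / H e x) ^ q * H x e = a ^ q := by
    rw [hxe', ← mul_pow, ht]
  refine ⟨x + (a / H e x) • e, ?_, ?_, ?_⟩
  · simp only [hermForm_add_left, hermForm_add_right hF, hermForm_smul_left,
      hermForm_smul_right, hee]
    linear_combination ha + ht2 + ht
  · rw [hermForm_add_left, hermForm_smul_left, hee, mul_zero, add_zero]
    exact hxe
  · rw [hermForm_add_left, hermForm_smul_left, hev, mul_zero, add_zero]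
    exact hxv

end E

end Cfsg.Agent.Helper19.SUO
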