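import Mathlib
import Cfsg.Agent.Lib.Helper17.Sieve
import Cfsg.Agent.Lib.Helper17.SylowInter

/-!
# No nonabelian simple group of order 5600 (helper19, exercise order for S0983)

`n_5 ∈ {16, 56}`, both `≢ 1 mod 25`: two Sylow 5-subgroups `P ≠ R` meet in `D` of order 5; `H = N(D)`
contains `P` and `R`, has order `400` and `16` Sylow 5-subgroups; Burnside: a normal 5-complement `T` of
order 16; `N_G(T)` contains `H` and a Sylow 2-subgroup of `G`, so has index `1` or `7`.
-/

set_option autoImplicit false

namespace Cfsg.Agent.Helper19.SV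

open Nat Cfsg.Agent.Helper17 Cfsg.Agent.Helper17.Sieve

/-- `|A| * |B : A| = |B|` -/
theorem h19_card_mul_relIndex {G : Type*} [Group G] (A B : Subgroup G) (h : A ≤ B) :
    Nat.card A * A.relIndex B = Nat.card B := by
  have := Subgroup.relIndex_mul_relIndex ⊥ A B bot_le h
  rwa [Subgroup.relIndex_bot_left, Subgroup.relIndex_bot_left] at this

theorem h19_card_inf {G : Type*} [Group G] [Finite G] (P R : Sylow 5 G)
    (hP : Nat.card (P : Subgroup G) = 25) (hR : Nat.card (R : Subgroup G) = 25) (hne : P ≠ R)
    (hidx : ((R : Subgroup G).subgroupOf (P : Subgroup G)).index ≤ 5) :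
    Nat.card ((P : Subgroup G) ⊓ (R : Subgroup G) : Subgroup G) = 5 := by
  have h1 := h19_card_mul_relIndex ((R : Subgroup G) ⊓ (P : Subgroup G)) (P : Subgroup G)
    inf_le_right
  rw [Subgroup.inf_relIndex_right, hP] at h1
  have hidx' : (R : Subgroup G).relIndex (P : Subgroup G) ≤ 5 := hidx
  have hne1 : (R : Subgroup G).relIndex (P : Subgroup G) ≠ 1 := by
    intro h
    rw [Subgroup.relIndex_eq_one] at h
    apply hne
    apply Sylow.ext
    exact Subgroup.eq_of_le_of_card_ge h (by rw [hP, hR])
  rw [inf_comm]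
  generalize (R : Subgroup G).relIndex (P : Subgroup G) = x at *
  generalize Nat.card ((R : Subgroup G) ⊓ (P : Subgroup G) : Subgroup G) = c at *
  interval_cases x <;> omega

theorem h19_normalizer_400 {G : Type*} [Group G] [Finite G] [IsSimpleGroup G]
    (hna : ¬ IsMulCommutative G) (hn0 : Nat.card G = 5600) (D : Subgroup G)
    (hD : Nat.card D = 5) (P R : Sylow 5 G) (hne : P ≠ R)
    (hP : Nat.card (P : Subgroup G) = 25)
    (hPH : (P : Subgroup G) ≤ Subgroup.normalizer (D : Set G))
    (hRH : (R : Subgroup G) ≤ Subgroup.normalizer (D : Set G)) :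
    Nat.card (Subgroup.normalizer (D : Set G)) = 400 ∧
      Nat.card (Sylow 5 (Subgroup.normalizer (D : Set G))) = 16 := by
  have : Fact (Nat.Prime 5) := ⟨by norm_num⟩
  set H := Subgroup.normalizer (D : Set G) with hH
  have hHtop : H ≠ ⊤ := by
    intro h
    have hnorm : D.Normal := Subgroup.normalizer_eq_top_iff.mp h
    exact normal_card_absurd D hnorm (by omega) (by omega)
  have hfac := two_mul_card_dvd_factorial hna H hHtop
  have hci := H.card_mul_index
  rw [hn0] at hci hfac
  let P' : Sylow 5 H := P.subtype hPH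
  let R' : Sylow 5 H := R.subtype hRH
  have hne' : P' ≠ R' := by
    intro h
    apply hne
    have h2 : ((P' : Subgroup H)) = (R' : Subgroup H) := by rw [h]
    rw [Sylow.coe_subtype, Sylow.coe_subtype, Subgroup.subgroupOf_inj] at h2
    rw [inf_of_le_left hPH, inf_of_le_left hRH] at h2
    exact Sylow.ext h2
  have hn1 : Nat.card (Sylow 5 H) ≠ 1 := by
    intro h
    have := (Nat.card_eq_one_iff_unique.1 h).1
    exact hne' (Subsingleton.elim _ _)
  have hmod : Nat.card (Sylow 5 H) % 5 = 1 := by
    have := card_sylow_modEq_one 5 H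
    rw [Nat.ModEq] at this
    omega
  have hdvd : Nat.card (Sylow 5 H) ∣ (P' : Subgroup H).index := P'.card_dvd_index
  have hP'card : Nat.card (P' : Subgroup H) = 25 := by
    rw [Sylow.coe_subtype, ← hP]
    exact Nat.card_congr (Subgroup.subgroupOfEquivOfLe hPH).toEquiv
  have hci' := (P' : Subgroup H).card_mul_index
  rw [hP'card] at hci'
  have hbi : (P' : Subgroup H).index * H.index = 224 := by
    have : 25 * ((P' : Subgroup H).index * H.index) = 25 * 224 := by
      rw [← mul_assoc, hci', hci]
    exact Nat.eq_of_mul_eq_mul_left (by norm_num) this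
  generalize (P' : Subgroup H).index = b at *
  generalize H.index = i at *
  generalize Nat.card (Sylow 5 H) = n at *
  have hi10 : 10 ≤ i := by
    by_contra hlt
    push Not at hlt
    interval_cases i <;> revert hfac <;> decide
  have hb22 : b ≤ 22 := by nlinarith
  have hbpos : 0 < b := by
    rcases Nat.eq_zero_or_pos b with h | h
    · rw [h] at hbi; omega
    · exact h
  have hnle : n ≤ b := Nat.le_of_dvd hbpos hdvd
  have key : b = 16 ∧ n = 16 := by
    interval_cases b <;> first | omega | (interval_cases n <;> omega)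
  obtain ⟨hb16, hn16⟩ := key
  refine ⟨?_, hn16⟩
  rw [← hci', hb16]

theorem h19_normal_compl {H : Type*} [Group H] [Finite H] (hH : Nat.card H = 400)
    (h16 : Nat.card (Sylow 5 H) = 16) : ∃ K : Subgroup H, K.Normal ∧ Nat.card K = 16 := by
  have : Fact (Nat.Prime 5) := ⟨by norm_num⟩
  obtain ⟨P⟩ : Nonempty (Sylow 5 H) := inferInstance
  have hn : Nat.card H = 5 ^ 2 * 16 := by norm_num [hH]
  have hPc : Nat.card (P : Subgroup H) = 5 ^ 2 := sylow_card_eq P hn (by norm_num)
  have hNd := card_normalizer_mul_sylow_count P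
  rw [h16, hH] at hNd
  have hN : Nat.card (Subgroup.normalizer ((P : Subgroup H) : Set H)) = 25 := by omega
  have heq : (P : Subgroup H) = Subgroup.normalizer ((P : Subgroup H) : Set H) :=
    Subgroup.eq_of_le_of_card_ge Subgroup.le_normalizer (by rw [hN, hPc]; norm_num)
  have hcomm : IsMulCommutative ↥(P : Subgroup H) :=
    IsPGroup.isMulCommutative_of_card_eq_prime_sq hPc
  have hPC : (P : Subgroup H) ≤ Subgroup.centralizer ((P : Subgroup H) : Set H) :=
    Subgroup.le_centralizer_iff_isMulCommutative.2 hcomm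
  have hNC : Subgroup.normalizer ((P : Subgroup H) : Set H) ≤
      Subgroup.centralizer ((P : Subgroup H) : Set H) := heq.symm.le.trans hPC
  have hcompl := MonoidHom.ker_transferSylow_isComplement' P hNC
  refine ⟨(MonoidHom.transferSylow P hNC).ker, inferInstance, ?_⟩
  have := hcompl.card_mul_card
  rw [hPc, hH] at this
  omega

theorem h19_final {G : Type*} [Group G] [Finite G] [IsSimpleGroup G]
    (hna : ¬ IsMulCommutative G) (hn0 : Nat.card G = 5600) (H : Subgroup G)
    (hH : Nat.card H = 400) (K : Subgroup H) (hKn : K.Normal) (hK : Nat.card K = 16) : False := by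
  set T : Subgroup G := K.map H.subtype with hT
  have hTc : Nat.card T = 16 := by
    rw [hT, Subgroup.card_map_of_injective H.subtype_injective, hK]
  have hHN : H ≤ Subgroup.normalizer (T : Set G) := by
    intro h hh
    apply Subgroup.mem_normalizer_fintype
    rintro n ⟨k, hk, rfl⟩
    refine ⟨⟨h, hh⟩ * k * ⟨h, hh⟩⁻¹, hKn.conj_mem k hk ⟨h, hh⟩, ?_⟩
    simp
  have : Fact (Nat.Prime 2) := ⟨Nat.prime_two⟩
  have hTp : IsPGroup 2 T := IsPGroup.of_card (n := 4) (by rw [hTc]; norm_num)
  obtain ⟨S, hTS⟩ := hTp.exists_le_sylow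
  have hSc : Nat.card (S : Subgroup G) = 2 ^ 5 :=
    sylow_card_eq S (k := 5) (m := 175) (by norm_num [hn0]) (by norm_num)
  have hrel := h19_card_mul_relIndex T (S : Subgroup G) hTS
  rw [hTc, hSc] at hrel
  have hrel2 : T.relIndex (S : Subgroup G) = 2 := by omega
  have hnorm : (T.subgroupOf (S : Subgroup G)).Normal := Subgroup.normal_of_index_eq_two hrel2
  have hSN : (S : Subgroup G) ≤ Subgroup.normalizer (T : Set G) :=
    (Subgroup.normal_subgroupOf_iff_le_normalizer hTS).1 hnorm
  set M := Subgroup.normalizer (T : Set G) with hM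
  have h400 : 400 ∣ Nat.card M := by rw [← hH]; exact Subgroup.card_dvd_of_le hHN
  have h32 : 32 ∣ Nat.card M := by
    have := Subgroup.card_dvd_of_le hSN
    rw [hSc] at this
    exact this
  have hci := M.card_mul_index
  rw [hn0] at hci
  by_cases hMtop : M = ⊤
  · have hnormT : T.Normal := Subgroup.normalizer_eq_top_iff.mp hMtop
    exact normal_card_absurd T hnormT (by omega) (by omega)
  · have hfac := two_mul_card_dvd_factorial hna M hMtop
    rw [hn0] at hfac
    have hidx1 : M.index ≠ 1 := fun h => hMtop (Subgroup.index_eq_one.mp h)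
    obtain ⟨a, ha⟩ := h400
    obtain ⟨b, hb⟩ := h32
    have hai : a * M.index = 14 := by
      have : 400 * (a * M.index) = 400 * 14 := by
        rw [← mul_assoc, ← ha, hci]
      exact Nat.eq_of_mul_eq_mul_left (by norm_num) this
    have hab : 400 * a = 32 * b := by rw [← ha, hb]
    generalize M.index = i at *
    have hile : i ≤ 14 := by
      rcases Nat.eq_zero_or_pos a with h | h
      · rw [h] at hai; omega
      · nlinarith
    interval_cases i <;> first | omega | (revert hfac; decide)

/-- No nonabelian simple group has order `5600 = 2^5 * 5^2 * 7`. -/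
theorem no_5600.{u} : NoSimple.{u} 5600 := by
  intro G _ _ _ hna hn0
  have : Fact (Nat.Prime 5) := ⟨by norm_num⟩
  have hn : Nat.card G = 5 ^ 2 * 224 := by norm_num [hn0]
  have hpm : ¬ 5 ∣ 224 := by norm_num
  obtain ⟨hd1, hd2⟩ := sylow_count (G := G) hn hpm
  have hne1 := sylow_count_ne_one (G := G) hn hpm two_ne_zero (by norm_num)
  have hmod25 : ¬ Nat.card (Sylow 5 G) ≡ 1 [MOD 5 ^ 2] := by
    have hle : Nat.card (Sylow 5 G) ≤ 224 := Nat.le_of_dvd (by norm_num) hd1
    rw [Nat.ModEq]
    generalize Nat.card (Sylow 5 G) = d at *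
    interval_cases d <;> omega
  obtain ⟨P⟩ : Nonempty (Sylow 5 G) := inferInstance
  obtain ⟨R, hPR, hidx⟩ := exists_sylow_large_inter 5 2 hmod25 P
  have hPc : Nat.card (P : Subgroup G) = 25 := by
    have := sylow_card_eq P hn hpm
    simpa using this
  have hRc : Nat.card (R : Subgroup G) = 25 := by
    have := sylow_card_eq R hn hpm
    simpa using this
  have hD := h19_card_inf P R hPc hRc hPR (by simpa using hidx)
  have hcommP : IsMulCommutative ↥(P : Subgroup G) :=
    IsPGroup.isMulCommutative_of_card_eq_prime_sq (p := 5) (by rw [hPc]; norm_num)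
  have hcommR : IsMulCommutative ↥(R : Subgroup G) :=
    IsPGroup.isMulCommutative_of_card_eq_prime_sq (p := 5) (by rw [hRc]; norm_num)
  have hPH : (P : Subgroup G) ≤
      Subgroup.normalizer (((P : Subgroup G) ⊓ (R : Subgroup G) : Subgroup G) : Set G) := by
    intro g hg
    apply Subgroup.mem_normalizer_fintype
    intro n hn
    have hnP : n ∈ (P : Subgroup G) := hn.1
    have hc : g * n = n * g := by
      have := hcommP.is_comm.comm ⟨g, hg⟩ ⟨n, hnP⟩
      exact congrArg Subtype.val this
    rw [hc, mul_assoc, mul_inv_cancel, mul_one]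
    exact hn
  have hRH : (R : Subgroup G) ≤
      Subgroup.normalizer (((P : Subgroup G) ⊓ (R : Subgroup G) : Subgroup G) : Set G) := by
    intro g hg
    apply Subgroup.mem_normalizer_fintype
    intro n hn
    have hnR : n ∈ (R : Subgroup G) := hn.2
    have hc : g * n = n * g := by
      have := hcommR.is_comm.comm ⟨g, hg⟩ ⟨n, hnR⟩
      exact congrArg Subtype.val this
    rw [hc, mul_assoc, mul_inv_cancel, mul_one]
    exact hn
  obtain ⟨h400, h16⟩ := h19_normalizer_400 hna hn0 _ hD P R hPR hPc hPH hRH
  obtain ⟨K, hKn, hK⟩ := h19_normal_compl h400 h16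
  exact h19_final hna hn0 _ h400 K hKn hK

end Cfsg.Agent.Helper19.SV
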