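import Cfsg.Agent.Lib.Helper39.StbAsm
import Cfsg.Agent.Lib.Helper39.Stb3Defs

/-!
Piece (LX) `exchange_left` of helper39's lemma server "STB3" (row S2311): the left-handed strong exchange
lemma, by reversing the word.
-/

set_option autoImplicit false
set_option linter.unusedSectionVars false

namespace Cfsg.Agent.Helper19.Stb3

open Cfsg Cfsg.Agent.Helper6 Cfsg.Agent.Helper6.Weyl Cfsg.Agent.Helper59.Poincare Cfsg.Agent.Helper39.Stb Matrix

section Weyl

variable {n : ℕ} (D : VDatum n)
variable (J K : Fin n → Prop) [DecidablePred J] [DecidablePred K]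

/-- (LX) the left-handed strong exchange lemma for arbitrary words. -/
theorem exchange_left {L : List (Fin n)} (hL : ∀ i ∈ L, J i) {t : Fin n} (ht : J t)
    (h : -((D.wpM L)⁻¹ • (Pi.single t 1 : Vec n)) ∈ D.posJ J) :
    ∃ L' : List (Fin n), L'.Sublist L ∧ L'.length + 1 = L.length ∧
      D.wpM L' = D.s t * D.wpM L := by
  have hL' : ∀ i ∈ L.reverse, J i := fun i hi => hL i (List.mem_reverse.1 hi)
  have h' : -(D.wpM L.reverse • (Pi.single t 1 : Vec n)) ∈ D.posJ J := by
    rw [D.wpM_reverse]; exact h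
  obtain ⟨L'', hsub, hlen, hw⟩ := D.exchange J hL' ht h'
  refine ⟨L''.reverse, ?_, ?_, ?_⟩
  · have := hsub.reverse
    rwa [List.reverse_reverse] at this
  · rw [List.length_reverse, hlen, List.length_reverse]
  · rw [D.wpM_reverse, hw, D.wpM_reverse, _root_.mul_inv_rev, inv_inv, D.s_inv]

end Weyl

end Cfsg.Agent.Helper19.Stb3
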