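import Cfsg.Agent.Lib.Helper39.StbDefs

/-!
Piece (W10) of helper39's lemma server "STB" (row S2327): the alternating sum of the Poincaré sums
over minimal coset representatives is `t ^ N`.
-/

set_option autoImplicit false
set_option linter.unusedSectionVars false

namespace Cfsg.Agent.Helper19.Stb

open Cfsg Cfsg.Agent.Helper6 Cfsg.Agent.Helper6.Weyl Cfsg.Agent.Helper59.Poincare Cfsg.Agent.Helper39.Stb Matrix

section Weyl

variable {n : ℕ} (D : VDatum n)

/-- (W10a) `minSum` as a sum over all of `Wf` with an indicator -/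
theorem minSum_eq_sum [Fintype D.Wf] (S : Finset (Fin n)) (t : ℕ) :
    (minSum D (fun i => i ∈ S) t : ℤ) =
      ∑ u : D.Wf, if S ⊆ Finset.univ.filter
          (fun j => ((u : D.Wf) : (Mat n)ˣ) • (Pi.single j 1 : Vec n) ∈ D.posJ VDatum.allJ)
        then (t : ℤ) ^ D.nJ VDatum.allJ ((u : D.Wf) : (Mat n)ˣ) else 0 := by
  classical
  have hiff : ∀ u : D.Wf, IsMin D (fun i => i ∈ S) ((u : D.Wf) : (Mat n)ˣ) ↔
      S ⊆ Finset.univ.filter
          (fun j => ((u : D.Wf) : (Mat n)ˣ) • (Pi.single j 1 : Vec n) ∈ D.posJ VDatum.allJ) := by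
    intro u
    constructor
    · intro h j hj
      exact Finset.mem_filter.2 ⟨Finset.mem_univ _, h j hj⟩
    · intro h j hj
      exact (Finset.mem_filter.1 (h hj)).2
  unfold minSum
  rw [finsum_eq_sum_of_fintype, Nat.cast_sum, ← Finset.sum_filter]
  have h2 := Finset.sum_subtype (F := inferInstance) (Finset.univ.filter fun u : D.Wf => S ⊆ Finset.univ.filter
      (fun j => ((u : D.Wf) : (Mat n)ˣ) • (Pi.single j 1 : Vec n) ∈ D.posJ VDatum.allJ))
    (p := fun u : D.Wf => IsMin D (fun i => i ∈ S) ((u : D.Wf) : (Mat n)ˣ))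
    (fun u => by rw [Finset.mem_filter, hiff u]; simp)
    (fun u : D.Wf => (t : ℤ) ^ D.nJ VDatum.allJ ((u : D.Wf) : (Mat n)ˣ))
  rw [h2]
  refine Finset.sum_congr rfl fun u _ => ?_
  push_cast
  rfl

/-- `R(u) = ∅` iff `u` is the longest element -/
theorem filter_eq_empty_iff_isLongest {u : (Mat n)ˣ} (hu : u ∈ D.Wf) :
    (Finset.univ.filter
        (fun j => u • (Pi.single j 1 : Vec n) ∈ D.posJ VDatum.allJ) = ∅) ↔ IsLongest D u := by
  rw [Finset.filter_eq_empty_iff]
  constructor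
  · intro h j
    rcases isRoot_cases D VDatum.allJ hu (D.single_mem_posJ VDatum.allJ (i := j) trivial) with h1 | h1
    · exact absurd h1 (h (Finset.mem_univ j))
    · exact h1
  · intro h j _ hj
    exact D.neg_not_mem_posJ VDatum.allJ hj (h j)

/-- (W10) `∑_S (-1)^{|S|} minSum_S(t) = t^N` -/
theorem alt_sum
    (hex : ∃ u ∈ D.Wf, IsLongest D u)
    (hlen : ∀ u ∈ D.Wf, IsLongest D u → D.nJ VDatum.allJ u = (D.posJ VDatum.allJ).card)
    (huniq : ∀ u ∈ D.Wf, ∀ u' ∈ D.Wf, IsLongest D u → IsLongest D u' → u = u')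
    (t : ℕ) :
    ∑ S ∈ (Finset.univ : Finset (Fin n)).powerset,
      (-1 : ℤ) ^ S.card * (minSum D (fun i => i ∈ S) t : ℤ) =
      (t : ℤ) ^ (D.posJ VDatum.allJ).card := by
  have hfin := finite_Wf D
  let instF : Fintype D.Wf := Fintype.ofFinite _
  simp_rw [minSum_eq_sum D _ t, Finset.mul_sum]
  rw [Finset.sum_comm]
  obtain ⟨u0, hu0, hL0⟩ := hex
  have hinner : ∀ u : D.Wf,
      ∑ S ∈ (Finset.univ : Finset (Fin n)).powerset, (-1 : ℤ) ^ S.card *
        (if S ⊆ Finset.univ.filter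
          (fun j => ((u : D.Wf) : (Mat n)ˣ) • (Pi.single j 1 : Vec n) ∈ D.posJ VDatum.allJ)
        then (t : ℤ) ^ D.nJ VDatum.allJ ((u : D.Wf) : (Mat n)ˣ) else 0) =
      if u = ⟨u0, hu0⟩ then (t : ℤ) ^ (D.posJ VDatum.allJ).card else 0 := by
    intro u
    have hsub : (Finset.univ.filter
          (fun j => ((u : D.Wf) : (Mat n)ˣ) • (Pi.single j 1 : Vec n) ∈ D.posJ VDatum.allJ)).powerset ⊆
        (Finset.univ : Finset (Fin n)).powerset :=
      Finset.powerset_mono.2 (Finset.subset_univ _)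
    rw [← Finset.sum_subset hsub]
    · have : ∀ S ∈ (Finset.univ.filter
          (fun j => ((u : D.Wf) : (Mat n)ˣ) • (Pi.single j 1 : Vec n) ∈ D.posJ VDatum.allJ)).powerset,
          (-1 : ℤ) ^ S.card * (if S ⊆ Finset.univ.filter
            (fun j => ((u : D.Wf) : (Mat n)ˣ) • (Pi.single j 1 : Vec n) ∈ D.posJ VDatum.allJ)
          then (t : ℤ) ^ D.nJ VDatum.allJ ((u : D.Wf) : (Mat n)ˣ) else 0) =
          (-1 : ℤ) ^ S.card * (t : ℤ) ^ D.nJ VDatum.allJ ((u : D.Wf) : (Mat n)ˣ) := by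
        intro S hS
        rw [if_pos (Finset.mem_powerset.1 hS)]
      rw [Finset.sum_congr rfl this, ← Finset.sum_mul, Finset.sum_powerset_neg_one_pow_card]
      by_cases hu : u = ⟨u0, hu0⟩
      · rw [if_pos hu]
        have hL : IsLongest D ((u : D.Wf) : (Mat n)ˣ) := by rw [hu]; exact hL0
        rw [if_pos ((filter_eq_empty_iff_isLongest D u.2).2 hL), one_mul, hlen _ u.2 hL]
      · rw [if_neg hu, if_neg, zero_mul]
        intro he
        have hL := (filter_eq_empty_iff_isLongest D u.2).1 he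
        exact hu (Subtype.ext (huniq _ u.2 _ hu0 hL hL0))
    · intro S _ hS
      rw [if_neg (fun h => hS (Finset.mem_powerset.2 h)), mul_zero]
  rw [Finset.sum_congr rfl (fun u _ => hinner u)]
  simp

end Weyl

end Cfsg.Agent.Helper19.Stb
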