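import Cfsg.Agent.Lib.Helper39.StbAsm
import Cfsg.Agent.Lib.Helper39.Stb3Defs
import Cfsg.Agent.Lib.Helper19.StbW10

/-!
Piece (SOL) `alt_sum_biMin` of helper39's lemma server "STB3" (row S2311): Solomon's alternating double sum
of the numbers of bi-minimal elements is `1`.
-/

set_option autoImplicit false
set_option linter.unusedSectionVars false

namespace Cfsg.Agent.Helper19.Stb3

open Cfsg Cfsg.Agent.Helper6 Cfsg.Agent.Helper6.Weyl Cfsg.Agent.Helper59.Poincare Cfsg.Agent.Helper39.Stb Matrix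

section Weyl

variable {n : ℕ} (D : VDatum n)

/-- the set of simple roots kept positive by `w` -/
def ascR (w : (Mat n)ˣ) : Finset (Fin n) :=
  Finset.univ.filter (fun j => w • (Pi.single j 1 : Vec n) ∈ D.posJ VDatum.allJ)

theorem isMin_iff_subset_ascR (S : Finset (Fin n)) (w : (Mat n)ˣ) :
    IsMin D (fun i => i ∈ S) w ↔ S ⊆ ascR D w := by
  constructor
  · intro h j hj
    exact Finset.mem_filter.2 ⟨Finset.mem_univ _, h j hj⟩
  · intro h j hj
    exact (Finset.mem_filter.1 (h hj)).2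

theorem ascR_eq_empty_iff {u : (Mat n)ˣ} (hu : u ∈ D.Wf) : ascR D u = ∅ ↔ IsLongest D u :=
  Cfsg.Agent.Helper19.Stb.filter_eq_empty_iff_isLongest D hu

/-- the alternating sum of the indicator of `S ⊆ A` over all subsets `S` -/
theorem sum_powerset_indicator (A : Finset (Fin n)) :
    ∑ S ∈ (Finset.univ : Finset (Fin n)).powerset,
      (-1 : ℤ) ^ S.card * (if S ⊆ A then (1 : ℤ) else 0) = if A = ∅ then 1 else 0 := by
  classical
  have hsub : A.powerset ⊆ (Finset.univ : Finset (Fin n)).powerset :=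
    Finset.powerset_mono.2 (Finset.subset_univ _)
  rw [← Finset.sum_subset hsub]
  · rw [← Finset.sum_powerset_neg_one_pow_card]
    refine Finset.sum_congr rfl fun S hS => ?_
    rw [if_pos (Finset.mem_powerset.1 hS), mul_one]
  · intro S _ hS
    rw [if_neg (fun h => hS (Finset.mem_powerset.2 h)), mul_zero]

/-- (SOL) Solomon's alternating double sum: only the longest element is bi-minimal for `(∅, ∅)`-ascents. -/
theorem alt_sum_biMin [Fintype D.Wf] :
    ∑ S₁ ∈ (Finset.univ : Finset (Fin n)).powerset, ∑ S₂ ∈ (Finset.univ : Finset (Fin n)).powerset,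
      (-1 : ℤ) ^ (S₁.card + S₂.card) *
        (Nat.card {w : D.Wf // IsBiMin D (fun i => i ∈ S₁) (fun i => i ∈ S₂) ((w : D.Wf) : (Mat n)ˣ)} : ℤ) = 1 := by
  classical
  -- the cardinality as a sum of indicators
  have hcard : ∀ S₁ S₂ : Finset (Fin n),
      (Nat.card {w : D.Wf // IsBiMin D (fun i => i ∈ S₁) (fun i => i ∈ S₂) ((w : D.Wf) : (Mat n)ˣ)} : ℤ)
        = ∑ w : D.Wf, (if S₁ ⊆ ascR D ((w : D.Wf) : (Mat n)ˣ)⁻¹ then (1 : ℤ) else 0) *
            (if S₂ ⊆ ascR D ((w : D.Wf) : (Mat n)ˣ) then (1 : ℤ) else 0) := by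
    intro S₁ S₂
    rw [Nat.card_eq_fintype_card, Fintype.card_subtype, Finset.card_filter, Nat.cast_sum]
    refine Finset.sum_congr rfl fun w _ => ?_
    have hiff : IsBiMin D (fun i => i ∈ S₁) (fun i => i ∈ S₂) ((w : D.Wf) : (Mat n)ˣ) ↔
        (S₁ ⊆ ascR D ((w : D.Wf) : (Mat n)ˣ)⁻¹ ∧ S₂ ⊆ ascR D ((w : D.Wf) : (Mat n)ˣ)) := by
      unfold IsBiMin
      rw [isMin_iff_subset_ascR, isMin_iff_subset_ascR]
    by_cases h1 : S₁ ⊆ ascR D ((w : D.Wf) : (Mat n)ˣ)⁻¹
    · by_cases h2 : S₂ ⊆ ascR D ((w : D.Wf) : (Mat n)ˣ)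
      · rw [if_pos (hiff.2 ⟨h1, h2⟩), if_pos h1, if_pos h2]; simp
      · rw [if_neg (fun h => h2 (hiff.1 h).2), if_pos h1, if_neg h2]; simp
    · rw [if_neg (fun h => h1 (hiff.1 h).1), if_neg h1]; simp
  -- the longest element
  obtain ⟨w0, hw0, hL0⟩ := Cfsg.Agent.Helper34.Stb.exists_longest D
  have hL0' : IsLongest D w0⁻¹ := fun j =>
    Cfsg.Agent.Helper95.Stb.longest_inv_neg D hw0 hL0 (D.single_mem_posJ VDatum.allJ (i := j) trivial)
  have hprod : ∀ w : D.Wf,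
      (if ascR D ((w : D.Wf) : (Mat n)ˣ)⁻¹ = ∅ then (1 : ℤ) else 0) *
        (if ascR D ((w : D.Wf) : (Mat n)ˣ) = ∅ then (1 : ℤ) else 0) =
      if w = ⟨w0, hw0⟩ then 1 else 0 := by
    intro w
    by_cases hw : w = ⟨w0, hw0⟩
    · rw [if_pos hw]
      have h1 : ((w : D.Wf) : (Mat n)ˣ) = w0 := by rw [hw]
      rw [h1, if_pos ((ascR_eq_empty_iff D ((D.Wf).inv_mem hw0)).2 hL0'),
        if_pos ((ascR_eq_empty_iff D hw0).2 hL0), mul_one]
    · rw [if_neg hw]
      have h2 : ¬ ascR D ((w : D.Wf) : (Mat n)ˣ) = ∅ := by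
        intro he
        have hL := (ascR_eq_empty_iff D w.2).1 he
        exact hw (Subtype.ext (Cfsg.Agent.Helper95.Stb.longest_unique D w.2 hw0 hL hL0))
      rw [if_neg h2, mul_zero]
  calc ∑ S₁ ∈ (Finset.univ : Finset (Fin n)).powerset,
        ∑ S₂ ∈ (Finset.univ : Finset (Fin n)).powerset,
        (-1 : ℤ) ^ (S₁.card + S₂.card) *
          (Nat.card {w : D.Wf // IsBiMin D (fun i => i ∈ S₁) (fun i => i ∈ S₂)
            ((w : D.Wf) : (Mat n)ˣ)} : ℤ)
      = ∑ S₁ ∈ (Finset.univ : Finset (Fin n)).powerset,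
          ∑ S₂ ∈ (Finset.univ : Finset (Fin n)).powerset, ∑ w : D.Wf,
          ((-1 : ℤ) ^ S₁.card * (if S₁ ⊆ ascR D ((w : D.Wf) : (Mat n)ˣ)⁻¹ then (1 : ℤ) else 0)) *
          ((-1 : ℤ) ^ S₂.card * (if S₂ ⊆ ascR D ((w : D.Wf) : (Mat n)ˣ) then (1 : ℤ) else 0)) := by
        refine Finset.sum_congr rfl fun S₁ _ => Finset.sum_congr rfl fun S₂ _ => ?_
        rw [hcard, Finset.mul_sum]
        refine Finset.sum_congr rfl fun w _ => ?_
        rw [pow_add]; ring
    _ = ∑ w : D.Wf,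
          (∑ S₁ ∈ (Finset.univ : Finset (Fin n)).powerset,
            (-1 : ℤ) ^ S₁.card * (if S₁ ⊆ ascR D ((w : D.Wf) : (Mat n)ˣ)⁻¹ then (1 : ℤ) else 0)) *
          (∑ S₂ ∈ (Finset.univ : Finset (Fin n)).powerset,
            (-1 : ℤ) ^ S₂.card * (if S₂ ⊆ ascR D ((w : D.Wf) : (Mat n)ˣ) then (1 : ℤ) else 0)) := by
        simp_rw [Finset.sum_mul_sum]
        symm
        rw [Finset.sum_comm]
        refine Finset.sum_congr rfl fun S₁ _ => ?_
        rw [Finset.sum_comm]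
    _ = ∑ w : D.Wf, (if w = ⟨w0, hw0⟩ then (1 : ℤ) else 0) := by
        refine Finset.sum_congr rfl fun w _ => ?_
        rw [sum_powerset_indicator, sum_powerset_indicator, hprod]
    _ = 1 := by simp

end Weyl

end Cfsg.Agent.Helper19.Stb3
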