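import Cfsg.Agent.Lib.Helper39.StbAsm
import Cfsg.Agent.Lib.Helper39.Stb3Defs

/-!
Piece (UN) `biMin_unique` of helper39's lemma server "STB3" (row S2311): uniqueness of the bi-minimal
element of a double coset, from (UN1).
-/

set_option autoImplicit false
set_option linter.unusedSectionVars false

namespace Cfsg.Agent.Helper19.Stb3

open Cfsg Cfsg.Agent.Helper6 Cfsg.Agent.Helper6.Weyl Cfsg.Agent.Helper59.Poincare Cfsg.Agent.Helper39.Stb Matrix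

section Weyl

variable {n : ℕ} (D : VDatum n)
variable (J K : Fin n → Prop) [DecidablePred J] [DecidablePred K]

/-- (UN) uniqueness of the bi-minimal element of a double coset. -/
theorem biMin_unique
    (hU1 : ∀ {d₀ e a b : (Mat n)ˣ}, d₀ ∈ D.Wf →
      (∀ a' ∈ D.W J, ∀ b' ∈ D.W K, D.nJ VDatum.allJ d₀ ≤ D.nJ VDatum.allJ (a' * d₀ * b')) →
      a ∈ D.W J → b ∈ D.W K → e = a * d₀ * b → IsBiMin D J K e → e = d₀)
    {d d' a b : (Mat n)ˣ} (hd : d ∈ D.Wf) (ha : a ∈ D.W J) (hb : b ∈ D.W K)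
    (hmin : IsBiMin D J K d) (hmin' : IsBiMin D J K d') (h : d' = a * d * b) : d' = d := by
  classical
  have hJle : D.W J ≤ D.Wf := D.W_mono VDatum.allJ J (fun _ _ => trivial)
  have hKle : D.W K ≤ D.Wf := D.W_mono VDatum.allJ K (fun _ _ => trivial)
  have hex : ∃ m : ℕ, ∃ a₀ ∈ D.W J, ∃ b₀ ∈ D.W K, D.nJ VDatum.allJ (a₀ * d * b₀) = m :=
    ⟨_, 1, (D.W J).one_mem, 1, (D.W K).one_mem, rfl⟩
  obtain ⟨a₀, ha₀, b₀, hb₀, hm⟩ := Nat.find_spec hex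
  have hmin₀ : ∀ a' ∈ D.W J, ∀ b' ∈ D.W K,
      D.nJ VDatum.allJ (a₀ * d * b₀) ≤ D.nJ VDatum.allJ (a' * (a₀ * d * b₀) * b') := by
    intro a' ha' b' hb'
    rw [hm]
    apply Nat.find_min' hex
    refine ⟨a' * a₀, (D.W J).mul_mem ha' ha₀, b₀ * b', (D.W K).mul_mem hb₀ hb', ?_⟩
    congr 1
    group
  have hd₀ : a₀ * d * b₀ ∈ D.Wf :=
    (D.Wf).mul_mem ((D.Wf).mul_mem (hJle ha₀) hd) (hKle hb₀)
  have h1 : d = a₀ * d * b₀ :=
    hU1 hd₀ hmin₀ ((D.W J).inv_mem ha₀) ((D.W K).inv_mem hb₀) (by group) hmin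
  have h2 : d' = a₀ * d * b₀ :=
    hU1 hd₀ hmin₀ ((D.W J).mul_mem ha ((D.W J).inv_mem ha₀))
      ((D.W K).mul_mem ((D.W K).inv_mem hb₀) hb) (by rw [h]; group) hmin'
  rw [h2, ← h1]

end Weyl

end Cfsg.Agent.Helper19.Stb3
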