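import Mathlib
import Cfsg.Prelude.Def_OddOrderLocal
import Cfsg.Agent.Lib.Helper98.TIHDefs

/-!
Piece (P6q) `exists_fpf_action` of helper98's lemma server "TIH" (row S4118).
-/

set_option autoImplicit false

namespace Cfsg.Agent.Helper19.TIH

open Cfsg.Agent.Helper98.TIH
open scoped commutatorElement

universe u

/-- (P6q) a minimal normal subgroup `X ≤ O` not inside `N_G(H)` gives a nontrivial quotient
`X / (X ⊓ N_G(H))` on which `H` acts fixed-point-freely. -/
theorem exists_fpf_action {G : Type u} [Group G] [Finite G] {H O : Subgroup G} (hH : Hyp H)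
    (hc : IsCore H O) (htop : O ⊔ Subgroup.normalizer (H : Set G) = ⊤)
    (hOs : Group.IsSolvable O)
    (hfix : ∀ {X : Type u} [Group X] [Finite X] (α : MulAut X) (p : ℕ), p.Prime → α ^ p = 1 →
      ∀ Y : Subgroup X, (∀ y ∈ Y, α y ∈ Y) → ¬ p ∣ Nat.card Y → ∀ x : X, x⁻¹ * α x ∈ Y →
        ∃ y ∈ Y, α (x * y) = x * y) :
    ∃ (W : Type u) (_ : Group W) (_ : Finite W) (_ : Nontrivial W) (ψ : H →* MulAut W),
      ∀ h : H, h ≠ 1 → ∀ w : W, ψ h w = w → w = 1 := by
  classical
  set N : Subgroup G := Subgroup.normalizer (H : Set G) with hN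
  have hHN : H ≤ N := Subgroup.le_normalizer
  have hON : ¬ O ≤ N := by
    intro hle
    have h1 : N = ⊤ := by rw [← htop]; exact (sup_eq_right.mpr hle).symm
    exact hH.nn (Subgroup.normalizer_eq_top_iff.mp h1)
  -- a minimal normal subgroup of `G` inside `O` not inside `N`
  let P : Subgroup G → Prop := fun X => X.Normal ∧ X ≤ O ∧ ¬ X ≤ N
  obtain ⟨X, hXP, hXmin⟩ :
      ∃ X : Subgroup G, P X ∧ ∀ Z : Subgroup G, P Z → Nat.card X ≤ Nat.card Z := by
    have hex : ∃ n, ∃ X : Subgroup G, P X ∧ Nat.card X = n :=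
      ⟨_, O, ⟨hc.normal, le_rfl, hON⟩, rfl⟩
    obtain ⟨X, hX, hXn⟩ := Nat.find_spec hex
    refine ⟨X, hX, fun Z hZ => ?_⟩
    rw [hXn]
    exact Nat.find_min' hex ⟨Z, hZ, rfl⟩
  have hXnorm : X.Normal := hXP.1
  have hXO : X ≤ O := hXP.2.1
  have hXN : ¬ X ≤ N := hXP.2.2
  -- the commutator subgroup of `X` lies in `N`
  have hcomm : ⁅X, X⁆ ≤ N := by
    by_contra hcon
    have hcn : (⁅X, X⁆ : Subgroup G).Normal := Subgroup.commutator_normal X X
    have hcle : ⁅X, X⁆ ≤ X := Subgroup.commutator_le_right X X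
    have h1 : Nat.card X ≤ Nat.card (⁅X, X⁆ : Subgroup G) :=
      hXmin _ ⟨hcn, hcle.trans hXO, hcon⟩
    have heq : ⁅X, X⁆ = X := Subgroup.eq_of_le_of_card_ge hcle h1
    have hXs : Group.IsSolvable X :=
      Group.isSolvable_of_isSolvable_injective (f := Subgroup.inclusion hXO)
        (Subgroup.inclusion_injective hXO)
    have hXnt : Nontrivial X := by
      rw [Subgroup.nontrivial_iff_ne_bot]
      rintro rfl
      exact hXN bot_le
    have hlt : _root_.commutator X < ⊤ := Group.IsSolvable.commutator_lt_top_of_nontrivial X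
    have hmap : (_root_.commutator X).map X.subtype = (⊤ : Subgroup X).map X.subtype := by
      rw [Subgroup.map_subtype_commutator, heq, ← MonoidHom.range_eq_map, Subgroup.range_subtype]
    exact hlt.ne (Subgroup.map_injective X.subtype_injective hmap)
  -- `Y' = X ⊓ N` as a subgroup of `X` is normal
  set Y' : Subgroup X := (X ⊓ N).subgroupOf X with hY'
  have hmemY : ∀ x : X, x ∈ Y' ↔ (x : G) ∈ N := by
    intro x
    rw [hY', Subgroup.mem_subgroupOf, Subgroup.mem_inf]
    exact ⟨fun h => h.2, fun h => ⟨x.2, h⟩⟩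
  have hYn : Y'.Normal := by
    constructor
    intro y hy x
    rw [hmemY] at hy ⊢
    have h1 : ⁅(x : G), (y : G)⁆ ∈ ⁅X, X⁆ := Subgroup.commutator_mem_commutator x.2 y.2
    have h2 := hcomm h1
    have h3 : ((x * y * x⁻¹ : X) : G) = ⁅(x : G), (y : G)⁆ * y := by
      simp [commutatorElement_def]
    rw [h3]
    exact N.mul_mem h2 hy
  -- conjugation by elements of `N` preserves `Y'`
  have hconjmem : ∀ n : G, n ∈ N → ∀ y : X, y ∈ Y' → MulAut.conjNormal n y ∈ Y' := by
    intro n hn y hy
    rw [hmemY] at hy ⊢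
    rw [MulAut.conjNormal_apply]
    exact N.mul_mem (N.mul_mem hn hy) (N.inv_mem hn)
  have hmapY : ∀ n : G, n ∈ N →
      Y'.map ((MulAut.conjNormal n : X ≃* X) : X →* X) = Y' := by
    intro n hn
    apply le_antisymm
    · rintro _ ⟨y, hy, rfl⟩
      exact hconjmem n hn y hy
    · intro y hy
      refine ⟨MulAut.conjNormal n⁻¹ y, hconjmem n⁻¹ (N.inv_mem hn) y hy, ?_⟩
      apply Subtype.ext
      simp
  -- the action
  let ψ : H →* MulAut (X ⧸ Y') :=
    { toFun := fun h => QuotientGroup.congr Y' Y' (MulAut.conjNormal (h : G)) (hmapY h (hHN h.2))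
      map_one' := by
        ext w
        induction w using QuotientGroup.induction_on with
        | H x =>
          rw [QuotientGroup.congr_mk]
          simp
      map_mul' := by
        intro a b
        ext w
        induction w using QuotientGroup.induction_on with
        | H x =>
          rw [MulAut.mul_apply, QuotientGroup.congr_mk, QuotientGroup.congr_mk,
            QuotientGroup.congr_mk]
          simp [map_mul] }
  have hψmk : ∀ (h : H) (x : X), ψ h (QuotientGroup.mk x)
      = QuotientGroup.mk (MulAut.conjNormal (h : G) x) := by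
    intro h x
    exact QuotientGroup.congr_mk Y' Y' (MulAut.conjNormal (h : G)) (hmapY h (hHN h.2)) x
  obtain ⟨x0, hx0X, hx0N⟩ := SetLike.not_le_iff_exists.mp hXN
  have hnt : Nontrivial (X ⧸ Y') := by
    refine ⟨⟨QuotientGroup.mk ⟨x0, hx0X⟩, 1, ?_⟩⟩
    rw [Ne, QuotientGroup.eq_one_iff, hmemY]
    exact hx0N
  refine ⟨X ⧸ Y', inferInstance, inferInstance, hnt, ψ, ?_⟩
  intro h hne w hw
  induction w using QuotientGroup.induction_on with
  | H x =>
    rw [QuotientGroup.eq_one_iff, hmemY]
    -- a power of `h` of prime order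
    have hord1 : orderOf h ≠ 1 := fun h1 => hne (orderOf_eq_one_iff.mp h1)
    obtain ⟨p, hp, hpd⟩ := Nat.exists_prime_and_dvd hord1
    set h' : H := h ^ (orderOf h / p) with hh'
    have hordh' : orderOf h' = p := orderOf_pow_orderOf_div (orderOf_pos h).ne' hpd
    have hh'ne : (h' : G) ≠ 1 := by
      intro h1
      have h2 : h' = 1 := Subtype.ext h1
      rw [h2, orderOf_one] at hordh'
      exact hp.one_lt.ne hordh'
    -- `ψ h'` fixes `mk x`
    have hpowfix : ∀ k : ℕ, (ψ h ^ k) (QuotientGroup.mk x) = QuotientGroup.mk x := by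
      intro k
      induction k with
      | zero => simp
      | succ k ih => rw [pow_succ, MulAut.mul_apply, hw, ih]
    have hw' : ψ h' (QuotientGroup.mk x) = QuotientGroup.mk x := by
      rw [hh', map_pow]; exact hpowfix _
    set α : MulAut X := MulAut.conjNormal ((h' : H) : G) with hα
    have hαp : α ^ p = 1 := by
      rw [hα, ← map_pow]
      have : ((h' : H) : G) ^ p = 1 := by
        rw [← Subgroup.coe_pow, ← hordh', pow_orderOf_eq_one]; rfl
      rw [this, map_one]
    have hYinv : ∀ y ∈ Y', α y ∈ Y' := fun y hy => hconjmem _ (hHN h'.2) y hy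
    have hpY : ¬ p ∣ Nat.card Y' := by
      intro hpY
      have h1 : Nat.card Y' ∣ Nat.card X := Subgroup.card_subgroup_dvd_card Y'
      have h2 : Nat.card X ∣ Nat.card O := Subgroup.card_dvd_of_le hXO
      have hpO : p ∣ Nat.card O := hpY.trans (h1.trans h2)
      have hpH : p ∣ Nat.card H := hpd.trans (orderOf_dvd_natCard h)
      have h3 := Nat.dvd_gcd hpO hpH
      rw [Nat.Coprime.gcd_eq_one hc.coprime] at h3
      exact hp.one_lt.ne' (Nat.dvd_one.mp h3)
    have hx : x⁻¹ * α x ∈ Y' := by
      rw [hψmk] at hw'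
      exact QuotientGroup.eq.mp hw'.symm
    obtain ⟨y, hyY, hy⟩ := hfix α p hp hαp Y' hYinv hpY x hx
    -- `g = x * y` commutes with `h'`
    have hg : ((h' : H) : G) * ((x * y : X) : G) * ((h' : H) : G)⁻¹ = ((x * y : X) : G) := by
      have := congrArg (Subtype.val) hy
      rwa [hα, MulAut.conjNormal_apply] at this
    have hgN : ((x * y : X) : G) ∈ N := by
      by_contra hgN
      apply hh'ne
      apply hH.ti _ hgN _ h'.2
      have h2 : ((x * y : X) : G) * ((h' : H) : G) * ((x * y : X) : G)⁻¹ = ((h' : H) : G) := by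
        have h3 : ((h' : H) : G) * ((x * y : X) : G) = ((x * y : X) : G) * ((h' : H) : G) := by
          calc ((h' : H) : G) * ((x * y : X) : G)
              = (((h' : H) : G) * ((x * y : X) : G) * ((h' : H) : G)⁻¹) * ((h' : H) : G) := by
                group
            _ = ((x * y : X) : G) * ((h' : H) : G) := by rw [hg]
        rw [← h3]; group
      rw [h2]; exact h'.2
    have hyN : (y : G) ∈ N := (hmemY y).mp hyY
    have : (x : G) = ((x * y : X) : G) * (y : G)⁻¹ := by
      rw [Subgroup.coe_mul]; group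
    rw [this]
    exact N.mul_mem hgN (N.inv_mem hyN)

end Cfsg.Agent.Helper19.TIH
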