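import Mathlib

set_option autoImplicit false

/-! Centraliser of a transvection in `SL_n(F)`: the normal self-centralising "row group". -/

namespace Cfsg.Agent.Helper19.TransvCent

open Matrix

variable {n : ℕ} {F : Type*} [Field F]

/-- `M e_i = e_i` and `r M = r` for every row vector `r` with `r_i = 0`
(i.e. `M = 1 + e_i aᵀ` with `a_i = 0`). -/
def IsRow (i : Fin n) (M : Matrix (Fin n) (Fin n) F) : Prop :=
  M *ᵥ Pi.single i 1 = Pi.single i 1 ∧ ∀ r : Fin n → F, r i = 0 → r ᵥ* M = r

lemma IsRow.mul {i : Fin n} {M N : Matrix (Fin n) (Fin n) F} (hM : IsRow i M) (hN : IsRow i N) :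
    IsRow i (M * N) := by
  refine ⟨?_, ?_⟩
  · rw [← Matrix.mulVec_mulVec, hN.1, hM.1]
  · intro r hr
    rw [← Matrix.vecMul_vecMul, hM.2 r hr, hN.2 r hr]

lemma IsRow.one {i : Fin n} : IsRow i (1 : Matrix (Fin n) (Fin n) F) :=
  ⟨Matrix.one_mulVec _, fun r _ => Matrix.vecMul_one r⟩

lemma IsRow.of_inv {i : Fin n} {M N : Matrix (Fin n) (Fin n) F} (hM : IsRow i M)
    (h1 : N * M = 1) (h2 : M * N = 1) : IsRow i N := by
  refine ⟨?_, ?_⟩
  · conv_lhs => rw [← hM.1]
    rw [Matrix.mulVec_mulVec, h1, Matrix.one_mulVec]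
  · intro r hr
    conv_lhs => rw [← hM.2 r hr]
    rw [Matrix.vecMul_vecMul, h2, Matrix.vecMul_one]

/-- Entry form of `M e_i = e_i`. -/
lemma col_of_mulVec {i : Fin n} {g : Matrix (Fin n) (Fin n) F}
    (h : g *ᵥ Pi.single i 1 = Pi.single i 1) (k : Fin n) : g k i = if k = i then 1 else 0 := by
  have := congrFun h k
  rw [Matrix.mulVec_single_one] at this
  simpa [Pi.single_apply] using this

lemma mulVec_of_col {i : Fin n} {g : Matrix (Fin n) (Fin n) F}
    (h : ∀ k, g k i = if k = i then 1 else 0) : g *ᵥ Pi.single i 1 = Pi.single i 1 := by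
  ext k
  rw [Matrix.mulVec_single_one]
  simp [Pi.single_apply, h k]

/-- Rows `k ≠ i` of a row matrix are standard. -/
lemma IsRow.row {i : Fin n} {g : Matrix (Fin n) (Fin n) F}
    (hg : IsRow i g) {k : Fin n} (hk : k ≠ i) (l : Fin n) :
    g k l = if k = l then 1 else 0 := by
  have := congrFun (hg.2 (Pi.single k 1) (by simp [hk.symm])) l
  rw [Matrix.single_one_vecMul] at this
  simpa [Pi.single_apply, eq_comm] using this

/-- Row matrices from entries. -/
lemma isRow_of_rows {i : Fin n} {g : Matrix (Fin n) (Fin n) F}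
    (hcol : ∀ k, g k i = if k = i then 1 else 0)
    (hrow : ∀ k, k ≠ i → ∀ l, g k l = if k = l then 1 else 0) :
    IsRow i g := by
  refine ⟨mulVec_of_col hcol, ?_⟩
  intro r hr
  ext m
  simp only [Matrix.vecMul, dotProduct]
  rw [Finset.sum_eq_single m]
  · by_cases hm : m = i
    · subst hm; rw [hr, zero_mul]
    · rw [hrow m hm m]; simp
  · intro k _ hkm
    by_cases hk : k = i
    · subst hk; rw [hr, zero_mul]
    · rw [hrow k hk m, if_neg hkm, mul_zero]
  · intro h; exact absurd (Finset.mem_univ m) h

/-- Conjugation by a matrix fixing `e_i` preserves row matrices. -/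
lemma IsRow.conj {i : Fin n} {g c d : Matrix (Fin n) (Fin n) F} (hg : IsRow i g)
    (hc : c *ᵥ Pi.single i 1 = Pi.single i 1) (hcd : c * d = 1) (hdc : d * c = 1) :
    IsRow i (c * g * d) := by
  have hd : d *ᵥ Pi.single i 1 = Pi.single i 1 := by
    conv_lhs => rw [← hc]
    rw [Matrix.mulVec_mulVec, hdc, Matrix.one_mulVec]
  refine ⟨?_, ?_⟩
  · rw [← Matrix.mulVec_mulVec, hd, ← Matrix.mulVec_mulVec, hg.1, hc]
  · intro r hr
    have hrc : (r ᵥ* c) i = 0 := by
      have : (r ᵥ* c) i = r ⬝ᵥ (c *ᵥ Pi.single i 1) := by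
        rw [Matrix.mulVec_single_one]; rfl
      rw [this, hc]
      simp [hr]
    rw [← Matrix.vecMul_vecMul, ← Matrix.vecMul_vecMul, hg.2 _ hrc, Matrix.vecMul_vecMul, hcd,
      Matrix.vecMul_one]

/-- In characteristic 2 a row matrix squares to 1. -/
lemma IsRow.mul_self {i : Fin n} {g : Matrix (Fin n) (Fin n) F} (hg : IsRow i g)
    (h2 : (1 : F) + 1 = 0) : g * g = 1 := by
  ext k l
  by_cases hk : k = i
  · subst hk
    rw [Matrix.mul_apply]
    -- row k of g = e_k + ρ' with ρ'_k = 0
    have hkk : g k k = 1 := by simpa using col_of_mulVec hg.1 k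
    rw [← Finset.add_sum_erase _ _ (Finset.mem_univ k)]
    have hrest : ∀ m ∈ Finset.univ.erase k, g k m * g m l = g k m * (if m = l then 1 else 0) := by
      intro m hm
      have hmk : m ≠ k := (Finset.mem_erase.mp hm).1
      rw [hg.row hmk l]
    rw [Finset.sum_congr rfl hrest, hkk, one_mul]
    by_cases hl : l = k
    · subst hl
      rw [hkk, Matrix.one_apply_eq]
      rw [Finset.sum_eq_zero, add_zero]
      intro m hm
      have hmk : m ≠ l := (Finset.mem_erase.mp hm).1
      rw [if_neg hmk, mul_zero]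
    · rw [Matrix.one_apply_ne (Ne.symm hl)]
      rw [Finset.sum_eq_single l]
      · rw [if_pos rfl, mul_one, ← two_mul]
        have : (2 : F) = 0 := by rw [← one_add_one_eq_two]; exact h2
        rw [this, zero_mul]
      · intro m _ hml
        rw [if_neg hml, mul_zero]
      · intro h
        exfalso; apply h
        exact Finset.mem_erase.mpr ⟨hl, Finset.mem_univ l⟩
  · rw [Matrix.mul_apply]
    have : ∀ m ∈ Finset.univ, g k m * g m l = (if k = m then 1 else 0) * g m l := by
      intro m _
      rw [hg.row hk m]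
    rw [Finset.sum_congr rfl this]
    simp only [ite_mul, one_mul, zero_mul, Finset.sum_ite_eq, Finset.mem_univ, if_true]
    rw [hg.row hk l, Matrix.one_apply]

/-! ### Commuting with a transvection -/

lemma single_comm_of_transvection_comm {a b : Fin n} {g : Matrix (Fin n) (Fin n) F}
    (hc : g * Matrix.transvection a b 1 = Matrix.transvection a b 1 * g) :
    g * Matrix.single a b 1 = Matrix.single a b 1 * g := by
  unfold Matrix.transvection at hc
  rw [mul_add, add_mul, mul_one, one_mul] at hc
  exact add_left_cancel hc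

/-- If `g` (of determinant 1, over a field with two elements) commutes with `1 + E_ab`,
then `g e_a = e_a`. -/
lemma mulVec_of_comm {a b : Fin n} {g : Matrix (Fin n) (Fin n) F}
    (hF : ∀ x : F, x = 0 ∨ x = 1) (hdet : g.det = 1)
    (hc : g * Matrix.transvection a b 1 = Matrix.transvection a b 1 * g) :
    g *ᵥ Pi.single a 1 = Pi.single a 1 := by
  have h := single_comm_of_transvection_comm hc
  have hcol : ∀ k, g k a = if k = a then g b b else 0 := by
    intro k
    have := congrFun (congrFun h k) b
    rw [Matrix.mul_single_apply_same, mul_one] at this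
    rw [this]
    by_cases hk : k = a
    · subst hk
      rw [Matrix.single_mul_apply_same, one_mul, if_pos rfl]
    · rw [Matrix.single_mul_apply_of_ne _ _ _ _ _ hk, if_neg hk]
  have hbb : g b b = 1 := by
    rcases hF (g b b) with h0 | h1
    · exfalso
      have : g.det = 0 := by
        apply Matrix.det_eq_zero_of_column_eq_zero a
        intro k
        rw [hcol k, h0]; simp
      rw [hdet] at this
      exact one_ne_zero this
    · exact h1
  apply mulVec_of_col
  intro k
  rw [hcol k, hbb]

/-- If `g` with `g_aa = 1` commutes with `1 + E_ab`, then row `b` of `g` is `e_bᵀ`. -/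
lemma row_of_comm {a b : Fin n} {g : Matrix (Fin n) (Fin n) F} (haa : g a a = 1)
    (hc : g * Matrix.transvection a b 1 = Matrix.transvection a b 1 * g) (m : Fin n) :
    g b m = if b = m then 1 else 0 := by
  have h := single_comm_of_transvection_comm hc
  have := congrFun (congrFun h a) m
  rw [Matrix.single_mul_apply_same, one_mul] at this
  rw [← this]
  by_cases hm : m = b
  · subst hm
    rw [Matrix.mul_single_apply_same, mul_one, haa, if_pos rfl]
  · rw [Matrix.mul_single_apply_of_ne _ _ _ _ _ hm, if_neg (Ne.symm hm)]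

/-- `1 + E_al` (`l ≠ a`) is a row matrix. -/
lemma isRow_transvection {a l : Fin n} (hal : a ≠ l) :
    IsRow a (Matrix.transvection a l (1 : F)) := by
  apply isRow_of_rows
  · intro k
    rw [Matrix.transvection, Matrix.add_apply, Matrix.one_apply, Matrix.single_apply]
    have : ¬ (a = k ∧ l = a) := fun h => hal h.2.symm
    rw [if_neg this, add_zero]
  · intro k hk m
    rw [Matrix.transvection, Matrix.add_apply, Matrix.one_apply, Matrix.single_apply]
    have : ¬ (a = k ∧ l = m) := fun h => hk h.1.symm
    rw [if_neg this, add_zero]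

/-- A row matrix commutes with `1 + E_ab` (`a ≠ b`). -/
lemma IsRow.comm_transvection {a b : Fin n} (hab : a ≠ b) {g : Matrix (Fin n) (Fin n) F}
    (hg : IsRow a g) : g * Matrix.transvection a b 1 = Matrix.transvection a b 1 * g := by
  unfold Matrix.transvection
  rw [mul_add, add_mul, mul_one, one_mul]
  congr 1
  ext k m
  by_cases hm : m = b
  · subst hm
    rw [Matrix.mul_single_apply_same, mul_one, col_of_mulVec hg.1 k]
    by_cases hk : k = a
    · subst hk
      rw [Matrix.single_mul_apply_same, one_mul, if_pos rfl, hg.row (Ne.symm hab) m, if_pos rfl]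
    · rw [Matrix.single_mul_apply_of_ne _ _ _ _ _ hk, if_neg hk]
  · rw [Matrix.mul_single_apply_of_ne _ _ _ _ _ hm]
    by_cases hk : k = a
    · subst hk
      rw [Matrix.single_mul_apply_same, one_mul, hg.row (Ne.symm hab) m, if_neg (Ne.symm hm)]
    · rw [Matrix.single_mul_apply_of_ne _ _ _ _ _ hk]

end Cfsg.Agent.Helper19.TransvCent
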