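import Mathlib
import Cfsg.Prelude.Def_Solvable
import Cfsg.Agent.Lib.Helper19.TransvCent

set_option autoImplicit false

/-! `C_C(O_2(C)) ≤ O_2(C)` for `C` the centraliser of a transvection in `SL_n(2)`. -/

namespace Cfsg.Agent.Helper19.TransvCent

open Matrix Cfsg

variable {n : ℕ} {F : Type*} [Field F]

lemma coe_inv_mul (g : Matrix.SpecialLinearGroup (Fin n) F) :
    ((g⁻¹ : Matrix.SpecialLinearGroup (Fin n) F) : Matrix (Fin n) (Fin n) F) *
      (g : Matrix (Fin n) (Fin n) F) = 1 := by
  rw [← Matrix.SpecialLinearGroup.coe_mul, inv_mul_cancel, Matrix.SpecialLinearGroup.coe_one]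

lemma coe_mul_inv (g : Matrix.SpecialLinearGroup (Fin n) F) :
    (g : Matrix (Fin n) (Fin n) F) *
      ((g⁻¹ : Matrix.SpecialLinearGroup (Fin n) F) : Matrix (Fin n) (Fin n) F) = 1 := by
  rw [← Matrix.SpecialLinearGroup.coe_mul, mul_inv_cancel, Matrix.SpecialLinearGroup.coe_one]

/-- The row group as a subgroup of `SL_n`. -/
def rowGroup (i : Fin n) : Subgroup (Matrix.SpecialLinearGroup (Fin n) F) where
  carrier := {g | IsRow i (g : Matrix (Fin n) (Fin n) F)}
  mul_mem' := by
    intro g h hg hh
    change IsRow i ((g * h : Matrix.SpecialLinearGroup (Fin n) F) : Matrix (Fin n) (Fin n) F)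
    rw [Matrix.SpecialLinearGroup.coe_mul]
    exact IsRow.mul hg hh
  one_mem' := by
    change IsRow i ((1 : Matrix.SpecialLinearGroup (Fin n) F) : Matrix (Fin n) (Fin n) F)
    rw [Matrix.SpecialLinearGroup.coe_one]
    exact IsRow.one
  inv_mem' := by
    intro g hg
    exact IsRow.of_inv hg (coe_inv_mul g) (coe_mul_inv g)

lemma mem_rowGroup {i : Fin n} {g : Matrix.SpecialLinearGroup (Fin n) F} :
    g ∈ rowGroup (F := F) i ↔ IsRow i (g : Matrix (Fin n) (Fin n) F) := Iff.rfl

/-- Commuting in `SL_n` gives commuting matrices. -/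
lemma coe_comm {g h : Matrix.SpecialLinearGroup (Fin n) F} (hc : g * h = h * g) :
    (g : Matrix (Fin n) (Fin n) F) * (h : Matrix (Fin n) (Fin n) F) =
      (h : Matrix (Fin n) (Fin n) F) * (g : Matrix (Fin n) (Fin n) F) := by
  rw [← Matrix.SpecialLinearGroup.coe_mul, ← Matrix.SpecialLinearGroup.coe_mul, hc]

/-- The transvection `1 + E_al` as an element of `SL_n`. -/
def transvSL (a l : Fin n) (hal : a ≠ l) : Matrix.SpecialLinearGroup (Fin n) F :=
  ⟨Matrix.transvection a l 1, Matrix.det_transvection_of_ne a l hal 1⟩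

lemma coe_transvSL (a l : Fin n) (hal : a ≠ l) :
    ((transvSL (F := F) a l hal : Matrix.SpecialLinearGroup (Fin n) F) :
      Matrix (Fin n) (Fin n) F) = Matrix.transvection a l 1 := rfl

section Main

variable [Fintype F]

lemma eq_zero_or_one (hF : Fintype.card F = 2) (x : F) : x = 0 ∨ x = 1 := by
  classical
  have hsub : ({0, 1} : Finset F) ⊆ Finset.univ := Finset.subset_univ _
  have hcard : ({0, 1} : Finset F).card = 2 := Finset.card_pair zero_ne_one
  have : ({0, 1} : Finset F) = Finset.univ := by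
    apply Finset.eq_of_subset_of_card_le hsub
    rw [Finset.card_univ, hF, hcard]
  have hx : x ∈ ({0, 1} : Finset F) := by rw [this]; exact Finset.mem_univ x
  simpa using hx

lemma one_add_one (hF : Fintype.card F = 2) : (1 : F) + 1 = 0 := by
  rcases eq_zero_or_one hF ((1 : F) + 1) with h | h
  · exact h
  · exfalso
    have : (1 : F) = 0 := by
      have := congrArg (fun z => z - 1) h
      simp at this
    exact one_ne_zero this

/-- Main result: in the centraliser `C` of the transvection `t = 1 + E_ij` of `SL_n(2)`,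
`C_C(O_2(C)) ≤ O_2(C)`. -/
theorem centralizer_pCore_le (hF : Fintype.card F = 2) (i j : Fin n) (hij : i ≠ j)
    (t : Matrix.SpecialLinearGroup (Fin n) F)
    (ht : (t : Matrix (Fin n) (Fin n) F) = Matrix.transvection i j 1) :
    Subgroup.centralizer
      (pCore 2 ↥(Subgroup.centralizer ({t} : Set (Matrix.SpecialLinearGroup (Fin n) F))) :
        Set ↥(Subgroup.centralizer ({t} : Set (Matrix.SpecialLinearGroup (Fin n) F)))) ≤
      pCore 2 ↥(Subgroup.centralizer ({t} : Set (Matrix.SpecialLinearGroup (Fin n) F))) := by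
  classical
  set C := Subgroup.centralizer ({t} : Set (Matrix.SpecialLinearGroup (Fin n) F)) with hC
  have h01 := eq_zero_or_one hF
  have h2 := one_add_one hF
  -- elements of C fix e_i
  have hCcol : ∀ c : Matrix.SpecialLinearGroup (Fin n) F, c ∈ C →
      (c : Matrix (Fin n) (Fin n) F) *ᵥ Pi.single i 1 = Pi.single i 1 := by
    intro c hc
    have h1 : t * c = c * t := Subgroup.mem_centralizer_iff.mp hc t rfl
    have h3 := coe_comm h1.symm
    rw [ht] at h3
    exact mulVec_of_comm h01 c.det_coe h3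
  -- the row group lies in C
  have hRC : rowGroup (F := F) i ≤ C := by
    intro g hg
    rw [hC, Subgroup.mem_centralizer_iff]
    intro h hh
    rw [Set.mem_singleton_iff] at hh
    subst hh
    apply Subtype.ext
    change ((h * g : Matrix.SpecialLinearGroup (Fin n) F) : Matrix (Fin n) (Fin n) F) =
      ((g * h : Matrix.SpecialLinearGroup (Fin n) F) : Matrix (Fin n) (Fin n) F)
    rw [Matrix.SpecialLinearGroup.coe_mul, Matrix.SpecialLinearGroup.coe_mul, ht]
    exact (IsRow.comm_transvection hij hg).symm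
  set Q : Subgroup ↥C := (rowGroup (F := F) i).subgroupOf C with hQ
  have hQnormal : Q.Normal := by
    constructor
    intro q hq c
    rw [hQ, Subgroup.mem_subgroupOf] at hq ⊢
    change IsRow i (((c : Matrix.SpecialLinearGroup (Fin n) F) * q * (c : Matrix.SpecialLinearGroup (Fin n) F)⁻¹ : Matrix.SpecialLinearGroup (Fin n) F) : Matrix (Fin n) (Fin n) F)
    rw [Matrix.SpecialLinearGroup.coe_mul, Matrix.SpecialLinearGroup.coe_mul]
    exact IsRow.conj hq (hCcol c c.2) (coe_mul_inv _) (coe_inv_mul _)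
  have hQp : IsPGroup 2 Q := by
    intro q
    refine ⟨1, ?_⟩
    rw [pow_one, pow_two]
    have hq : IsRow i (((q : ↥C) : Matrix.SpecialLinearGroup (Fin n) F) : Matrix (Fin n) (Fin n) F) := by
      exact Subgroup.mem_subgroupOf.mp q.2
    apply Subtype.ext
    apply Subtype.ext
    apply Subtype.ext
    change ((((q : ↥C) : Matrix.SpecialLinearGroup (Fin n) F) * ((q : ↥C) : Matrix.SpecialLinearGroup (Fin n) F) : Matrix.SpecialLinearGroup (Fin n) F) : Matrix (Fin n) (Fin n) F) = ((1 : Matrix.SpecialLinearGroup (Fin n) F) : Matrix (Fin n) (Fin n) F)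
    rw [Matrix.SpecialLinearGroup.coe_mul, Matrix.SpecialLinearGroup.coe_one]
    exact IsRow.mul_self hq h2
  have hQle : Q ≤ pCore 2 ↥C := le_sSup ⟨hQnormal, hQp⟩
  intro g hg
  apply hQle
  rw [hQ, Subgroup.mem_subgroupOf, mem_rowGroup]
  have hgcol := hCcol g g.2
  have hgii : ((g : Matrix.SpecialLinearGroup (Fin n) F) : Matrix (Fin n) (Fin n) F) i i = 1 := by
    simpa using col_of_mulVec hgcol i
  apply isRow_of_rows (col_of_mulVec hgcol)
  intro l hl m
  -- g commutes with u_l = 1 + E_il
  have hu : transvSL (F := F) i l (Ne.symm hl) ∈ C :=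
    hRC (isRow_transvection (Ne.symm hl))
  have huQ : (⟨transvSL (F := F) i l (Ne.symm hl), hu⟩ : ↥C) ∈ pCore 2 ↥C := by
    apply hQle
    rw [hQ, Subgroup.mem_subgroupOf]
    exact isRow_transvection (Ne.symm hl)
  have hcomm := Subgroup.mem_centralizer_iff.mp hg _ huQ
  have hcomm' : transvSL (F := F) i l (Ne.symm hl) * (g : Matrix.SpecialLinearGroup (Fin n) F) =
      (g : Matrix.SpecialLinearGroup (Fin n) F) * transvSL (F := F) i l (Ne.symm hl) :=
    congrArg Subtype.val hcomm
  have h3 := coe_comm hcomm'.symm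
  rw [coe_transvSL] at h3
  exact row_of_comm hgii h3 m

end Main

end Cfsg.Agent.Helper19.TransvCent
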