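import Mathlib
import Cfsg.Agent.Lib.Helper93.U30

/-!
# U3 project (S2334), piece CN1: orbit bound for `m = 1`
(fibre counting: `t ↦ (t * t ^ q) • H₀` has fibres of size at most `q + 1` on `Fˣ`).
-/

set_option autoImplicit false

namespace Cfsg.Agent.Helper19.U3

open Matrix Cfsg.Agent.Helper13 Cfsg.Agent.Helper93.U2 Cfsg.Agent.Helper93.U3

variable {F : Type*} [Field F] [Fintype F] {q : ℕ} (hF : Fintype.card F = q ^ 2)

/-- piece CN1 (m = 1 orbit bound) -/
theorem orbit_bound_one (O : Set (Matrix (Fin 1) (Fin 1) F))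
    (hO : ∀ H ∈ O, cT hF H = H)
    (hcl : ∀ t : F, t ≠ 0 → ∀ H ∈ O, (t * t ^ q) • H ∈ O)
    (H₀ : Matrix (Fin 1) (Fin 1) F) (hH₀ : H₀ ∈ O) (hne : H₀ ≠ 0) :
    q ^ 2 - 1 ≤ (q + 1) * O.ncard := by
  classical
  have h00 : H₀ 0 0 ≠ 0 := by
    intro h
    apply hne
    ext i j
    rw [Subsingleton.elim i 0, Subsingleton.elim j 0, h]
    rfl
  obtain ⟨s, hs⟩ : ∃ s : Finset F, s = (Finset.univ : Finset F).erase 0 := ⟨_, rfl⟩
  obtain ⟨f, hf⟩ : ∃ f : F → Matrix (Fin 1) (Fin 1) F, f = fun t => (t * t ^ q) • H₀ := ⟨_, rfl⟩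
  have hcard : s.card = q ^ 2 - 1 := by
    rw [hs, Finset.card_erase_of_mem (Finset.mem_univ _), Finset.card_univ, hF]
  have himg : (↑(s.image f) : Set (Matrix (Fin 1) (Fin 1) F)) ⊆ O := by
    intro M hM
    rw [Finset.mem_coe, Finset.mem_image] at hM
    obtain ⟨t, ht, rfl⟩ := hM
    rw [hs] at ht
    rw [hf]
    exact hcl t (Finset.ne_of_mem_erase ht) H₀ hH₀
  have hfib : ∀ a ∈ s.image f, (s.filter fun x => f x = a).card ≤ q + 1 := by
    intro a ha
    rw [Finset.mem_image] at ha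
    obtain ⟨t₀, _, rfl⟩ := ha
    have hsub : (s.filter fun x => f x = f t₀) ⊆
        (Polynomial.nthRoots (q + 1) (t₀ ^ (q + 1))).toFinset := by
      intro x hx
      rw [Finset.mem_filter] at hx
      rw [Multiset.mem_toFinset, Polynomial.mem_nthRoots (Nat.succ_pos q)]
      have h1 := congrFun (congrFun hx.2 0) 0
      rw [hf] at h1
      simp only [Matrix.smul_apply, smul_eq_mul] at h1
      have h2 := mul_right_cancel₀ h00 h1
      rw [pow_succ', pow_succ', h2]
    calc (s.filter fun x => f x = f t₀).card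
        ≤ (Polynomial.nthRoots (q + 1) (t₀ ^ (q + 1))).toFinset.card := Finset.card_le_card hsub
      _ ≤ Multiset.card (Polynomial.nthRoots (q + 1) (t₀ ^ (q + 1))) :=
          Multiset.toFinset_card_le _
      _ ≤ q + 1 := Polynomial.card_nthRoots _ _
  have h1 := Finset.card_le_mul_card_image s (q + 1) hfib
  have h2 : (s.image f).card ≤ O.ncard := by
    rw [← Set.ncard_coe_finset]
    exact Set.ncard_le_ncard himg (Set.toFinite O)
  calc q ^ 2 - 1 = s.card := hcard.symm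
    _ ≤ (q + 1) * (s.image f).card := h1
    _ ≤ (q + 1) * O.ncard := Nat.mul_le_mul_left _ h2

end Cfsg.Agent.Helper19.U3
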