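import Mathlib
import Cfsg.Agent.Lib.Helper93.U30

/-!
# U3 project (S2334), piece UG4: a separating element for the Heisenberg commutator character.
-/

set_option autoImplicit false

namespace Cfsg.Agent.Helper19.U3

open Matrix Cfsg.Agent.Helper13 Cfsg.Agent.Helper93.U2 Cfsg.Agent.Helper93.U3

variable {F : Type*} [Field F] [Fintype F] {q : ℕ} (hF : Fintype.card F = q ^ 2)

include hF in
/-- piece UG4 (hF first explicit argument) -/
theorem exists_sep (ψ : AddChar F ℂ) (hψ : ψ 1 ≠ 1) (ε : F) (hε : ε ^ q = -ε) (hε0 : ε ≠ 0)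
    (c : F) (hc : c ≠ 0) (hcq : c ^ q = c) (d : F) (hd : d ≠ 0) :
    ∃ f : F, ψ (ε⁻¹ * ((f ^ q * d - d ^ q * f) * c)) ≠ 1 := by
  obtain ⟨e, he⟩ : ∃ e : F, e ^ q ≠ e := by
    by_contra hall
    push Not at hall
    exact frobQ_ne_id hF (RingHom.ext fun x => by simpa using hall x)
  have hdq : d ^ q ≠ 0 := pow_ne_zero _ hd
  obtain ⟨z₀, hz₀⟩ : ∃ z₀ : F, z₀ = ε⁻¹ * (((e * d) ^ q * d - d ^ q * (e * d)) * c) := ⟨_, rfl⟩
  have hz₀ne : z₀ ≠ 0 := by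
    rw [hz₀]
    have h1 : (e * d) ^ q * d - d ^ q * (e * d) = (e ^ q - e) * (d ^ q * d) := by ring
    rw [h1]
    exact mul_ne_zero (inv_ne_zero hε0)
      (mul_ne_zero (mul_ne_zero (sub_ne_zero.mpr he) (mul_ne_zero hdq hd)) hc)
  have hz₀q : z₀ ^ q = z₀ := by
    have hsub : ((e * d) ^ q * d - d ^ q * (e * d)) ^ q =
        ((e * d) ^ q * d) ^ q - (d ^ q * (e * d)) ^ q := by
      have h2 := map_sub (frobQ hF) ((e * d) ^ q * d) (d ^ q * (e * d))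
      simpa using h2
    have hA : ((e * d) ^ q * d) ^ q = (e * d) * d ^ q := by rw [mul_pow, frob_frob hF]
    have hB : (d ^ q * (e * d)) ^ q = d * (e * d) ^ q := by rw [mul_pow, frob_frob hF]
    rw [hz₀, mul_pow, mul_pow, inv_pow, hε, hsub, hA, hB, hcq, inv_neg]
    ring
  refine ⟨z₀⁻¹ * (e * d), ?_⟩
  have hzi : (z₀⁻¹) ^ q = z₀⁻¹ := by rw [inv_pow, hz₀q]
  have h3 : ε⁻¹ * (((z₀⁻¹ * (e * d)) ^ q * d - d ^ q * (z₀⁻¹ * (e * d))) * c) = 1 := by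
    rw [mul_pow, hzi, ← inv_mul_cancel₀ hz₀ne]
    linear_combination (-z₀⁻¹) * hz₀
  rw [h3]
  exact hψ

end Cfsg.Agent.Helper19.U3
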