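import Mathlib
import Cfsg.Agent.Lib.Helper98.WR0
import Cfsg.Agent.Lib.Helper19.SPEAux

set_option autoImplicit false

/-!
WR lemma server (helper98, S2347), piece (M1) `level_card_le`, by helper19.
-/

namespace Cfsg.Agent.Helper19.WR

open Matrix Cfsg.Agent.Helper98.SPE Cfsg.Agent.Helper98.WR Cfsg.Agent.Helper19.SPE

section CNT

variable {F : Type*} [Field F] {n : ℕ}

/-- `qv S (s • x + w) = c s² + qv S w` when `w ⟂ x` -/
theorem h19_qv_line (S : Matrix (Fin n) (Fin n) F) (x w : Fin n → F) (s : F)
    (hw : bv S w x = 0) : qv S (s • x + w) = qv S x * s ^ 2 + qv S w := by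
  rw [h19_qv_add, h19_qv_smul, h19_bv_smul_left, bv_symm S x w, hw]
  ring

variable [Fintype F] {q : ℕ} (hq : Fintype.card F = q)

include hq in
/-- piece M1 -/
theorem level_card_le (h2 : (2 : F) ≠ 0) (S : Matrix (Fin n) (Fin n) F) (x : Fin n → F)
    (hx : qv S x ≠ 0) (e : F) :
    {z : Fin n → F | qv S z = e}.ncard * q ≤ 2 * q ^ n := by
  classical
  have hbxx : bv S x x ≠ 0 := by
    rw [h19_bv_self]
    exact mul_ne_zero h2 hx
  -- the projection
  have hπ : ∀ z : Fin n → F, bv S (z - (bv S z x / bv S x x) • x) x = 0 := by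
    intro z
    have h1 : z - (bv S z x / bv S x x) • x = z + (-(bv S z x / bv S x x)) • x := by
      rw [neg_smul, sub_eq_add_neg]
    rw [h1, h19_bv_add_left, h19_bv_smul_left, neg_mul, div_mul_cancel₀ _ hbxx, add_neg_cancel]
  have hset : {z : Fin n → F | qv S z = e} =
      ↑(Finset.univ.filter (fun z : Fin n → F => qv S z = e)) := by
    ext z
    simp
  rw [hset, Set.ncard_coe_finset]
  -- fibre bound
  have hfib : (Finset.univ.filter (fun z : Fin n → F => qv S z = e)).card ≤
      2 * (Finset.univ.filter (fun w : Fin n → F => bv S w x = 0)).card := by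
    apply Finset.card_le_mul_card_image_of_maps_to
      (f := fun z : Fin n → F => z - (bv S z x / bv S x x) • x)
    · intro z _
      rw [Finset.mem_filter]
      exact ⟨Finset.mem_univ _, hπ z⟩
    · intro a ha
      have ha' : bv S a x = 0 := (Finset.mem_filter.1 ha).2
      by_cases hemp : (Finset.univ.filter (fun z : Fin n → F => qv S z = e)).filter
          (fun z => z - (bv S z x / bv S x x) • x = a) = ∅
      · rw [hemp]
        simp
      obtain ⟨z₁, hz₁⟩ := Finset.nonempty_iff_ne_empty.2 hemp
      rw [Finset.mem_filter, Finset.mem_filter] at hz₁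
      obtain ⟨⟨-, hz₁e⟩, hz₁a⟩ := hz₁
      have hz₁' : z₁ = (bv S z₁ x / bv S x x) • x + a := by
        rw [← hz₁a]
        abel
      have hsub : (Finset.univ.filter (fun z : Fin n → F => qv S z = e)).filter
          (fun z => z - (bv S z x / bv S x x) • x = a) ⊆
          {z₁, (-(bv S z₁ x / bv S x x)) • x + a} := by
        intro z hz
        rw [Finset.mem_filter, Finset.mem_filter] at hz
        obtain ⟨⟨-, hze⟩, hza⟩ := hz
        have hz' : z = (bv S z x / bv S x x) • x + a := by
          rw [← hza]
          abel
        have e1 : qv S x * (bv S z x / bv S x x) ^ 2 + qv S a = e := by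
          rw [← h19_qv_line S x a _ ha', ← hz', hze]
        have e2 : qv S x * (bv S z₁ x / bv S x x) ^ 2 + qv S a = e := by
          rw [← h19_qv_line S x a _ ha', ← hz₁', hz₁e]
        have e3 : (bv S z x / bv S x x) ^ 2 = (bv S z₁ x / bv S x x) ^ 2 := by
          have := add_right_cancel (e1.trans e2.symm)
          exact mul_left_cancel₀ hx this
        rw [Finset.mem_insert, Finset.mem_singleton]
        rcases sq_eq_sq_iff_eq_or_eq_neg.1 e3 with h | h
        · left
          rw [hz', hz₁', h]
        · right
          rw [hz', h]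
      exact (Finset.card_le_card hsub).trans Finset.card_le_two
  -- `#W * q ≤ q^n`
  have hW : (Finset.univ.filter (fun w : Fin n → F => bv S w x = 0)).card * q ≤ q ^ n := by
    have hle : ((Finset.univ.filter (fun w : Fin n → F => bv S w x = 0)) ×ˢ
        (Finset.univ : Finset F)).card ≤ (Finset.univ : Finset (Fin n → F)).card := by
      apply Finset.card_le_card_of_injOn (fun p : (Fin n → F) × F => p.2 • x + p.1)
      · intro p _
        exact Finset.mem_coe.2 (Finset.mem_univ _)
      · intro p hp p' hp' h
        rw [Finset.mem_coe, Finset.mem_product, Finset.mem_filter] at hp hp'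
        have h1 : p.2 • x + p.1 = p'.2 • x + p'.1 := h
        have h3 := congrArg (fun z => bv S z x) h1
        simp only [h19_bv_add_left, h19_bv_smul_left, hp.1.2, hp'.1.2, add_zero] at h3
        have h4 : p.2 = p'.2 := mul_right_cancel₀ hbxx h3
        rw [h4] at h1
        exact Prod.ext (add_left_cancel h1) h4
    rw [Finset.card_product, Finset.card_univ, Finset.card_univ, Fintype.card_fun,
      Fintype.card_fin, hq] at hle
    exact hle
  calc (Finset.univ.filter (fun z : Fin n → F => qv S z = e)).card * q
      ≤ (2 * (Finset.univ.filter (fun w : Fin n → F => bv S w x = 0)).card) * q :=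
        Nat.mul_le_mul_right _ hfib
    _ = 2 * ((Finset.univ.filter (fun w : Fin n → F => bv S w x = 0)).card * q) := by ring
    _ ≤ 2 * q ^ n := Nat.mul_le_mul_left _ hW

end CNT

end Cfsg.Agent.Helper19.WR
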