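import Mathlib
import Cfsg.Agent.Lib.Helper98.WR0
import Cfsg.Agent.Lib.Helper22.SPEQ6
import Cfsg.Agent.Lib.Helper19.SPEAux

set_option autoImplicit false

/-!
WR lemma server (helper98, S2347), piece (M2) `count_lower`, by helper19.
-/

namespace Cfsg.Agent.Helper19.WR

open Matrix Cfsg.Agent.Helper98.SPE Cfsg.Agent.Helper98.WR

section CNT

variable {F : Type*} [Field F] {n : ℕ}

theorem h19_qv_zero (S : Matrix (Fin n) (Fin n) F) : qv S (0 : Fin n → F) = 0 := by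
  unfold qv
  simp

theorem h19_bv_congQ (g S : Matrix (Fin n) (Fin n) F) (x y : Fin n → F) :
    bv (congQ g S) x y = bv S (g *ᵥ x) (g *ᵥ y) := by
  unfold bv
  rw [Cfsg.Agent.Helper22.SPE.qv_congQ, Cfsg.Agent.Helper22.SPE.qv_congQ,
    Cfsg.Agent.Helper22.SPE.qv_congQ, Matrix.mulVec_add]

theorem h19_shear_mulVec (x φ z : Fin n → F) :
    (1 + vecMulVec x φ) *ᵥ z = z + (φ ⬝ᵥ z) • x := by
  rw [Matrix.add_mulVec, Matrix.one_mulVec, vecMulVec_mulVec, op_smul_eq_smul]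

/-- the shear `1 + x φᵀ` with `φ ⬝ᵥ x = 0` as an element of `GL` -/
theorem h19_exists_shear (x φ : Fin n → F) (hφ : φ ⬝ᵥ x = 0) :
    ∃ g : GL (Fin n) F, (g : Matrix (Fin n) (Fin n) F) = 1 + vecMulVec x φ := by
  have hVV : vecMulVec x φ * vecMulVec x φ = 0 := by
    rw [vecMulVec_mul_vecMulVec, hφ, zero_smul, vecMulVec_zero]
  refine ⟨⟨1 + vecMulVec x φ, 1 - vecMulVec x φ, ?_, ?_⟩, rfl⟩
  · rw [add_mul, mul_sub, mul_sub, one_mul, mul_one, one_mul, hVV]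
    abel
  · rw [sub_mul, mul_add, mul_add, one_mul, mul_one, one_mul, hVV]
    abel

variable [Fintype F] {q : ℕ} (hq : Fintype.card F = q)

include hq in
/-- piece M2 -/
theorem count_lower (h2 : (2 : F) ≠ 0) (O : Set (Matrix (Fin n) (Fin n) F))
    (hcl : ∀ g : GL (Fin n) F, ∀ S ∈ O, congQ (g : Matrix (Fin n) (Fin n) F) S ∈ O)
    (S₁ : Matrix (Fin n) (Fin n) F) (hS₁ : S₁ ∈ O) (x : Fin n → F) (hx : qv S₁ x ≠ 0) :
    q ^ n ≤ q * {S' ∈ O | qv S' x = qv S₁ x}.ncard := by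
  classical
  have hx0 : x ≠ 0 := by
    rintro rfl
    exact hx (h19_qv_zero S₁)
  obtain ⟨i₀, hi₀⟩ := Function.ne_iff.1 hx0
  have hi₀' : x i₀ ≠ 0 := hi₀
  have hbxx : bv S₁ x x ≠ 0 := by
    rw [Cfsg.Agent.Helper19.SPE.h19_bv_self]
    exact mul_ne_zero h2 hx
  have hT : ({S' ∈ O | qv S' x = qv S₁ x} : Set (Matrix (Fin n) (Fin n) F)).Finite :=
    Set.toFinite _
  -- step 1 : `q^n ≤ q * #Φ`
  have h1 : q ^ n ≤ q * {φ : Fin n → F | φ ⬝ᵥ x = 0}.ncard := by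
    have hle : (Set.univ : Set (Fin n → F)).ncard ≤
        ((Set.univ : Set F) ×ˢ {φ : Fin n → F | φ ⬝ᵥ x = 0}).ncard := by
      apply Set.ncard_le_ncard_of_injOn
        (fun ψ : Fin n → F => (ψ ⬝ᵥ x, ψ - ((ψ ⬝ᵥ x) / x i₀) • Pi.single i₀ (1 : F)))
      · intro ψ _
        refine ⟨Set.mem_univ _, ?_⟩
        show (ψ - ((ψ ⬝ᵥ x) / x i₀) • Pi.single i₀ (1 : F)) ⬝ᵥ x = 0
        rw [sub_dotProduct, smul_dotProduct, single_dotProduct, one_mul, smul_eq_mul,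
          div_mul_cancel₀ _ hi₀', sub_self]
      · intro ψ _ ψ' _ h
        simp only [Prod.mk.injEq] at h
        obtain ⟨ha, hb⟩ := h
        rw [ha] at hb
        exact sub_left_injective hb
    simp only [Set.ncard_univ, Set.ncard_prod, Nat.card_eq_fintype_card, Fintype.card_fun,
      Fintype.card_fin, hq] at hle
    exact hle
  -- step 2 : `#Φ ≤ #T`
  have h3 : {φ : Fin n → F | φ ⬝ᵥ x = 0}.ncard ≤ {S' ∈ O | qv S' x = qv S₁ x}.ncard := by
    apply Set.ncard_le_ncard_of_injOn (fun φ : Fin n → F => congQ (1 + vecMulVec x φ) S₁) _ _ hT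
    · intro φ hφ
      have hφ' : φ ⬝ᵥ x = 0 := hφ
      obtain ⟨g, hg⟩ := h19_exists_shear x φ hφ'
      refine ⟨?_, ?_⟩
      · have := hcl g S₁ hS₁
        rwa [hg] at this
      · show qv (congQ (1 + vecMulVec x φ) S₁) x = qv S₁ x
        rw [Cfsg.Agent.Helper22.SPE.qv_congQ, h19_shear_mulVec, hφ', zero_smul, add_zero]
    · intro φ hφ φ' hφ' h
      have hφ0 : φ ⬝ᵥ x = 0 := hφ
      have hφ'0 : φ' ⬝ᵥ x = 0 := hφ'
      have key : ∀ ϕ : Fin n → F, ϕ ⬝ᵥ x = 0 → ∀ z : Fin n → F,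
          bv (congQ (1 + vecMulVec x ϕ) S₁) z x = bv S₁ z x + (ϕ ⬝ᵥ z) * bv S₁ x x := by
        intro ϕ hϕ z
        rw [h19_bv_congQ, h19_shear_mulVec, h19_shear_mulVec, hϕ, zero_smul, add_zero,
          Cfsg.Agent.Helper19.SPE.h19_bv_add_left, Cfsg.Agent.Helper19.SPE.h19_bv_smul_left]
      funext i
      have e1 := key φ hφ0 (Pi.single i 1)
      have e2 := key φ' hφ'0 (Pi.single i 1)
      have h' : congQ (1 + vecMulVec x φ) S₁ = congQ (1 + vecMulVec x φ') S₁ := h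
      rw [h'] at e1
      have e3 := add_left_cancel (e1.symm.trans e2)
      have e4 := mul_right_cancel₀ hbxx e3
      rwa [dotProduct_single, dotProduct_single, mul_one, mul_one] at e4
  calc q ^ n ≤ q * {φ : Fin n → F | φ ⬝ᵥ x = 0}.ncard := h1
    _ ≤ q * {S' ∈ O | qv S' x = qv S₁ x}.ncard := Nat.mul_le_mul_left _ h3

end CNT

end Cfsg.Agent.Helper19.WR
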