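import Mathlib
import Cfsg.Agent.Lib.Helper98.WR0
import Cfsg.Agent.Lib.Helper19.WRM2

set_option autoImplicit false

/-!
WR lemma server (helper98, S2347), piece (M3) `orbit_bound_odd`: the core, with (M0) and (M1) as
hypotheses (monomorphic in `F n q`), by helper19.
-/

namespace Cfsg.Agent.Helper19.WR

open Matrix Cfsg.Agent.Helper98.SPE Cfsg.Agent.Helper98.WR

section CNT

variable {F : Type*} [Field F] {n : ℕ}
variable [Fintype F] {q : ℕ} (hq : Fintype.card F = q)

include hq in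
/-- (M3) with (M0), (M1) as hypotheses -/
theorem orbit_bound_odd_core
    (hM0 : ∀ x x₀ : Fin n → F, x ≠ 0 → x₀ ≠ 0 →
      ∃ g : GL (Fin n) F, (g : Matrix (Fin n) (Fin n) F) *ᵥ x = x₀)
    (hM1 : ∀ (S : Matrix (Fin n) (Fin n) F) (x : Fin n → F), qv S x ≠ 0 → ∀ e : F,
      {z : Fin n → F | qv S z = e}.ncard * q ≤ 2 * q ^ n)
    (h2 : (2 : F) ≠ 0) (O : Set (Matrix (Fin n) (Fin n) F))
    (hcl : ∀ g : GL (Fin n) F, ∀ S ∈ O, congQ (g : Matrix (Fin n) (Fin n) F) S ∈ O)
    (S₀ : Matrix (Fin n) (Fin n) F) (hS₀ : S₀ ∈ O) (x : Fin n → F) (hx : qv S₀ x ≠ 0) :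
    q ^ n - 1 ≤ 2 * O.ncard := by
  classical
  have hx0 : x ≠ 0 := by
    rintro rfl
    exact hx (h19_qv_zero S₀)
  have hOfin : O.Finite := Set.toFinite O
  have hXcard : (Finset.univ.filter (fun x' : Fin n → F => x' ≠ 0)).card = q ^ n - 1 := by
    rw [Finset.filter_ne' Finset.univ (0 : Fin n → F),
      Finset.card_erase_of_mem (Finset.mem_univ _), Finset.card_univ, Fintype.card_fun,
      Fintype.card_fin, hq]
  have hlow : (q ^ n - 1) * q ^ n ≤
      q * ∑ x' ∈ Finset.univ.filter (fun x' : Fin n → F => x' ≠ 0),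
        ∑ S' ∈ hOfin.toFinset, (if qv S' x' = qv S₀ x then 1 else 0) := by
    rw [← hXcard, Finset.mul_sum, Finset.card_eq_sum_ones, Finset.sum_mul]
    apply Finset.sum_le_sum
    intro x' hx'
    have hx'0 : x' ≠ 0 := (Finset.mem_filter.1 hx').2
    obtain ⟨g, hg⟩ := hM0 x' x hx'0 hx0
    have hS₁ : congQ (g : Matrix (Fin n) (Fin n) F) S₀ ∈ O := hcl g S₀ hS₀
    have hq1 : qv (congQ (g : Matrix (Fin n) (Fin n) F) S₀) x' = qv S₀ x := by
      rw [Cfsg.Agent.Helper22.SPE.qv_congQ, hg]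
    have hcount := count_lower hq h2 O hcl (congQ (g : Matrix (Fin n) (Fin n) F) S₀) hS₁ x'
      (by rw [hq1]; exact hx)
    rw [hq1] at hcount
    have hset : {S' ∈ O | qv S' x' = qv S₀ x} =
        ↑(hOfin.toFinset.filter (fun S' => qv S' x' = qv S₀ x)) := by
      ext S'
      simp
    rw [hset, Set.ncard_coe_finset, Finset.card_filter] at hcount
    rw [one_mul]
    exact hcount
  have hup : (∑ x' ∈ Finset.univ.filter (fun x' : Fin n → F => x' ≠ 0),
        ∑ S' ∈ hOfin.toFinset, (if qv S' x' = qv S₀ x then 1 else 0)) * q ≤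
      O.ncard * (2 * q ^ n) := by
    rw [Finset.sum_comm, Finset.sum_mul, Set.ncard_eq_toFinset_card O hOfin,
      Finset.card_eq_sum_ones, Finset.sum_mul]
    apply Finset.sum_le_sum
    intro S' _
    rw [one_mul]
    have h1 : (∑ x' ∈ Finset.univ.filter (fun x' : Fin n → F => x' ≠ 0),
        (if qv S' x' = qv S₀ x then 1 else 0)) ≤ {z : Fin n → F | qv S' z = qv S₀ x}.ncard := by
      rw [← Finset.card_filter]
      have hset : {z : Fin n → F | qv S' z = qv S₀ x} =
          ↑(Finset.univ.filter (fun z : Fin n → F => qv S' z = qv S₀ x)) := by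
        ext z
        simp
      rw [hset, Set.ncard_coe_finset]
      apply Finset.card_le_card
      intro z hz
      rw [Finset.mem_filter] at hz ⊢
      exact ⟨Finset.mem_univ _, hz.2⟩
    by_cases hne : ∃ z, qv S' z = qv S₀ x
    · obtain ⟨z, hz⟩ := hne
      have := hM1 S' z (by rw [hz]; exact hx) (qv S₀ x)
      exact (Nat.mul_le_mul_right q h1).trans this
    · push Not at hne
      have h0 : (∑ x' ∈ Finset.univ.filter (fun x' : Fin n → F => x' ≠ 0),
          (if qv S' x' = qv S₀ x then 1 else 0)) = 0 :=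
        Finset.sum_eq_zero (fun x' _ => if_neg (hne x'))
      rw [h0, zero_mul]
      exact Nat.zero_le _
  have hq0 : 0 < q := by
    rw [← hq]
    exact Fintype.card_pos
  have hqn : 0 < q ^ n := Nat.pow_pos hq0
  have hfin : (q ^ n - 1) * q ^ n ≤ (2 * O.ncard) * q ^ n := by
    calc (q ^ n - 1) * q ^ n ≤ q * _ := hlow
      _ = _ * q := mul_comm _ _
      _ ≤ O.ncard * (2 * q ^ n) := hup
      _ = (2 * O.ncard) * q ^ n := by ring
  exact Nat.le_of_mul_le_mul_right hfin hqn

end CNT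

end Cfsg.Agent.Helper19.WR
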