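import Mathlib
import Cfsg.Agent.Lib.Helper98.WR0
import Cfsg.Agent.Lib.Helper28.WRM0
import Cfsg.Agent.Lib.Helper19.WRM1
import Cfsg.Agent.Lib.Helper19.WRM3core

set_option autoImplicit false

/-!
WR lemma server (helper98, S2347), piece (M3) `orbit_bound_odd`, by helper19:
`WRM3core.orbit_bound_odd_core` fed with (M0) (helper28) and (M1).
-/

namespace Cfsg.Agent.Helper19.WR

open Matrix Cfsg.Agent.Helper98.SPE Cfsg.Agent.Helper98.WR

section CNT

variable {F : Type*} [Field F] {n : ℕ}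
variable [Fintype F] {q : ℕ} (hq : Fintype.card F = q)

include hq in
/-- piece M3 -/
theorem orbit_bound_odd (h2 : (2 : F) ≠ 0) (O : Set (Matrix (Fin n) (Fin n) F))
    (hcl : ∀ g : GL (Fin n) F, ∀ S ∈ O, congQ (g : Matrix (Fin n) (Fin n) F) S ∈ O)
    (S₀ : Matrix (Fin n) (Fin n) F) (hS₀ : S₀ ∈ O) (x : Fin n → F) (hx : qv S₀ x ≠ 0) :
    q ^ n - 1 ≤ 2 * O.ncard :=
  orbit_bound_odd_core hq
    (fun a b ha hb => Cfsg.Agent.Helper28.WR.exists_gl_vec a b ha hb)
    (fun S y hy e => level_card_le hq h2 S y hy e) h2 O hcl S₀ hS₀ x hx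

end CNT

end Cfsg.Agent.Helper19.WR
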