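import Mathlib
import Cfsg.Prelude.Def_LieExceptional
import Cfsg.Agent.S0738
import Cfsg.Agent.S0740
import Cfsg.Agent.Lib.Helper96.Zassenhaus
import Cfsg.Agent.Lib.Helper19.ZassInvol

set_option autoImplicit false

/-! The structure equation `(v u₀)³ = 1` in a Zassenhaus group whose point stabiliser has a regular
normal abelian `2`-subgroup `U`, under the Feit bound `|Ω| - 2 ≤ 2 |G_{ab}|`. -/

namespace Cfsg.Agent.Helper19.ZassStructEq

open MulAction

variable {G Ω : Type*} [Group G] [Finite G] [MulAction G Ω] [Fintype Ω]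

theorem structure_equation (hZ : Cfsg.IsZassenhausGroup G Ω) {a : Ω}
    (U : Subgroup G) (hUle : U ≤ stabilizer G a)
    (hUn : ∀ h ∈ stabilizer G a, ∀ u ∈ U, h * u * h⁻¹ ∈ U)
    (hreg : ∀ c d : Ω, c ≠ a → d ≠ a → ∃! u : U, (u : G) • c = d)
    (hU2 : IsPGroup 2 U)
    (v : G) (hv1 : v ≠ 1) (hv2 : v * v = 1) (hva : v • a ≠ a)
    (hbound : Fintype.card Ω - 2 ≤ 2 * Nat.card ↥(stabilizer G a ⊓ stabilizer G (v • a))) :
    ∃! u₀ : G, u₀ ∈ U ∧ u₀ ≠ 1 ∧ v * u₀ * v = u₀ * v * u₀ := by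
  classical
  obtain ⟨b, hb⟩ : ∃ b : Ω, b = v • a := ⟨_, rfl⟩
  rw [← hb] at hbound
  have hab : a ≠ b := fun h => hva (by rw [← hb]; exact h.symm)
  have hvb : v • b = a := by rw [hb, ← mul_smul, hv2, one_smul]
  have hva' : v • a = b := hb.symm
  have h2 := hZ.2.1
  -- normality in `subgroupOf` form
  have hFn : (U.subgroupOf (stabilizer G a)).Normal := by
    constructor
    intro n hn g
    rw [Subgroup.mem_subgroupOf] at hn ⊢
    simpa using hUn g.1 g.2 n.1 hn
  obtain ⟨_, p, f, hp, hexp, hcard⟩ := Cfsg.Agent.S0738.result hZ hab hbound U hUle hFn hreg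
  have h3 : 3 ≤ Fintype.card Ω := Cfsg.Agent.Helper96.zass_card_ge_three hZ
  have hUa : ∀ u ∈ U, u • a = a := fun u hu => mem_stabilizer_iff.mp (hUle hu)
  -- non-identity elements of `U` fix only `a`
  have hUfix : ∀ u ∈ U, u ≠ 1 → ∀ c : Ω, u • c = c → c = a := by
    intro u hu hu1 c hc
    by_contra hca
    obtain ⟨w, _, hw⟩ := hreg c c hca hca
    have h1 := hw ⟨u, hu⟩ hc
    have h2 := hw 1 (one_smul _ _)
    exact hu1 (congrArg Subtype.val (h1.trans h2.symm))
  -- a third point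
  obtain ⟨c, hca, hcb⟩ : ∃ c : Ω, c ≠ a ∧ c ≠ b := by
    by_contra hno
    push Not at hno
    have hsub : (Finset.univ : Finset Ω) ⊆ {a, b} := by
      intro c _
      by_cases hc : c = a
      · simp [hc]
      · simp [hno c hc]
    have hle := Finset.card_le_card hsub
    have hle2 : ({a, b} : Finset Ω).card ≤ 2 := Finset.card_le_two
    rw [Finset.card_univ] at hle
    omega
  -- `p = 2`
  have hp2 : p = 2 := by
    obtain ⟨u₁, hu₁⟩ := (hreg b c hab.symm hca).exists
    have hu11 : (u₁ : G) ≠ 1 := by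
      intro h1
      rw [h1, one_smul] at hu₁
      exact hcb hu₁.symm
    have hord : orderOf (u₁ : G) = p := by
      have hdvd := orderOf_dvd_of_pow_eq_one (hexp u₁ u₁.2)
      rcases (Nat.dvd_prime hp).mp hdvd with h | h
      · exact absurd (orderOf_eq_one_iff.mp h) hu11
      · exact h
    obtain ⟨k, hk⟩ := hU2 u₁
    have hk' : (u₁ : G) ^ 2 ^ k = 1 := by
      have := congrArg Subtype.val hk
      simpa using this
    have hdvd2 : p ∣ 2 ^ k := hord ▸ orderOf_dvd_of_pow_eq_one hk'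
    exact (Nat.prime_dvd_prime_iff_eq hp Nat.prime_two).mp (hp.dvd_of_dvd_pow hdvd2)
  subst hp2
  have hsq : ∀ u ∈ U, u * u = 1 := fun u hu => by rw [← pow_two]; exact hexp u hu
  -- `|Ω|` is odd
  have hf : f ≠ 0 := by
    rintro rfl
    rw [hcard] at h3
    norm_num at h3
  have hΩodd : Odd (Fintype.card Ω) := by
    rw [hcard]
    exact Even.add_one ((Nat.even_pow' hf).mpr even_two)
  -- the two-point stabilisers have odd order
  have hUcard : Nat.card U + 1 = Fintype.card Ω := by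
    have e : U ≃ {z : Ω // ¬ z = a} := Equiv.ofBijective
      (fun u => ⟨(u : G) • b, by
        intro h
        have : (u : G) • b = (u : G) • a := by rw [h, hUa u u.2]
        exact hab (smul_left_cancel _ this).symm⟩) ⟨by
          intro u w huw
          have huw' : (u : G) • b = (w : G) • b := congrArg Subtype.val huw
          obtain ⟨x, _, hx⟩ := hreg b ((w : G) • b) hab.symm (by
            intro h
            have : (w : G) • b = (w : G) • a := by rw [h, hUa w w.2]
            exact hab (smul_left_cancel _ this).symm)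
          exact (hx u huw').trans (hx w rfl).symm, by
          rintro ⟨z, hz⟩
          obtain ⟨u, hu, -⟩ := hreg b z hab.symm hz
          exact ⟨u, Subtype.ext hu⟩⟩
    rw [Nat.card_congr e, Nat.card_eq_fintype_card, Fintype.card_subtype_compl,
      Fintype.card_subtype_eq]
    omega
  have hfree : ∀ g : G, g • a = a → g • b = b → ∀ y : Ω, y ≠ a → y ≠ b → g • y = y → g = 1 :=
    fun g ha hb y hya hyb hy => hZ.2.2.1 g a b y hab (Ne.symm hyb) (Ne.symm hya) ha hb hy
  have hdvd : Nat.card ↥(stabilizer G a ⊓ stabilizer G b) ∣ Nat.card U - 1 :=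
    Cfsg.Agent.S0738.card_sub_one_dvd hfree hab U hUle
      (fun u hu hub => by
        by_contra hu1
        exact hab.symm (hUfix u hu hu1 b hub))
      (fun h hh u hu => hUn h (Subgroup.mem_inf.mp hh).1 u hu)
  have hodd : Odd (Nat.card ↥(stabilizer G a ⊓ stabilizer G b)) := by
    apply Odd.of_dvd_nat _ hdvd
    have h1 : Nat.card U = 2 ^ f := by omega
    rw [h1]
    have : Even (2 ^ f) := (Nat.even_pow' hf).mpr even_two
    have hpos : 0 < 2 ^ f := by positivity
    exact Nat.Even.sub_odd hpos this odd_one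
  have hodd' : ∀ c d : Ω, c ≠ d → Odd (Nat.card ↥(stabilizer G c ⊓ stabilizer G d)) := by
    intro c d hcd
    rw [Cfsg.Agent.Helper19.ZassH.card_stab_inf_eq h2 hab hcd]
    exact hodd
  -- the fixed point of `v`
  have hvord : orderOf v = 2 := orderOf_eq_prime (by rw [pow_two]; exact hv2) hv1
  obtain ⟨c₀, hc₀⟩ : ∃ c₀ : Ω, v • c₀ = c₀ := by
    have hpar := Cfsg.Agent.S0740.fixedBy_parity (Ω := Ω) v hvord
    have hne : Nat.card (fixedBy Ω v) ≠ 0 := by
      intro h0
      rw [h0] at hpar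
      have := Nat.odd_iff.mp hΩodd
      unfold Nat.ModEq at hpar
      omega
    obtain ⟨⟨c₀, hc₀⟩, _⟩ := Nat.card_ne_zero.mp hne
    exact ⟨c₀, hc₀⟩
  have hc₀a : c₀ ≠ a := by
    rintro rfl
    exact hva hc₀
  have hc₀b : c₀ ≠ b := by
    rintro rfl
    rw [hvb] at hc₀
    exact hab hc₀
  have hfixv : ∀ d : Ω, v • d = d → d = c₀ := fun d hd =>
    Cfsg.Agent.Helper19.ZassInvol.fix_unique hodd' hvord hd hc₀
  obtain ⟨u₀, hu₀b, hu₀uniq⟩ := hreg b c₀ hab.symm hc₀a
  have hu₀b' : (u₀ : G) • b = c₀ := hu₀b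
  have hu₀1 : (u₀ : G) ≠ 1 := by
    intro h1
    rw [h1, one_smul] at hu₀b'
    exact hc₀b hu₀b'.symm
  have hu₀sq : (u₀ : G) * u₀ = 1 := hsq u₀ u₀.2
  have hu₀c : (u₀ : G) • c₀ = b := by
    rw [← hu₀b', ← mul_smul, hu₀sq, one_smul]
  have hu₀a : (u₀ : G) • a = a := hUa u₀ u₀.2
  refine ⟨u₀, ⟨u₀.2, hu₀1, ?_⟩, ?_⟩
  · -- existence
    have hg : (u₀ : G) * v * u₀ * v * u₀ * v = 1 := by
      apply hZ.2.2.1 _ a b c₀ hab (Ne.symm hc₀b) (Ne.symm hc₀a)
      · simp only [mul_smul]
        rw [hva', hu₀b', hc₀, hu₀c, hvb, hu₀a]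
      · simp only [mul_smul]
        rw [hvb, hu₀a, hva', hu₀b', hc₀, hu₀c]
      · simp only [mul_smul]
        rw [hc₀, hu₀c, hvb, hu₀a, hva', hu₀b']
    have hinv : ((u₀ : G) * v * u₀)⁻¹ = (u₀ : G) * v * u₀ := by
      rw [inv_eq_iff_mul_eq_one]
      calc (u₀ : G) * v * u₀ * (u₀ * v * u₀) = u₀ * v * (u₀ * u₀) * v * u₀ := by group
        _ = u₀ * (v * v) * u₀ := by rw [hu₀sq]; group
        _ = 1 := by rw [hv2, mul_one, hu₀sq]
    have h1 : (u₀ : G) * v * u₀ * (v * u₀ * v) = 1 := by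
      rw [← hg]; group
    rw [← hinv]
    exact (inv_eq_of_mul_eq_one_right h1).symm
  · -- uniqueness
    rintro u ⟨huU, hu1, hu⟩
    have h1 : v • (u • b) = u • b := by
      have := congrArg (fun g : G => g • a) hu
      simp only [mul_smul] at this
      rw [hva', hUa u huU, hva'] at this
      exact this
    have h2 : u • b = c₀ := hfixv _ h1
    have := hu₀uniq ⟨u, huU⟩ h2
    exact congrArg Subtype.val this

end Cfsg.Agent.Helper19.ZassStructEq
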